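import Cfsg.Agent.Lib.Block.ExtraThree.CentralBasic

/-!
# The six rows of units and the functions they define on regular elements

For every row different from the special ones the difference with the first special row has norm
one on regular elements, and it is, up to sign, the restriction of one faithful member for each
of the two nontrivial scalars.
-/

set_option autoImplicit false
set_option linter.unusedSectionVars false
set_option linter.style.haveILetI false
set_option maxHeartbeats 800000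

namespace Cfsg.Lib.Block.ExtraThree

open Cfsg Cfsg.Lib Cfsg.Lib.Block Subgroup
open scoped ComplexConjugate Classical

universe u

noncomputable local instance (priority := high) fintypeSubgroupCentralMain {A : Type u} [Group A]
    [Fintype A] (B : Subgroup A) : Fintype B := Fintype.ofFinite B

theorem pReg_of_reg {A : Type u} [Group A] [Fintype A] [Fact (Nat.Prime 3)] {g : A}
    (hg : IsPRegular 3 g) : pReg 3 g = g :=
  (eq_pReg (x := (1 : A)) (k := 0) (one_mul g) (Commute.one_left g) (by simp) hg).symm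

variable {A : Type u} [Group A] [Fintype A] {z : A} {c : ℕ} {X : Fin c → A} {M : Ideal AlgInt}
  (L : Local z X) (hz : z ∈ center A) (hM : IsPModular 3 M)

include L hz hM in
theorem Local.exists_faithful : ∃ ψ : Blk M A, ψ ∉ unitRows M A := by
  haveI : Fact (Nat.Prime 3) := ⟨Nat.prime_three⟩
  by_contra! hall
  have h := L.kernel hz hM (one_pow 3) (s := (1 : A)) (t := 1) (by simp [IsPRegular])
    (by simp [IsPRegular])
  rw [regKer, ← finsum_mem_eq_toFinset_sum,
    ← sum_blk (fun χ : IrrCharacter A => (χ : A → ℂ) 1 * conj ((χ : A → ℂ) 1)),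
    Finset.sum_congr rfl fun χ _ => if_pos (L.scal_of_mem hz hM (hall χ))] at h
  have h2 : ∑ χ : Blk M A, ((charDegree (χ.1 : A → ℂ) : ℂ) * charDegree (χ.1 : A → ℂ)) = 0 := by
    have e : ∀ χ : Blk M A, (χ.1 : A → ℂ) 1 * conj ((χ.1 : A → ℂ) 1) =
        (charDegree (χ.1 : A → ℂ) : ℂ) * charDegree (χ.1 : A → ℂ) := fun χ => by
      rw [apply_one_eq_charDegree, Complex.conj_natCast]
    simp only [e] at h
    linear_combination h / 2
  have h3 : ∑ χ : Blk M A, charDegree (χ.1 : A → ℂ) * charDegree (χ.1 : A → ℂ) = 0 := by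
    exact_mod_cast h2
  have := (Finset.sum_eq_zero_iff.1 h3) (tauBlk hM) (Finset.mem_univ _)
  have hpos := charDegree_pos (tauBlk (A := A) hM).1
  have := Nat.mul_pos hpos hpos
  omega

include L hz hM in
/-- A faithful member is an integral combination of rows of units on regular elements. -/
theorem Local.exists_coeff (ψ : Blk M A) :
    ∃ n : Blk M A → ℤ, ∀ χ : Blk M A, rIn (ψ.1 : A → ℂ) (χ.1 : A → ℂ) =
      ∑ η ∈ unitRows M A, (n η : ℂ) * rIn (η.1 : A → ℂ) (χ.1 : A → ℂ) := by
  haveI : Fact (Nat.Prime 3) := ⟨Nat.prime_three⟩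
  set θ : A → ℂ := fun a => (ψ.1 : A → ℂ) (pReg 3 a) with hθ
  have hgen : IsGeneralizedCharacter A θ := isGeneralized_comp_pReg ψ.1.2.isCharacter
  have hint : ∀ η : IrrCharacter A, ∃ n : ℤ, classInner θ (η : A → ℂ) = n := fun η =>
    hgen.exists_int_classInner ⟨η, 0, η.2.isCharacter, Char.isCharacter_zero, (sub_zero _).symm⟩
  choose n hn using hint
  have hzinv : ∀ a, θ (z * a) = θ a := fun a => by
    simp only [hθ]
    obtain ⟨k, hk⟩ := exists_orderOf_pPt (p := 3) a
    have hcz : ∀ b, Commute z b := fun b => (mem_center_iff.1 hz b).symm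
    have hz3 : z ^ 3 = 1 := orderOf_dvd_iff_pow_eq_one.1 (L.z_order ▸ dvd_rfl)
    have hpow : (z * pPt 3 a) ^ 3 ^ (k + 1) = 1 := by
      rw [(hcz _).mul_pow, pow_succ 3 k, pow_mul' z, hz3, one_pow, one_mul, pow_mul, ← hk,
        pow_orderOf_eq_one, one_pow]
    obtain ⟨i, -, hi⟩ := (Nat.dvd_prime_pow Nat.prime_three).1 (orderOf_dvd_of_pow_eq_one hpow)
    exact congrArg (ψ.1 : A → ℂ) (eq_pReg (by rw [mul_assoc, pPt_mul_pReg])
      (Commute.mul_left (hcz _) (pPt_commute_pReg a)) hi (not_dvd_orderOf_pReg a)).symm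
  have hzero : ∀ η : IrrCharacter A, scal z (η : A → ℂ) ≠ 1 → n η = 0 := by
    intro η hη
    have h : classInner θ (η : A → ℂ) = conj (scal z (η : A → ℂ)) * classInner θ (η : A → ℂ) := by
      simp only [classInner]
      conv_lhs => rw [← Equiv.sum_comp (Equiv.mulLeft z)]
      simp only [Finset.mul_sum, Equiv.coe_mulLeft, hzinv, scal_spec hz, map_mul]
      exact Finset.sum_congr rfl fun a _ => by ring
    rw [hn] at h
    have hc : conj (scal z (η : A → ℂ)) ≠ 1 := fun e => hη (by
      rw [← Complex.conj_conj (scal z (η : A → ℂ)), e, map_one])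
    have : ((n η : ℂ)) * (1 - conj (scal z (η : A → ℂ))) = 0 := by linear_combination h
    exact_mod_cast (mul_eq_zero.1 this).resolve_right (sub_ne_zero.2 hc.symm)
  refine ⟨fun η => n η.1, fun χ => ?_⟩
  rw [rIn_congr_left _ (f' := θ) fun y hy => by simp only [hθ, pReg_of_reg hy]]
  conv_lhs => rw [Char.eq_sum_classInner hgen.isClassFunction,
    show (∑ η : IrrCharacter A, classInner θ (η : A → ℂ) • (η : A → ℂ)) =
      fun y => ∑ η : IrrCharacter A, (n η : ℂ) * (η : A → ℂ) y from funext fun y => by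
        simp [hn], rIn_sum_left]
  rw [← Finset.sum_filter_add_sum_filter_not Finset.univ
    (fun η : IrrCharacter A => η ∈ principalBlock M A), Finset.sum_eq_zero (s :=
      Finset.univ.filter fun η : IrrCharacter A => ¬ η ∈ principalBlock M A) fun η hη => by
      rw [← rIn_conj, rIn_eq_regInner, regInner_eq_zero hM (vInt_indVec hM isPBlock_principal) χ.2
        (Finset.mem_filter.1 hη).2, map_zero, mul_zero], add_zero,
    Finset.sum_subtype _ (p := fun η => η ∈ principalBlock M A) (fun η => by simp)]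
  refine (Finset.sum_subset (Finset.subset_univ _) fun η _ hη => ?_).symm
  rw [hzero η.1 (L.scal_of_notMem hz hM hη), Int.cast_zero, zero_mul]

/-- The signed coefficient. -/
noncomputable def sBlk (χ : Blk M A) : ℤ := sgn (degBlk χ)

include L hz hM in
theorem Local.norm_coeff {ψ : Blk M A} (hψ : ψ ∉ unitRows M A) {n : Blk M A → ℤ}
    (hn : ∀ χ : Blk M A, rIn (ψ.1 : A → ℂ) (χ.1 : A → ℂ) =
      ∑ η ∈ unitRows M A, (n η : ℂ) * rIn (η.1 : A → ℂ) (χ.1 : A → ℂ)) :
    9 * ∑ η ∈ unitRows M A, n η * n η -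
      ∑ j, (∑ η ∈ unitRows M A, n η * L.val j η.1) * (∑ η ∈ unitRows M A, n η * L.val j η.1) =
        9 := by
  have h1 : ∀ χ ∈ unitRows M A, 27 * rIn (ψ.1 : A → ℂ) (χ.1 : A → ℂ) =
      9 * (n χ : ℂ) - ∑ j, (∑ η ∈ unitRows M A, (n η : ℂ) * L.val j η.1) * L.val j χ.1 := by
    intro χ hχ
    rw [hn χ, Finset.mul_sum, Finset.sum_congr rfl fun η hη => show
      27 * ((n η : ℂ) * rIn (η.1 : A → ℂ) (χ.1 : A → ℂ)) = (n η : ℂ) *
        (9 * (if η = χ then (1 : ℂ) else 0) - ∑ j, (L.val j η.1 : ℂ) * L.val j χ.1) by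
          rw [← L.rIn_unit hz hM hη hχ]; ring]
    simp only [mul_sub, Finset.sum_sub_distrib, mul_ite, mul_one, mul_zero, Finset.sum_ite_eq',
      if_pos hχ, Finset.mul_sum, Finset.sum_mul]
    rw [Finset.sum_comm]
    congr 1
    · ring
    · exact Finset.sum_congr rfl fun j _ => Finset.sum_congr rfl fun η _ => by ring
  have h := L.rIn_self_of_notMem hz hM hψ
  rw [hn ψ] at h
  have hc : ∀ η : Blk M A, rIn (η.1 : A → ℂ) (ψ.1 : A → ℂ) = rIn (ψ.1 : A → ℂ) (η.1 : A → ℂ) :=
    fun η => by rw [rIn_eq_regInner, rIn_eq_regInner, regInner_symm]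
  simp only [hc] at h
  have h27 : ∑ η ∈ unitRows M A, (n η : ℂ) * (27 * rIn (ψ.1 : A → ℂ) (η.1 : A → ℂ)) = 9 := by
    rw [Finset.sum_congr rfl fun η _ => show (n η : ℂ) * (27 * rIn (ψ.1 : A → ℂ) (η.1 : A → ℂ)) =
      27 * ((n η : ℂ) * rIn (ψ.1 : A → ℂ) (η.1 : A → ℂ)) by ring, ← Finset.mul_sum]
    linear_combination 9 * h
  rw [Finset.sum_congr rfl fun η hη => by rw [h1 η hη]] at h27
  have : ((9 * ∑ η ∈ unitRows M A, n η * n η -
      ∑ j, (∑ η ∈ unitRows M A, n η * L.val j η.1) * (∑ η ∈ unitRows M A, n η * L.val j η.1) : ℤ) :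
        ℂ) = 9 := by
    rw [← h27]
    push_cast
    simp only [mul_sub, Finset.sum_sub_distrib, Finset.mul_sum]
    rw [Finset.sum_comm (s := unitRows M A)]
    congr 1
    · exact Finset.sum_congr rfl fun η _ => by ring
    · refine Finset.sum_congr rfl fun j _ => ?_
      exact Finset.sum_congr rfl fun η _ => by ring
  exact_mod_cast this

include L hz hM in
/-- There is no column of nine units. -/
theorem Local.exists_shape :
    ∃ R, Shape (unitRows M A) c (fun j χ => L.val j χ.1) (tauBlk hM) degBlk R := by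
  rcases (L.cols hM).shape with h | ⟨hc1, -, hall⟩
  · exact h
  exfalso
  subst hc1
  obtain ⟨ψ, hψ⟩ := L.exists_faithful hz hM
  obtain ⟨n, hn⟩ := L.exists_coeff hz hM ψ
  have h := L.norm_coeff hz hM hψ hn
  rw [Fin.sum_univ_one] at h
  set S := unitRows M A
  let m : Blk M A → ℤ := fun η => sBlk η * n η
  have e1 : ∑ η ∈ S, n η * n η = ∑ η ∈ S, m η * m η := Finset.sum_congr rfl fun η _ => by
    simp only [m, sBlk]; linear_combination -(n η * n η) * sgn_mul_self (degBlk η)
  have e2 : ∑ η ∈ S, n η * L.val 0 η.1 = ∑ η ∈ S, m η := Finset.sum_congr rfl fun η hη => by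
    have e := hall η hη 0
    simp only [m, sBlk]
    linear_combination (sgn (degBlk η) * n η) * e - (n η * L.val 0 η.1) * sgn_mul_self (degBlk η)
  rw [e1, e2] at h
  set T := ∑ η ∈ S, m η with hT
  set Q := ∑ η ∈ S, m η * m η with hQ
  obtain ⟨t, ht⟩ : (3 : ℤ) ∣ T := Int.Prime.dvd_pow' (k := 2) Nat.prime_three
    ⟨3 * Q - 3, by push_cast; linear_combination -h⟩
  have hS : (S.card : ℤ) = 9 := by
    have := (L.cols hM).shape
    rcases this with ⟨R, H⟩ | ⟨-, h9, -⟩
    · have e := hall (R 0) (H.mem 0) 0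
      have e' := H.val (R 0) (H.mem 0) 0
      simp at e e'
      omega
    · exact_mod_cast h9
  -- shift by the nearest multiple of three
  obtain ⟨k, hk⟩ : ∃ k : ℤ, -1 ≤ t - 3 * k ∧ t - 3 * k ≤ 1 := ⟨(t + 1) / 3, by omega⟩
  have hQ' : ∑ η ∈ S, (m η - k) * (m η - k) = 1 + (t - 3 * k) * (t - 3 * k) := by
    simp only [mul_sub, sub_mul, Finset.sum_sub_distrib, ← Finset.mul_sum, ← Finset.sum_mul,
      ← hT, ← hQ, Finset.sum_const, nsmul_eq_mul, hS]
    rw [ht] at h
    rw [ht]
    linarith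
  have hT' : ∑ η ∈ S, (m η - k) = 3 * (t - 3 * k) := by
    rw [Finset.sum_sub_distrib, ← hT, ht, Finset.sum_const, nsmul_eq_mul, hS]; ring
  have hle : |∑ η ∈ S, (m η - k)| ≤ ∑ η ∈ S, (m η - k) * (m η - k) :=
    (Finset.abs_sum_le_sum_abs _ _).trans (Finset.sum_le_sum fun η _ => by
      rw [← abs_mul_abs_self (m η - k)]
      rcases eq_or_lt_of_le (abs_nonneg (m η - k)) with e | e
      · rw [← e]; norm_num
      · exact le_mul_of_one_le_left e.le e)
  have hpar : (2 : ℤ) ∣ ∑ η ∈ S, (m η - k) * (m η - k) - ∑ η ∈ S, (m η - k) := by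
    rw [← Finset.sum_sub_distrib]
    exact Finset.dvd_sum fun η _ => by
      have := Int.even_mul_pred_self (m η - k)
      rw [mul_sub, mul_one] at this
      exact even_iff_two_dvd.1 this
  rw [hQ', hT'] at hle hpar
  have hr := hk
  generalize t - 3 * k = r at hle hpar hr
  rcases (by omega : r = -1 ∨ r = 0 ∨ r = 1) with rfl | rfl | rfl <;> norm_num at *

/-- The rows different from every special row. -/
noncomputable def plainRows (R : Fin c → Blk M A) : Finset (Blk M A) :=
  (unitRows M A).filter fun χ => ∀ j, χ ≠ R j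

/-- The function on regular elements attached to a plain row. -/
noncomputable def phi (r : Blk M A) (u : Blk M A) (y : A) : ℂ :=
  (sBlk u : ℂ) * (u.1 : A → ℂ) y - (sBlk r : ℂ) * (r.1 : A → ℂ) y

variable {R : Fin c → Blk M A}
  (H : Shape (unitRows M A) c (fun j χ => L.val j χ.1) (tauBlk hM) degBlk R)

/-- The first column. -/
def first (hc : 0 < c) : Fin c := ⟨0, hc⟩

include H in
theorem Shape.card_plainRows : (plainRows R).card + c = 6 := by
  have e : plainRows R = unitRows M A \ Finset.univ.image R := by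
    ext χ
    simp only [plainRows, Finset.mem_filter, Finset.mem_sdiff, Finset.mem_image, Finset.mem_univ,
      true_and, not_exists]
    exact and_congr_right fun _ => ⟨fun h j e => h j e.symm, fun h j e => h j e.symm⟩
  have hsub : Finset.univ.image R ⊆ unitRows M A := Finset.image_subset_iff.2 fun j _ => H.mem j
  have := Finset.card_sdiff_of_subset hsub
  rw [Finset.card_image_of_injective _ H.inj, Finset.card_univ, Fintype.card_fin, H.card] at this
  have hle := Finset.card_le_card hsub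
  rw [Finset.card_image_of_injective _ H.inj, Finset.card_univ, Fintype.card_fin, H.card] at hle
  rw [e]
  omega

include L hz hM H in
/-- The pairing of a row with the function of a plain row. -/
theorem Local.rIn_phi {χ u : Blk M A} (hχ : χ ∈ unitRows M A) (hu : u ∈ plainRows R) :
    3 * rIn (χ.1 : A → ℂ) (phi (R (first L.pos)) u) =
      (sBlk χ : ℂ) * (if χ = u then 2 else -1) / 3 := by
  obtain ⟨huS, hne⟩ := Finset.mem_filter.1 hu
  set j₀ := first L.pos
  have hr := H.mem j₀
  have e : rIn (χ.1 : A → ℂ) (phi (R j₀) u) = (sBlk u : ℂ) * rIn (χ.1 : A → ℂ) (u.1 : A → ℂ) -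
      (sBlk (R j₀) : ℂ) * rIn (χ.1 : A → ℂ) ((R j₀).1 : A → ℂ) := by
    rw [← rIn_conj]
    unfold phi
    rw [rIn_sub_left, rIn_smul_left, rIn_smul_left, map_sub, map_mul, map_mul, map_intCast,
      map_intCast, rIn_conj, rIn_conj]
  have hsum : ∀ v ∈ unitRows M A, (sBlk v : ℂ) * ∑ j, (L.val j χ.1 : ℂ) * L.val j v.1 =
      (sBlk χ : ℂ) * ∑ j, ((if χ = R j then -2 else 1) * (if v = R j then -2 else 1) : ℂ) := by
    intro v hv
    rw [Finset.mul_sum, Finset.mul_sum]
    refine Finset.sum_congr rfl fun j _ => ?_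
    have a := H.val χ hχ j
    have b := H.val v hv j
    have a' : ((if χ = R j then -2 else 1 : ℤ) : ℂ) = if χ = R j then -2 else 1 := by
      split_ifs <;> norm_num
    have b' : ((if v = R j then -2 else 1 : ℤ) : ℂ) = if v = R j then -2 else 1 := by
      split_ifs <;> norm_num
    rw [← a', ← b', ← a, ← b]
    push_cast [sBlk]
    have s2 : (sgn (degBlk χ) : ℂ) * sgn (degBlk χ) = 1 := by exact_mod_cast sgn_mul_self _
    linear_combination -((sgn (degBlk v) : ℂ) * L.val j χ.1 * L.val j v.1) * s2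
  have hd : ∑ j, ((if χ = R j then -2 else 1) * (if u = R j then -2 else 1) : ℂ) -
      ∑ j, ((if χ = R j then -2 else 1) * (if R j₀ = R j then -2 else 1) : ℂ) =
      3 * (if χ = R j₀ then -2 else 1) := by
    rw [← Finset.sum_sub_distrib, Finset.sum_eq_single j₀]
    · rw [if_neg (hne j₀), if_pos rfl]; ring
    · intro j _ hj
      rw [if_neg (hne j), if_neg fun e => hj (H.inj e).symm]; ring
    · exact fun h => absurd (Finset.mem_univ j₀) h
  have h1 := L.rIn_unit hz hM hχ huS
  have h2 := L.rIn_unit hz hM hχ hr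
  have h3 := hsum u huS
  have h4 := hsum _ hr
  rw [e]
  have hgoal : 27 * ((sBlk u : ℂ) * rIn (χ.1 : A → ℂ) (u.1 : A → ℂ) -
      (sBlk (R j₀) : ℂ) * rIn (χ.1 : A → ℂ) ((R j₀).1 : A → ℂ)) =
      3 * ((sBlk χ : ℂ) * (if χ = u then 2 else -1)) := by
    have hdiag : ∀ v : Blk M A, (sBlk v : ℂ) * (if χ = v then (1 : ℂ) else 0) =
        (sBlk χ : ℂ) * (if χ = v then (1 : ℂ) else 0) := fun v => by
      split_ifs with h
      · rw [h]
      · simp
    have key : 27 * ((sBlk u : ℂ) * rIn (χ.1 : A → ℂ) (u.1 : A → ℂ) -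
        (sBlk (R j₀) : ℂ) * rIn (χ.1 : A → ℂ) ((R j₀).1 : A → ℂ)) =
        (sBlk χ : ℂ) * (9 * (if χ = u then (1 : ℂ) else 0) -
          9 * (if χ = R j₀ then (1 : ℂ) else 0) - 3 * (if χ = R j₀ then -2 else 1)) := by
      linear_combination (sBlk u : ℂ) * h1 - (sBlk (R j₀) : ℂ) * h2 - h3 + h4 +
        9 * hdiag u - 9 * hdiag (R j₀) - (sBlk χ : ℂ) * hd
    rw [key]
    by_cases a : χ = u
    · rw [if_pos a, if_pos a, if_neg (a ▸ hne j₀), if_neg (a ▸ hne j₀)]; ring
    · by_cases b : χ = R j₀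
      · rw [if_neg a, if_neg a, if_pos b, if_pos b]; ring
      · rw [if_neg a, if_neg a, if_neg b, if_neg b]; ring
  linear_combination hgoal / 9

include L hz hM H in
theorem Local.phi_gram {u v : Blk M A} (hu : u ∈ plainRows R) (hv : v ∈ plainRows R) :
    3 * rIn (phi (R (first L.pos)) u) (phi (R (first L.pos)) v) = if u = v then 1 else 0 := by
  obtain ⟨huS, -⟩ := Finset.mem_filter.1 hu
  obtain ⟨-, hvne⟩ := Finset.mem_filter.1 hv
  set j₀ := first L.pos
  have e : rIn (phi (R j₀) u) (phi (R j₀) v) =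
      (sBlk u : ℂ) * rIn (u.1 : A → ℂ) (phi (R j₀) v) -
        (sBlk (R j₀) : ℂ) * rIn ((R j₀).1 : A → ℂ) (phi (R j₀) v) := by
    conv_lhs => arg 1; unfold phi
    rw [rIn_sub_left, rIn_smul_left, rIn_smul_left]
  have h1 := L.rIn_phi hz hM H huS hv
  have h2 := L.rIn_phi hz hM H (H.mem j₀) hv
  have su : (sBlk u : ℂ) * sBlk u = 1 := by exact_mod_cast sgn_mul_self _
  have sr : (sBlk (R j₀) : ℂ) * sBlk (R j₀) = 1 := by exact_mod_cast sgn_mul_self _
  rw [if_neg (hvne j₀).symm] at h2
  rw [e]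
  by_cases h : u = v
  · rw [if_pos h] at h1 ⊢
    linear_combination (sBlk u : ℂ) * h1 - (sBlk (R j₀) : ℂ) * h2 + (2 / 3) * su + (1 / 3) * sr
  · rw [if_neg h] at h1 ⊢
    linear_combination (sBlk u : ℂ) * h1 - (sBlk (R j₀) : ℂ) * h2 - (1 / 3) * su + (1 / 3) * sr

include L hz hM H in
/-- The squares of the pairings of the rows of units with one function sum to one. -/
theorem Local.sum_sq_one {u : Blk M A} (hu : u ∈ plainRows R) :
    ∑ χ : Blk M A, (if scal z (χ.1 : A → ℂ) = 1 then
        (3 * rIn (χ.1 : A → ℂ) (phi (R (first L.pos)) u)) *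
          conj (3 * rIn (χ.1 : A → ℂ) (phi (R (first L.pos)) u)) else 0) = 1 := by
  rw [← Finset.sum_filter, show (Finset.univ.filter fun χ : Blk M A =>
      scal z (χ.1 : A → ℂ) = 1) = unitRows M A from by
    ext χ
    simp only [Finset.mem_filter, Finset.mem_univ, true_and]
    exact ⟨fun e => by_contra fun hn => L.scal_of_notMem hz hM hn e, L.scal_of_mem hz hM⟩,
    Finset.sum_congr rfl (g := fun χ => (if χ = u then (3 : ℂ) else 0) / 9 + 1 / 9) fun χ hχ => ?_]
  · rw [Finset.sum_add_distrib, ← Finset.sum_div, Finset.sum_ite_eq',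
      if_pos (Finset.mem_filter.1 hu).1, Finset.sum_const, H.card]
    norm_num
  · rw [L.rIn_phi hz hM H hχ hu, map_div₀, map_mul, map_intCast, map_ofNat]
    have s2 : (sBlk χ : ℂ) * sBlk χ = 1 := by exact_mod_cast sgn_mul_self _
    by_cases h : χ = u
    · rw [if_pos h, if_pos h, map_ofNat]; linear_combination (4 / 9 : ℂ) * s2
    · rw [if_neg h, if_neg h, map_neg, map_one]; linear_combination (1 / 9 : ℂ) * s2

include L hz hM H in
/-- The pairings of a faithful member with the functions of the plain rows are those of a signed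
unit vector. -/
theorem Local.pairing_unit (hc : c = 1 ∨ c = 2 ∨ c = 4) {ψ : Blk M A} (hψ : ψ ∉ unitRows M A) :
    ∃ u ∈ plainRows R, ∃ ε : ℤ, ε * ε = 1 ∧ ∀ v ∈ plainRows R,
      3 * rIn (ψ.1 : A → ℂ) (phi (R (first L.pos)) v) = if v = u then (ε : ℂ) else 0 := by
  obtain ⟨n, hn⟩ := L.exists_coeff hz hM ψ
  have h := L.norm_coeff hz hM hψ hn
  set S := unitRows M A
  set U := plainRows R with hU
  let m : Blk M A → ℤ := fun η => sBlk η * n η
  set T := ∑ η ∈ S, m η with hT
  have e1 : ∑ η ∈ S, n η * n η = ∑ η ∈ S, m η * m η := Finset.sum_congr rfl fun η _ => by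
    simp only [m, sBlk]; linear_combination -(n η * n η) * sgn_mul_self (degBlk η)
  have e2 : ∀ j, ∑ η ∈ S, n η * L.val j η.1 = T - 3 * m (R j) := by
    intro j
    have : ∀ η ∈ S, n η * L.val j η.1 = m η - 3 * (if η = R j then m η else 0) := fun η hη => by
      have e := H.val η hη j
      simp only [m, sBlk]
      split_ifs with hh
      · rw [if_pos hh] at e
        linear_combination (sgn (degBlk η) * n η) * e - (n η * L.val j η.1) * sgn_mul_self (degBlk η)
      · rw [if_neg hh] at e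
        linear_combination (sgn (degBlk η) * n η) * e - (n η * L.val j η.1) * sgn_mul_self (degBlk η)
    rw [Finset.sum_congr rfl this, Finset.sum_sub_distrib, ← Finset.mul_sum, Finset.sum_ite_eq',
      if_pos (H.mem j)]
  simp only [e1, e2] at h
  have hsplit : ∀ f : Blk M A → ℤ, ∑ η ∈ S, f η = ∑ η ∈ U, f η + ∑ j, f (R j) := by
    intro f
    rw [← Finset.sum_filter_add_sum_filter_not S (fun χ => ∀ j, χ ≠ R j) f,
      show (S.filter fun χ => ∀ j, χ ≠ R j) = U from rfl]
    congr 1
    rw [← Finset.sum_image (s := Finset.univ) (g := R) (f := f) (fun a _ b _ e => H.inj e)]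
    refine Finset.sum_congr (Finset.ext fun χ => ?_) fun _ _ => rfl
    simp only [Finset.mem_filter, Finset.mem_image, Finset.mem_univ, true_and, not_forall, not_not]
    exact ⟨fun ⟨_, j, hj⟩ => ⟨j, hj.symm⟩, fun ⟨j, hj⟩ => ⟨hj ▸ H.mem j, j, hj.symm⟩⟩
  have hq : U.card + c = 6 := H.card_plainRows
  let w : Blk M A → ℤ := fun η => T - 3 * m η
  have hw : ∑ η ∈ U, w η * w η = 9 := by
    rw [← h, hsplit (fun η => m η * m η)]
    have hTs := hsplit m
    rw [← hT] at hTs
    have hqc : (U.card : ℤ) + c = 6 := by exact_mod_cast hq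
    simp only [w, mul_sub, sub_mul, Finset.sum_sub_distrib, Finset.sum_const, nsmul_eq_mul,
      Finset.card_univ, Fintype.card_fin, ← Finset.mul_sum, ← Finset.sum_mul]
    have e9 : ∀ s : Finset (Blk M A), ∑ η ∈ s, 3 * m η * (3 * m η) = 9 * ∑ η ∈ s, m η * m η :=
      fun s => by rw [Finset.mul_sum]; exact Finset.sum_congr rfl fun _ _ => by ring
    have e9' : ∑ j, 3 * m (R j) * (3 * m (R j)) = 9 * ∑ j, m (R j) * m (R j) := by
      rw [Finset.mul_sum]; exact Finset.sum_congr rfl fun _ _ => by ring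
    rw [e9, e9']
    linear_combination (T * T) * hqc + (6 * T) * hTs
  have hq3 : ¬ 3 ∣ U.card := by rcases hc with e | e | e <;> omega
  obtain ⟨u, hu, hwu, hw0⟩ :=
    exists_single_three U T w hq3 (fun η _ => ⟨-m η, by simp only [w]; ring⟩) hw
  have hval : ∀ v ∈ U, 9 * rIn (ψ.1 : A → ℂ) (phi (R (first L.pos)) v) = -(w v : ℂ) := by
    intro v hv
    have e : rIn (ψ.1 : A → ℂ) (phi (R (first L.pos)) v) = ∑ η ∈ S, (n η : ℂ) *
        rIn (η.1 : A → ℂ) (phi (R (first L.pos)) v) := by
      have ew : ∀ f : A → ℂ, rIn f (phi (R (first L.pos)) v) =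
          (sBlk v : ℂ) * rIn f (v.1 : A → ℂ) -
            (sBlk (R (first L.pos)) : ℂ) * rIn f ((R (first L.pos)).1 : A → ℂ) := fun f => by
        rw [← rIn_conj]
        unfold phi
        rw [rIn_sub_left, rIn_smul_left, rIn_smul_left, map_sub, map_mul, map_mul, map_intCast,
          map_intCast, rIn_conj, rIn_conj]
      rw [ew, hn, hn, Finset.mul_sum, Finset.mul_sum, ← Finset.sum_sub_distrib]
      exact Finset.sum_congr rfl fun η _ => by rw [ew]; ring
    rw [e, Finset.mul_sum, Finset.sum_congr rfl (g := fun η =>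
      (if η = v then 3 * (m η : ℂ) else 0) - (m η : ℂ)) fun η hη => ?_]
    · rw [Finset.sum_sub_distrib, Finset.sum_ite_eq', if_pos (Finset.mem_filter.1 hv).1]
      simp only [w, hT]
      push_cast
      ring
    · have h3 := L.rIn_phi hz hM H hη hv
      simp only [m]
      push_cast
      split_ifs with hh
      · rw [if_pos hh] at h3; linear_combination (3 * (n η : ℂ)) * h3
      · rw [if_neg hh] at h3; linear_combination (3 * (n η : ℂ)) * h3
  refine ⟨u, hu, if w u = 3 then -1 else 1, by split_ifs <;> norm_num, fun v hv => ?_⟩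
  have h9 := hval v hv
  by_cases hvu : v = u
  · subst hvu
    rw [if_pos rfl]
    rcases hwu with e | e <;> rw [e] at h9 ⊢ <;> norm_num at h9 ⊢ <;> linear_combination h9 / 3
  · rw [if_neg hvu]
    rw [hw0 v hv hvu] at h9
    push_cast at h9
    linear_combination h9 / 3

include L hz hM H in
/-- For each plain row and each nontrivial scalar, the faithful member attached to it. -/
theorem Local.exists_lift (hc : c = 1 ∨ c = 2 ∨ c = 4) {lam : ℂ} (h3 : lam ^ 3 = 1) (h1 : lam ≠ 1)
    {u : Blk M A} (hu : u ∈ plainRows R) :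
    ∃ ψ : Blk M A, ψ ∉ unitRows M A ∧ scal z (ψ.1 : A → ℂ) = lam ∧ ∃ ε : ℤ, ε * ε = 1 ∧
      ∀ y, IsPRegular 3 y → (ψ.1 : A → ℂ) y = (ε : ℂ) * phi (R (first L.pos)) u y := by
  set φ := phi (R (first L.pos)) u with hφ
  have hone := L.sum_sq_one hz hM H hu
  have hsum : ∑ χ : Blk M A, (if scal z (χ.1 : A → ℂ) = lam then
      (3 * rIn (χ.1 : A → ℂ) φ) * conj (3 * rIn (χ.1 : A → ℂ) φ) else 0) = 1 := by
    have e : ∀ μ : ℂ, ∑ χ : Blk M A, (if scal z (χ.1 : A → ℂ) = μ then
        (3 * rIn (χ.1 : A → ℂ) φ) * conj (3 * rIn (χ.1 : A → ℂ) φ) else 0) =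
        9 * ∑ χ : Blk M A, (if scal z (χ.1 : A → ℂ) = μ then
          rIn (χ.1 : A → ℂ) φ * conj (rIn (χ.1 : A → ℂ) φ) else 0) := fun μ => by
      rw [Finset.mul_sum]
      refine Finset.sum_congr rfl fun χ _ => ?_
      split_ifs
      · rw [map_mul, map_ofNat]; ring
      · ring
    rw [e, L.sum_sq_indep hz hM h3, ← e]
    exact hone
  obtain ⟨ψ, hψl, hψ0⟩ : ∃ ψ : Blk M A, scal z (ψ.1 : A → ℂ) = lam ∧
      rIn (ψ.1 : A → ℂ) φ ≠ 0 := by
    by_contra! hall
    rw [Finset.sum_eq_zero] at hsum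
    · exact zero_ne_one hsum
    · intro χ _
      split_ifs with h
      · rw [hall χ h]; simp
      · rfl
  have hψ : ψ ∉ unitRows M A := fun h => h1 (hψl ▸ L.scal_of_mem hz hM h)
  obtain ⟨u', -, ε, hε, hv⟩ := L.pairing_unit hz hM H hc hψ
  have hε' : 3 * rIn (ψ.1 : A → ℂ) φ = ε := by
    have e := hv u hu
    split_ifs at e with hh
    · exact e
    · exact absurd ((mul_eq_zero.1 e).resolve_left (by norm_num)) hψ0
  refine ⟨ψ, hψ, hψl, ε, hε, fun y hy => ?_⟩
  have h0 : rIn (fun a => (ψ.1 : A → ℂ) a - (ε : ℂ) * φ a)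
      (fun a => (ψ.1 : A → ℂ) a - (ε : ℂ) * φ a) = 0 := by
    have hr : ∀ f : A → ℂ, rIn f (fun a => (ψ.1 : A → ℂ) a - (ε : ℂ) * φ a) =
        rIn f (ψ.1 : A → ℂ) - (ε : ℂ) * rIn f φ := fun f => by
      rw [← rIn_conj, rIn_sub_left, rIn_smul_left, map_sub, map_mul, map_intCast, rIn_conj,
        rIn_conj]
    rw [rIn_sub_left, rIn_smul_left, hr, hr]
    have a := L.rIn_self_of_notMem hz hM hψ
    have b := L.phi_gram hz hM H hu hu
    rw [if_pos rfl, ← hφ] at b
    have c' : 3 * rIn φ (ψ.1 : A → ℂ) = ε := by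
      have e := congrArg conj hε'
      rwa [map_mul, map_ofNat, rIn_conj, map_intCast] at e
    have hε2 : (ε : ℂ) * ε = 1 := by exact_mod_cast hε
    linear_combination a / 3 + ((ε : ℂ) * ε / 3) * b - ((ε : ℂ) / 3) * hε' -
      ((ε : ℂ) / 3) * c' - hε2 / 3
  exact sub_eq_zero.1 (eq_zero_of_rIn_self h0 hy)

include L hz hM H in
/-- The trivial character is a combination of the functions of the plain rows on regular
elements. -/
theorem Local.tau_expand {y : A} (hy : IsPRegular 3 y) :
    (1 : ℂ) = ∑ u ∈ plainRows R,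
      3 * rIn ((tauBlk (A := A) hM).1 : A → ℂ) (phi (R (first L.pos)) u) *
        phi (R (first L.pos)) u y := by
  set τ := tauBlk (A := A) hM
  set φ := phi (R (first L.pos))
  set U := plainRows R with hU
  have hτS : τ ∈ unitRows M A := (L.cols hM).tau_mem
  have hτU : τ ∈ U := Finset.mem_filter.2 ⟨hτS, fun j => (H.ne_tau j).symm⟩
  let a : Blk M A → ℂ := fun u => 3 * rIn (τ.1 : A → ℂ) (φ u)
  have hreal : ∀ u ∈ U, conj (a u) = a u := fun u hu => by
    simp only [a, φ]
    rw [L.rIn_phi hz hM H hτS hu, map_div₀, map_mul, map_intCast, map_ofNat]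
    split_ifs <;> simp [map_ofNat]
  have hsq : ∑ u ∈ U, a u * a u = ((U.card : ℂ) + 3) / 9 := by
    rw [Finset.sum_congr rfl (g := fun u => (if u = τ then (3 : ℂ) else 0) / 9 + 1 / 9)
      fun u hu => ?_]
    · rw [Finset.sum_add_distrib, ← Finset.sum_div, Finset.sum_ite_eq', if_pos hτU,
        Finset.sum_const, nsmul_eq_mul]
      ring
    · simp only [a, φ]
      rw [L.rIn_phi hz hM H hτS hu]
      have s2 : (sBlk τ : ℂ) * sBlk τ = 1 := by exact_mod_cast sgn_mul_self _
      by_cases hh : u = τ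
      · rw [if_pos hh, if_pos hh.symm]; linear_combination (4 / 9 : ℂ) * s2
      · rw [if_neg hh, if_neg (Ne.symm hh)]; linear_combination (1 / 9 : ℂ) * s2
  have hττ : 27 * rIn (τ.1 : A → ℂ) (τ.1 : A → ℂ) = 9 - (c : ℂ) := by
    rw [L.rIn_unit hz hM hτS hτS, if_pos rfl]
    simp [τ, L.val_tau hM]
  let g : A → ℂ := fun b => (τ.1 : A → ℂ) b - ∑ u ∈ U, a u * φ u b
  have hg : rIn g g = 0 := by
    have hgu : ∀ u ∈ U, rIn (φ u) (fun b => ∑ v ∈ U, a v * φ v b) = a u / 3 := by
      intro u hu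
      rw [rIn_sum_right, Finset.sum_congr rfl (g := fun v => if u = v then a v / 3 else 0)
        fun v hv => ?_, Finset.sum_ite_eq, if_pos hu]
      have := L.phi_gram hz hM H hu hv
      rw [hreal v hv]
      split_ifs with hh
      · rw [if_pos hh] at this; linear_combination (a v / 3) * this
      · rw [if_neg hh] at this; linear_combination (a v / 3) * this
    have hr : ∀ f : A → ℂ, rIn f g =
        rIn f (τ.1 : A → ℂ) - rIn f (fun b => ∑ v ∈ U, a v * φ v b) := fun f => by
      simp only [g]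
      rw [← rIn_conj, rIn_sub_left, map_sub, rIn_conj, rIn_conj]
    show rIn (fun b => (τ.1 : A → ℂ) b - ∑ u ∈ U, a u * φ u b) g = 0
    rw [rIn_sub_left, hr, hr, rIn_sum_right, rIn_sum_left, rIn_sum_left,
      Finset.sum_congr rfl fun u hu => show conj (a u) * rIn (τ.1 : A → ℂ) (φ u) = a u * a u / 3 by
        rw [hreal u hu]; simp only [a]; ring,
      Finset.sum_congr rfl fun u hu => show a u * rIn (φ u) (τ.1 : A → ℂ) = a u * a u / 3 by
        rw [← rIn_conj, show rIn (τ.1 : A → ℂ) (φ u) = a u / 3 by simp only [a]; ring, map_div₀,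
          hreal u hu, map_ofNat]
        ring,
      Finset.sum_congr rfl fun u hu => show a u * rIn (φ u) (fun b => ∑ v ∈ U, a v * φ v b) =
        a u * a u / 3 by rw [hgu u hu]; ring,
      ← Finset.sum_div, hsq]
    have hq : (U.card : ℂ) + (c : ℂ) = 6 := by exact_mod_cast H.card_plainRows
    linear_combination hττ / 27 - hq / 27
  have h := eq_zero_of_rIn_self hg hy
  simp only [g, τ, tauBlk, trivChar_coe, sub_eq_zero] at h
  exact h

include L hz hM H in
theorem Local.blockRank_eq : blockRank 3 (principalBlock M A) = (plainRows R).card := by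
  have h := L.rank_eq hz hM
  have hd : ∀ χ ∈ unitRows M A, 27 * rIn (χ.1 : A → ℂ) (χ.1 : A → ℂ) =
      9 - ∑ j, (L.val j χ.1 : ℂ) * L.val j χ.1 := fun χ hχ => by
    rw [L.rIn_unit hz hM hχ hχ, if_pos rfl, mul_one]
  have hsum : 27 * ∑ χ ∈ unitRows M A, rIn (χ.1 : A → ℂ) (χ.1 : A → ℂ) = 54 - 9 * (c : ℂ) := by
    rw [Finset.mul_sum, Finset.sum_congr rfl hd, Finset.sum_sub_distrib, Finset.sum_comm,
      Finset.sum_congr rfl fun j _ => show
        ∑ χ ∈ unitRows M A, (L.val j χ.1 : ℂ) * L.val j χ.1 = 9 by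
          have := (L.cols hM).orth j j
          rw [if_pos rfl] at this
          exact_mod_cast this]
    simp [H.card]
    ring
  have hq : ((plainRows R).card : ℂ) + (c : ℂ) = 6 := by exact_mod_cast H.card_plainRows
  have : (blockRank 3 (principalBlock M A) : ℂ) = ((plainRows R).card : ℂ) := by
    linear_combination h + hsum / 9 - hq
  exact_mod_cast this

end Cfsg.Lib.Block.ExtraThree
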