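import Cfsg.Agent.Lib.Block.ExtraThree.Columns
import Cfsg.Agent.Lib.Block.CentralPart
import Cfsg.Agent.Lib.Block.PartReg

/-!
# The group with a central element of order three

Every member of the principal block is either a row of units and trivial on the centre, or is
faithful there and vanishes at the noncentral classes.
-/

set_option autoImplicit false
set_option linter.unusedSectionVars false
set_option linter.style.haveILetI false
set_option maxHeartbeats 800000

namespace Cfsg.Lib.Block.ExtraThree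

open Cfsg Cfsg.Lib Cfsg.Lib.Block Subgroup
open scoped ComplexConjugate Classical

universe u

noncomputable local instance (priority := high) fintypeSubgroupCentral {A : Type u} [Group A]
    [Fintype A] (B : Subgroup A) : Fintype B := Fintype.ofFinite B

variable {A : Type u} [Group A] [Fintype A] {z : A} {c : ℕ} {X : Fin c → A} {M : Ideal AlgInt}

/-- The pairing on regular elements. -/
noncomputable def rIn (f g : A → ℂ) : ℂ :=
  (Nat.card A : ℂ)⁻¹ * ∑ y, if IsPRegular 3 y then f y * conj (g y) else 0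

theorem rIn_eq_regInner (f g : A → ℂ) : rIn f g = regInner 3 f g := by
  rw [rIn, regInner, classInner]
  congr 1
  refine Finset.sum_congr rfl fun y _ => ?_
  by_cases h : IsPRegular 3 y
  · rw [if_pos h, pRegularPart_of_reg h]
  · rw [if_neg h, pRegularPart_of_sing h, zero_mul]

theorem rIn_congr_left {f f' : A → ℂ} (g : A → ℂ) (h : ∀ y, IsPRegular 3 y → f y = f' y) :
    rIn f g = rIn f' g := by
  simp only [rIn]
  congr 1
  refine Finset.sum_congr rfl fun y _ => ?_
  split_ifs with hy
  · rw [h y hy]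
  · rfl

theorem rIn_conj (f g : A → ℂ) : conj (rIn f g) = rIn g f := by
  rw [rIn_eq_regInner, regInner_conj, rIn_eq_regInner]

theorem rIn_sum_left {ι : Type*} (s : Finset ι) (a : ι → ℂ) (f : ι → A → ℂ) (g : A → ℂ) :
    rIn (fun y => ∑ i ∈ s, a i * f i y) g = ∑ i ∈ s, a i * rIn (f i) g := by
  simp only [rIn, Finset.mul_sum]
  rw [Finset.sum_comm]
  refine Finset.sum_congr rfl fun y _ => ?_
  split_ifs
  · rw [Finset.sum_mul, Finset.mul_sum]
    exact Finset.sum_congr rfl fun i _ => by ring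
  · simp

theorem rIn_sum_right {ι : Type*} (s : Finset ι) (a : ι → ℂ) (f : A → ℂ) (g : ι → A → ℂ) :
    rIn f (fun y => ∑ i ∈ s, a i * g i y) = ∑ i ∈ s, conj (a i) * rIn f (g i) := by
  rw [← rIn_conj, rIn_sum_left, map_sum]
  exact Finset.sum_congr rfl fun i _ => by rw [map_mul, rIn_conj]

theorem rIn_sub_left (f f' g : A → ℂ) :
    rIn (fun y => f y - f' y) g = rIn f g - rIn f' g := by
  simp only [rIn, ← mul_sub, ← Finset.sum_sub_distrib]
  congr 1
  refine Finset.sum_congr rfl fun y _ => ?_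
  split_ifs <;> ring

theorem rIn_smul_left (a : ℂ) (f g : A → ℂ) : rIn (fun y => a * f y) g = a * rIn f g := by
  simp only [rIn, Finset.mul_sum]
  refine Finset.sum_congr rfl fun y _ => ?_
  split_ifs <;> ring

theorem eq_zero_of_rIn_self {f : A → ℂ} (h : rIn f f = 0) {y : A} (hy : IsPRegular 3 y) :
    f y = 0 := by
  have h1 : classInner (pRegularPart 3 f) (pRegularPart 3 f) = 0 := by
    rw [← h, classInner, rIn]
    congr 1
    refine Finset.sum_congr rfl fun a _ => ?_
    by_cases ha : IsPRegular 3 a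
    · rw [if_pos ha, pRegularPart_of_reg ha]
    · rw [if_neg ha, pRegularPart_of_sing ha, zero_mul]
  have := congrFun (Char.eq_zero_of_classInner_self h1) y
  rwa [pRegularPart_of_reg hy] at this

/-- The scalar by which a central element acts. -/
noncomputable def scal (z : A) (χ : A → ℂ) : ℂ := χ z / χ 1

theorem scal_spec (hz : z ∈ center A) (χ : IrrCharacter A) (g : A) :
    (χ : A → ℂ) (z * g) = scal z (χ : A → ℂ) * (χ : A → ℂ) g := by
  obtain ⟨a, -, ha⟩ := exists_central_scalar χ hz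
  have h1 := ha 1
  rw [mul_one] at h1
  rw [ha g, scal, h1, mul_div_assoc, div_self χ.2.apply_one_ne_zero, mul_one]

theorem scal_cube (hz : z ∈ center A) (h3 : orderOf z = 3) (χ : IrrCharacter A) :
    scal z (χ : A → ℂ) ^ 3 = 1 := by
  obtain ⟨a, ha3, ha⟩ := exists_central_scalar χ hz
  have h1 := ha 1
  rw [mul_one] at h1
  rw [scal, h1, mul_div_assoc, div_self χ.2.apply_one_ne_zero, mul_one]
  rwa [h3] at ha3

theorem conj_eq_inv {a : ℂ} (h : a ^ 3 = 1) : conj a = a⁻¹ :=
  (Complex.inv_eq_conj (Complex.norm_eq_one_of_pow_eq_one h (by norm_num))).symm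

theorem scal_pow (hz : z ∈ center A) (χ : IrrCharacter A) (i : ℕ) (g : A) :
    (χ : A → ℂ) (z ^ i * g) = scal z (χ : A → ℂ) ^ i * (χ : A → ℂ) g := by
  induction i with
  | zero => simp
  | succ i ih => rw [pow_succ', mul_assoc, scal_spec hz, ih, pow_succ', mul_assoc]

theorem scal_inv (hz : z ∈ center A) (h3 : orderOf z = 3) (χ : IrrCharacter A) (g : A) :
    (χ : A → ℂ) (z⁻¹ * g) = conj (scal z (χ : A → ℂ)) * (χ : A → ℂ) g := by
  have hz3 : z ^ 3 = 1 := by rw [← h3, pow_orderOf_eq_one]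
  rw [show z⁻¹ = z ^ 2 from (eq_inv_of_mul_eq_one_left (by rw [← pow_succ, hz3])).symm, scal_pow hz,
    conj_eq_inv (scal_cube hz h3 χ)]
  congr 1
  exact eq_inv_of_mul_eq_one_left (by rw [← pow_succ, scal_cube hz h3 χ])

/-- The section at a central element. -/
theorem secAvg_center {u : A} (hu : u ∈ center A) (F : A → ℂ) :
    secAvg u F = (Nat.card A : ℂ)⁻¹ * ∑ y, if IsPRegular 3 y then F (u * y) else 0 := by
  have htop : centralizer ({u} : Set A) = ⊤ := by
    rw [eq_top_iff]
    exact fun a _ => mem_centralizer_singleton_iff.2 (mem_center_iff.1 hu a)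
  let e : centralizer ({u} : Set A) ≃ A :=
    ⟨fun y => y.1, fun a => ⟨a, htop ▸ mem_top a⟩, fun _ => rfl, fun _ => rfl⟩
  rw [secAvg, Nat.card_congr e]
  congr 1
  refine Fintype.sum_equiv e _ _ fun y => ?_
  rw [show (e y) = (y : A) from rfl]
  refine if_congr ?_ rfl rfl
  rw [IsPRegular, IsPRegular, Subgroup.orderOf_coe]

theorem Local.secAvg_z (L : Local z X) (hz : z ∈ center A) (χ η : IrrCharacter A) :
    secAvg z (fun a => (χ : A → ℂ) a * conj ((η : A → ℂ) a)) =
        scal z (χ : A → ℂ) * conj (scal z (η : A → ℂ)) * rIn (χ : A → ℂ) (η : A → ℂ) ∧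
      secAvg z⁻¹ (fun a => (χ : A → ℂ) a * conj ((η : A → ℂ) a)) =
        conj (scal z (χ : A → ℂ)) * scal z (η : A → ℂ) * rIn (χ : A → ℂ) (η : A → ℂ) := by
  constructor
  · rw [secAvg_center hz]
    simp only [rIn, Finset.mul_sum]
    refine Finset.sum_congr rfl fun y _ => ?_
    split_ifs
    · rw [scal_spec hz, scal_spec hz, map_mul]; ring
    · simp
  · rw [secAvg_center (inv_mem hz)]
    simp only [rIn, Finset.mul_sum]
    refine Finset.sum_congr rfl fun y _ => ?_
    split_ifs
    · rw [scal_inv hz L.z_order, scal_inv hz L.z_order, map_mul, Complex.conj_conj]; ring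
    · simp

variable (L : Local z X) (hz : z ∈ center A) (hM : IsPModular 3 M)

include L hz hM in
/-- The relation between the pairing on regular elements and the columns. -/
theorem Local.delta (χ η : Blk M A) :
    (if χ = η then (1 : ℂ) else 0) =
      (1 + scal z (χ.1 : A → ℂ) * conj (scal z (η.1 : A → ℂ)) +
        conj (scal z (χ.1 : A → ℂ)) * scal z (η.1 : A → ℂ)) * rIn (χ.1 : A → ℂ) (η.1 : A → ℂ) +
      (∑ j, (L.val j χ.1 : ℂ) * L.val j η.1) / 9 := by
  have h := L.classInner_eq χ.1.2.isClassFunction η.1.2.isClassFunction (L.xconst hM χ)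
    (L.xconst hM η)
  rw [(L.secAvg_z hz χ.1 η.1).1, (L.secAvg_z hz χ.1 η.1).2, ← rIn_eq_regInner,
    Char.classInner_irr χ.1.2 η.1.2] at h
  rw [Finset.sum_congr rfl fun j _ => show (χ.1 : A → ℂ) (X j) * conj ((η.1 : A → ℂ) (X j)) / 9 =
    (L.val j χ.1 : ℂ) * L.val j η.1 / 9 by
      rw [(L.val_spec j χ.1).1, (L.val_spec j η.1).1, map_intCast], ← Finset.sum_div] at h
  have hiff : ((χ.1 : A → ℂ) = (η.1 : A → ℂ)) ↔ χ = η :=
    ⟨fun e => Subtype.ext (Subtype.ext e), fun e => by rw [e]⟩
  rw [← if_congr hiff rfl rfl, h]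
  ring

include L hz hM in
/-- The rows of units are trivial on the centre. -/
theorem Local.scal_of_mem {χ : Blk M A} (hχ : χ ∈ unitRows M A) : scal z (χ.1 : A → ℂ) = 1 := by
  let j : Fin c := ⟨0, L.pos⟩
  obtain ⟨n, hn, hnx⟩ := L.twist j
  have h1 : (χ.1 : A → ℂ) (X j * z) = (χ.1 : A → ℂ) (X j) := by
    rw [← hnx, χ.1.2.isClassFunction]
  rw [mem_center_iff.1 hz (X j), scal_spec hz] at h1
  have hne : (χ.1 : A → ℂ) (X j) ≠ 0 := by
    rw [(L.val_spec j χ.1).1, Int.cast_ne_zero]
    intro e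
    have hd := (L.val_spec j χ.1).2
    rw [e, zero_sub, Int.dvd_neg] at hd
    exact (Finset.mem_filter.1 hχ).2 hd
  exact mul_right_cancel₀ hne (h1.trans (one_mul _).symm)

include L hz hM in
/-- The other members are faithful on the centre, and their norm on regular elements is a third. -/
theorem Local.scal_of_notMem {χ : Blk M A} (hχ : χ ∉ unitRows M A) :
    scal z (χ.1 : A → ℂ) ≠ 1 := by
  intro hs
  haveI : Fact (Nat.Prime 3) := ⟨Nat.prime_three⟩
  have hne : χ ≠ tauBlk hM := fun e => hχ (e ▸ (L.cols hM).tau_mem)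
  have h := L.delta hz hM χ (tauBlk hM)
  rw [if_neg hne, hs, L.scal_of_mem hz hM (L.cols hM).tau_mem, map_one, mul_one,
    Finset.sum_eq_zero fun j _ => by rw [L.val_eq_zero hM hχ j, Int.cast_zero, zero_mul],
    zero_div, add_zero, eq_comm, mul_eq_zero] at h
  have h0 := h.resolve_left (by norm_num)
  have hp := (mem_principal_iff_regSum hM χ.1).1 χ.2
  refine hp ?_
  rw [rIn_eq_regInner, regInner, classInner] at h0
  simp only [tauBlk, trivChar_coe, map_one, mul_one] at h0
  exact (mul_eq_zero.1 h0).resolve_left (inv_ne_zero Char.card_cast_ne_zero)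

include L hz hM in
theorem Local.rIn_self_of_notMem {χ : Blk M A} (hχ : χ ∉ unitRows M A) :
    3 * rIn (χ.1 : A → ℂ) (χ.1 : A → ℂ) = 1 := by
  have h := L.delta hz hM χ χ
  have h3 := scal_cube hz L.z_order χ.1
  have hs : scal z (χ.1 : A → ℂ) ≠ 0 := fun e => by rw [e] at h3; norm_num at h3
  rw [if_pos rfl, conj_eq_inv h3, mul_inv_cancel₀ hs, inv_mul_cancel₀ hs,
    Finset.sum_eq_zero fun j _ => by rw [L.val_eq_zero hM hχ j, Int.cast_zero, zero_mul],
    zero_div, add_zero] at h
  rw [h]; ring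

include L hz hM in
theorem Local.rIn_unit {χ η : Blk M A} (hχ : χ ∈ unitRows M A) (hη : η ∈ unitRows M A) :
    27 * rIn (χ.1 : A → ℂ) (η.1 : A → ℂ) =
      9 * (if χ = η then (1 : ℂ) else 0) - ∑ j, (L.val j χ.1 : ℂ) * L.val j η.1 := by
  rw [L.delta hz hM χ η, L.scal_of_mem hz hM hχ, L.scal_of_mem hz hM hη]
  simp only [map_one, mul_one]
  ring

include L hz hM in
/-- The kernel on regular elements of the members with a given central scalar. -/
theorem Local.kernel {lam : ℂ} (hlam : lam ^ 3 = 1) {s t : A} (hs : IsPRegular 3 s)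
    (ht : IsPRegular 3 t) :
    3 * ∑ χ : Blk M A, (if scal z (χ.1 : A → ℂ) = lam then
        (χ.1 : A → ℂ) s * conj ((χ.1 : A → ℂ) t) else 0) = regKer (principalBlock M A) s t := by
  haveI : Fact (Nat.Prime 3) := ⟨Nat.prime_three⟩
  have hker : ∀ i : ℕ, ∑ χ : Blk M A, scal z (χ.1 : A → ℂ) ^ i *
      ((χ.1 : A → ℂ) s * conj ((χ.1 : A → ℂ) t)) = regKer (principalBlock M A) (z ^ i * s) t := by
    intro i
    rw [regKer, sum_blk (fun χ : IrrCharacter A => scal z (χ : A → ℂ) ^ i *
      ((χ : A → ℂ) s * conj ((χ : A → ℂ) t))), finsum_mem_eq_toFinset_sum]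
    exact Finset.sum_congr rfl fun χ _ => by rw [scal_pow hz]; ring
  have hzero : ∀ i : ℕ, ¬ 3 ∣ i → regKer (principalBlock M A) (z ^ i * s) t = 0 := by
    intro i hi
    have hne : z ^ i ≠ 1 := fun e => hi (L.z_order ▸ orderOf_dvd_of_pow_eq_one e)
    have hsing : ¬ IsPRegular 3 (z ^ i * s) := fun h => h
      (dvd_orderOf_mul_of_commute hs ((mem_center_iff.1 ((center A).pow_mem hz i) s).symm)
        ⟨1, by
          rw [pow_one, orderOf_pow' z (show i ≠ 0 by rintro rfl; exact hi (dvd_zero 3)), L.z_order,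
            Nat.Coprime.gcd_eq_one ((Nat.prime_three.coprime_iff_not_dvd).2 hi), Nat.div_one]⟩ hne)
    rw [regKer, ← finsum_mem_eq_toFinset_sum]
    exact sum_block_mul_conj_eq_zero hM (vInt_indVec hM isPBlock_principal)
      fun hc => isConj_pPt_of_reg ht hsing hc.symm
  have h1 := hker 1
  have h2 := hker 2
  rw [hzero 1 (by norm_num)] at h1
  rw [hzero 2 (by norm_num)] at h2
  have h0 := hker 0
  rw [pow_zero, one_mul] at h0
  have hlam0 : lam ≠ 0 := fun e => by rw [e] at hlam; norm_num at hlam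
  calc _ = ∑ χ : Blk M A, (1 + lam⁻¹ * scal z (χ.1 : A → ℂ) +
        lam⁻¹ ^ 2 * scal z (χ.1 : A → ℂ) ^ 2) * ((χ.1 : A → ℂ) s * conj ((χ.1 : A → ℂ) t)) := by
        rw [Finset.mul_sum]
        refine Finset.sum_congr rfl fun χ _ => ?_
        split_ifs with h
        · rw [h]; field_simp; ring
        · have hq : (lam⁻¹ * scal z (χ.1 : A → ℂ)) ^ 3 = 1 := by
            rw [mul_pow, inv_pow, hlam, scal_cube hz L.z_order, inv_one, one_mul]
          have hne : lam⁻¹ * scal z (χ.1 : A → ℂ) ≠ 1 := fun e => h (by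
            rw [inv_mul_eq_one₀ hlam0] at e
            exact e.symm)
          have : 1 + lam⁻¹ * scal z (χ.1 : A → ℂ) + (lam⁻¹ * scal z (χ.1 : A → ℂ)) ^ 2 = 0 := by
            have e : (lam⁻¹ * scal z (χ.1 : A → ℂ) - 1) * (1 + lam⁻¹ * scal z (χ.1 : A → ℂ) +
                (lam⁻¹ * scal z (χ.1 : A → ℂ)) ^ 2) = 0 := by linear_combination hq
            exact (mul_eq_zero.1 e).resolve_left (sub_ne_zero.2 hne)
          rw [← mul_pow, this, mul_zero, zero_mul]
    _ = _ := by
      simp only [add_mul, Finset.sum_add_distrib, mul_assoc, ← Finset.mul_sum]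
      simp only [pow_one] at h1
      simp only [pow_zero, one_mul] at h0
      rw [h1, h2, one_mul, h0]
      ring

include L hz hM in
/-- Square sums against a function do not depend on the central scalar. -/
theorem Local.sum_sq_indep {lam : ℂ} (hlam : lam ^ 3 = 1) (f : A → ℂ) :
    ∑ χ : Blk M A, (if scal z (χ.1 : A → ℂ) = lam then
        rIn (χ.1 : A → ℂ) f * conj (rIn (χ.1 : A → ℂ) f) else 0) =
      ∑ χ : Blk M A, (if scal z (χ.1 : A → ℂ) = 1 then
        rIn (χ.1 : A → ℂ) f * conj (rIn (χ.1 : A → ℂ) f) else 0) := by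
  have key : ∀ {μ : ℂ}, μ ^ 3 = 1 → ∑ χ : Blk M A, (if scal z (χ.1 : A → ℂ) = μ then
      rIn (χ.1 : A → ℂ) f * conj (rIn (χ.1 : A → ℂ) f) else 0) =
      (Nat.card A : ℂ)⁻¹ * (Nat.card A : ℂ)⁻¹ * ∑ s, ∑ t,
        if IsPRegular 3 s ∧ IsPRegular 3 t then
          conj (f s) * f t * (regKer (principalBlock M A) s t / 3) else 0 := by
    intro μ hμ
    rw [Finset.sum_congr rfl (g := fun χ : Blk M A => (Nat.card A : ℂ)⁻¹ * (Nat.card A : ℂ)⁻¹ *
      ∑ s, ∑ t, if IsPRegular 3 s ∧ IsPRegular 3 t then conj (f s) * f t *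
        (if scal z (χ.1 : A → ℂ) = μ then (χ.1 : A → ℂ) s * conj ((χ.1 : A → ℂ) t) else 0)
        else 0) fun χ _ => ?_]
    · rw [← Finset.mul_sum, Finset.sum_comm]
      congr 1
      refine Finset.sum_congr rfl fun s _ => ?_
      rw [Finset.sum_comm]
      refine Finset.sum_congr rfl fun t _ => ?_
      split_ifs with h
      · rw [← Finset.mul_sum, ← L.kernel hz hM hμ h.1 h.2]
        ring
      · simp
    · split_ifs with hχ
      · simp only [rIn, map_mul, map_inv₀, Complex.conj_natCast, map_sum]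
        rw [mul_mul_mul_comm, Finset.sum_mul_sum]
        congr 1
        refine Finset.sum_congr rfl fun s _ => Finset.sum_congr rfl fun t _ => ?_
        by_cases hs : IsPRegular 3 s <;> by_cases ht : IsPRegular 3 t <;>
          simp only [hs, ht, if_true, if_false, and_true, and_false, map_zero, mul_zero, zero_mul,
            map_mul, Complex.conj_conj]
        ring
      · simp
  rw [key hlam, key (one_pow 3)]

include L hz hM in
/-- The rank of the principal block. -/
theorem Local.rank_eq :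
    (blockRank 3 (principalBlock M A) : ℂ) =
      3 * ∑ χ ∈ unitRows M A, rIn (χ.1 : A → ℂ) (χ.1 : A → ℂ) := by
  haveI : Fact (Nat.Prime 3) := ⟨Nat.prime_three⟩
  have h := card_mul_blockRank (p := 3) hM
    (vInt_indVec hM (isPBlock_principal (M := M) (G := A)))
  have hcard : (Nat.card A : ℂ) ≠ 0 := Char.card_cast_ne_zero
  have hfilter : unitRows M A = Finset.univ.filter fun χ : Blk M A => scal z (χ.1 : A → ℂ) = 1 := by
    ext χ
    simp only [Finset.mem_filter, Finset.mem_univ, true_and]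
    exact ⟨L.scal_of_mem hz hM, fun e => by_contra fun hn => L.scal_of_notMem hz hM hn e⟩
  apply mul_left_cancel₀ hcard
  rw [h, hfilter, Finset.sum_filter]
  rw [Finset.mul_sum, Finset.mul_sum, Finset.sum_congr rfl (s₁ := Finset.univ)
    (g := fun χ : Blk M A => ∑ y, if IsPRegular 3 y then 3 * (if scal z (χ.1 : A → ℂ) = 1 then
      (χ.1 : A → ℂ) y * conj ((χ.1 : A → ℂ) y) else 0) else 0) fun χ _ => ?_]
  · rw [Finset.sum_comm]
    refine Finset.sum_congr rfl fun y _ => ?_
    rw [finsum_mem_eq_toFinset_sum]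
    by_cases hy : IsPRegular 3 y
    · simp only [pRegularPart_of_reg hy, if_pos hy]
      rw [← Finset.mul_sum, L.kernel hz hM (one_pow 3) hy hy, regKer]
    · simp only [pRegularPart_of_sing hy, if_neg hy, zero_mul, Finset.sum_const_zero]
  · split_ifs
    · rw [rIn, ← mul_assoc (3 : ℂ), ← mul_assoc, mul_comm (Nat.card A : ℂ), mul_assoc (3 : ℂ),
        inv_mul_cancel₀ hcard, mul_one, Finset.mul_sum]
      exact Finset.sum_congr rfl fun y _ => by split_ifs <;> simp
    · simp

end Cfsg.Lib.Block.ExtraThree
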