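import Mathlib.Tactic.Linarith
import Mathlib.Tactic.LinearCombination
import Mathlib.Tactic.Ring
import Mathlib.Algebra.Order.BigOperators.Group.Finset
import Mathlib.Data.Fintype.Card
import Mathlib.Algebra.BigOperators.Ring.Finset

/-!
# Integer rows for the extraspecial group of order 27

The values at the noncentral classes form columns of norm nine, congruent to the degrees modulo
three. Their shape is rigid, and it rigidifies the vectors of norm two and three orthogonal to
them.
-/

set_option autoImplicit false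
set_option linter.unusedSectionVars false

namespace Cfsg.Lib.Block.ExtraThree

open Finset

universe u v

/-- The sign of an integer prime to three. -/
def sgn (x : ℤ) : ℤ := if x % 3 = 1 then 1 else -1

theorem sgn_mul_self (x : ℤ) : sgn x * sgn x = 1 := by
  unfold sgn; split_ifs <;> norm_num

theorem sgn_cases (x : ℤ) : sgn x = 1 ∨ sgn x = -1 := by
  unfold sgn; split_ifs <;> simp

theorem eq_sgn_mul {x y : ℤ} {a : ℤ} (h : sgn x * y = a) : y = sgn x * a := by
  rw [← h, ← mul_assoc, sgn_mul_self, one_mul]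

variable {ι : Type u} [DecidableEq ι]

/-- The columns of a principal block at the noncentral classes. -/
structure Cols (S : Finset ι) (c : ℕ) (d : Fin c → ι → ℤ) (τ : ι) (deg : ι → ℤ) : Prop where
  pos : 0 < c
  tau_mem : τ ∈ S
  tau : ∀ j, d j τ = 1
  deg_tau : deg τ = 1
  orth : ∀ i j, ∑ χ ∈ S, d i χ * d j χ = if i = j then 9 else 0
  orth_deg : ∀ j, ∑ χ ∈ S, d j χ * deg χ = 0
  cong : ∀ χ ∈ S, ∀ j, (3 : ℤ) ∣ d j χ - deg χ
  unit : ∀ χ ∈ S, ¬ (3 : ℤ) ∣ deg χ

variable {S : Finset ι} {c : ℕ} {d : Fin c → ι → ℤ} {τ : ι} {deg : ι → ℤ}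

theorem Cols.entry (C : Cols S c d τ deg) {χ : ι} (hχ : χ ∈ S) (j : Fin c) :
    sgn (deg χ) * d j χ = 1 ∨ sgn (deg χ) * d j χ = -2 := by
  by_cases e : χ = τ
  · subst e
    left
    rw [C.tau, C.deg_tau]
    rfl
  have h1 : d j χ * d j χ + 1 ≤ 9 := by
    have h := Finset.sum_le_sum_of_subset_of_nonneg
      (f := fun ψ => d j ψ * d j ψ) (s := {χ, τ}) (t := S)
      (by simp [Finset.insert_subset_iff, hχ, C.tau_mem]) (fun ψ _ _ => mul_self_nonneg _)
    rw [Finset.sum_pair e, C.orth j j, if_pos rfl, C.tau, one_mul] at h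
    linarith
  have hb : -2 ≤ d j χ ∧ d j χ ≤ 2 := ⟨by nlinarith, by nlinarith⟩
  have hc := C.cong χ hχ j
  have hu := C.unit χ hχ
  rcases sgn_cases (deg χ) with hs | hs <;> rw [hs] <;> unfold sgn at hs <;> split_ifs at hs <;> omega

/-- The normalized shape of the rows. -/
structure Shape (S : Finset ι) (c : ℕ) (d : Fin c → ι → ℤ) (τ : ι) (deg : ι → ℤ)
    (R : Fin c → ι) : Prop where
  card : S.card = 6
  inj : Function.Injective R
  mem : ∀ j, R j ∈ S
  ne_tau : ∀ j, R j ≠ τ
  val : ∀ χ ∈ S, ∀ j, sgn (deg χ) * d j χ = if χ = R j then -2 else 1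

/-- The rows have the normalized shape, or there is one column of nine units. -/
theorem Cols.shape (C : Cols S c d τ deg) :
    (∃ R, Shape S c d τ deg R) ∨
      (c = 1 ∧ S.card = 9 ∧ ∀ χ ∈ S, ∀ j, sgn (deg χ) * d j χ = 1) := by
  classical
  let Bc : Fin c → Finset ι := fun j => S.filter fun χ => sgn (deg χ) * d j χ = -2
  have hval : ∀ χ ∈ S, ∀ j,
      sgn (deg χ) * d j χ = 1 - 3 * (if χ ∈ Bc j then 1 else 0) := by
    intro χ hχ j
    rcases C.entry hχ j with h | h
    · rw [if_neg (by simp [Bc, h]), h]; norm_num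
    · rw [if_pos (by simp [Bc, hχ, h]), h]; norm_num
  have hprod : ∀ χ ∈ S, ∀ i j, d i χ * d j χ =
      1 - 3 * (if χ ∈ Bc i then 1 else 0) - 3 * (if χ ∈ Bc j then 1 else 0) +
        9 * (if χ ∈ Bc i ∩ Bc j then 1 else 0) := by
    intro χ hχ i j
    have e : d i χ * d j χ = (sgn (deg χ) * d i χ) * (sgn (deg χ) * d j χ) := by
      rw [show sgn (deg χ) * d i χ * (sgn (deg χ) * d j χ) =
        sgn (deg χ) * sgn (deg χ) * (d i χ * d j χ) by ring, sgn_mul_self, one_mul]
    rw [e, hval χ hχ i, hval χ hχ j]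
    by_cases hi : χ ∈ Bc i <;> by_cases hj : χ ∈ Bc j <;> simp [hi, hj]
  have hsub : ∀ j, Bc j ⊆ S := fun j => Finset.filter_subset _ _
  have hsum : ∀ i j, ((S.card : ℤ) - 3 * (Bc i).card - 3 * (Bc j).card +
      9 * (Bc i ∩ Bc j).card) = if i = j then 9 else 0 := by
    intro i j
    rw [← C.orth i j, Finset.sum_congr rfl fun χ hχ => hprod χ hχ i j]
    simp only [Finset.sum_add_distrib, Finset.sum_sub_distrib, ← Finset.mul_sum, Finset.sum_boole,
      Finset.sum_const, nsmul_eq_mul, mul_one]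
    rw [Finset.filter_mem_eq_inter, Finset.filter_mem_eq_inter, Finset.filter_mem_eq_inter,
      Finset.inter_eq_right.2 (hsub i), Finset.inter_eq_right.2 (hsub j),
      Finset.inter_eq_right.2 (Finset.inter_subset_left.trans (hsub i))]
  have hdiag : ∀ j, (S.card : ℤ) + 3 * (Bc j).card = 9 := by
    intro j
    have h := hsum j j
    rw [if_pos rfl, Finset.inter_self] at h
    linarith
  have hτ : ∀ j, τ ∉ Bc j := fun j h => by
    have h2 := (Finset.mem_filter.1 h).2
    rw [C.tau, C.deg_tau] at h2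
    exact absurd h2 (by decide)
  have hb : ∀ j, (Bc j).card ≤ 1 := by
    intro j
    by_contra hlt
    have hins : insert τ (Bc j) ⊆ S := Finset.insert_subset C.tau_mem (hsub j)
    have hle := Finset.card_le_card hins
    rw [Finset.card_insert_of_notMem (hτ j)] at hle
    have hd := hdiag j
    have h2 : (Bc j).card = 2 := by omega
    have hS : S = insert τ (Bc j) := (Finset.eq_of_subset_of_card_le hins
      (by rw [Finset.card_insert_of_notMem (hτ j)]; omega)).symm
    have ho := C.orth_deg j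
    rw [hS, Finset.sum_insert (hτ j), C.tau, C.deg_tau, one_mul] at ho
    have he : (2 : ℤ) ∣ ∑ χ ∈ Bc j, d j χ * deg χ := Finset.dvd_sum fun χ hχ => by
      rw [eq_sgn_mul (Finset.mem_filter.1 hχ).2]
      exact ⟨-(sgn (deg χ) * deg χ), by ring⟩
    obtain ⟨k, hk⟩ := he
    omega
  let j₀ : Fin c := ⟨0, C.pos⟩
  rcases Nat.eq_zero_or_pos (Bc j₀).card with h0 | h1
  · have hd := hdiag j₀
    have hall : ∀ j, (Bc j).card = 0 := fun j => by have := hdiag j; omega
    refine Or.inr ⟨?_, by omega, fun χ hχ j => ?_⟩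
    · by_contra hne
      have h := hsum j₀ ⟨1, by have := C.pos; omega⟩
      rw [if_neg (by simp [j₀, Fin.ext_iff]), Finset.card_eq_zero.1 (hall j₀),
        Finset.empty_inter] at h
      have hn := hdiag j₀
      rw [hall j₀] at hn
      rw [hall] at h
      push_cast [Finset.card_empty] at h hn
      omega
    · rcases C.entry hχ j with h | h
      · exact h
      · have : χ ∈ Bc j := Finset.mem_filter.2 ⟨hχ, h⟩
        rw [Finset.card_eq_zero.1 (hall j)] at this
        exact absurd this (Finset.notMem_empty χ)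
  · have hd := hdiag j₀
    have hb0 := hb j₀
    have hone : ∀ j, (Bc j).card = 1 := fun j => by
      have := hdiag j; have := hb j; omega
    choose R hR using fun j => Finset.card_eq_one.1 (hone j)
    have hRm : ∀ j, R j ∈ Bc j := fun j => hR j ▸ Finset.mem_singleton_self _
    refine Or.inl ⟨R, by omega, fun i j hij => ?_, fun j => hsub j (hRm j),
      fun j h => hτ j (h ▸ hRm j), fun χ hχ j => ?_⟩
    · by_contra hne
      have h := hsum i j
      rw [if_neg hne, hone i, hone j, hR i, hR j, hij, Finset.inter_self,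
        Finset.card_singleton] at h
      push_cast at h
      omega
    · rcases C.entry hχ j with h | h
      · rw [if_neg, h]
        intro e
        have := (Finset.mem_filter.1 (hRm j)).2
        rw [← e, h] at this
        exact absurd this (by decide)
      · have hm : χ ∈ Bc j := Finset.mem_filter.2 ⟨hχ, h⟩
        rw [hR j, Finset.mem_singleton] at hm
        rw [if_pos hm, h]

/-- A vector of norm nine whose entries are congruent modulo three. -/
theorem exists_single_three {κ : Type v} [DecidableEq κ] (U : Finset κ) (S₀ : ℤ) (w : κ → ℤ)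
    (hq : ¬ 3 ∣ U.card) (hc : ∀ u ∈ U, (3 : ℤ) ∣ w u - S₀) (hn : ∑ u ∈ U, w u * w u = 9) :
    ∃ u₀ ∈ U, (w u₀ = 3 ∨ w u₀ = -3) ∧ ∀ u ∈ U, u ≠ u₀ → w u = 0 := by
  by_cases hS : (3 : ℤ) ∣ S₀
  · have h3 : ∀ u ∈ U, (3 : ℤ) ∣ w u := fun u hu => by
      have := hc u hu; omega
    choose! k hk using h3
    have hk1 : ∑ u ∈ U, k u * k u = 1 := by
      rw [Finset.sum_congr rfl fun u hu => show w u * w u = 9 * (k u * k u) by rw [hk u hu]; ring,
        ← Finset.mul_sum] at hn
      linarith
    obtain ⟨u₀, hu₀, hne⟩ : ∃ u ∈ U, k u ≠ 0 := by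
      by_contra! h
      rw [Finset.sum_eq_zero fun u hu => by rw [h u hu, mul_zero]] at hk1
      exact zero_ne_one hk1
    rw [← Finset.add_sum_erase U _ hu₀] at hk1
    have hpos : 0 < k u₀ * k u₀ := mul_self_pos.2 hne
    have hnn : 0 ≤ ∑ u ∈ U.erase u₀, k u * k u := Finset.sum_nonneg fun u _ => mul_self_nonneg _
    refine ⟨u₀, hu₀, ?_, fun u hu hne' => ?_⟩
    · have h1 : k u₀ * k u₀ = 1 := by omega
      rcases Int.eq_one_or_neg_one_of_mul_eq_one h1 with e | e <;> rw [hk u₀ hu₀, e] <;> norm_num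
    · have h0 : ∑ u ∈ U.erase u₀, k u * k u = 0 := by omega
      have := (Finset.sum_eq_zero_iff_of_nonneg fun u _ => mul_self_nonneg _).1 h0 u
        (Finset.mem_erase.2 ⟨hne', hu⟩)
      rw [hk u hu, mul_self_eq_zero.1 this, mul_zero]
  · exfalso
    have h1 : ∀ u ∈ U, (3 : ℤ) ∣ w u * w u - 1 := fun u hu => by
      obtain ⟨k, hk⟩ := hc u hu
      have e : w u = S₀ + 3 * k := by linarith
      obtain ⟨m, hm⟩ : (3 : ℤ) ∣ S₀ * S₀ - 1 := by
        rcases (by omega : S₀ % 3 = 1 ∨ S₀ % 3 = 2) with h | h <;>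
          (apply Int.dvd_of_emod_eq_zero; rw [Int.sub_emod, Int.mul_emod, h]; decide)
      exact ⟨m + 2 * S₀ * k + 3 * k * k, by rw [e]; linear_combination hm⟩
    obtain ⟨m, hm⟩ := Finset.dvd_sum h1
    rw [Finset.sum_sub_distrib, hn, Finset.sum_const, nsmul_eq_mul, mul_one] at hm
    omega

/-! ### Integer vectors of small norm -/

variable [Fintype ι]

theorem support_card {f : ι → ℤ} {n : ℕ} (hn : n ≤ 3) (h : ∑ i, f i * f i = n) :
    (∀ i, f i = 0 ∨ f i = 1 ∨ f i = -1) ∧
      (Finset.univ.filter fun i => f i ≠ 0).card = n := by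
  have hb : ∀ i, f i = 0 ∨ f i = 1 ∨ f i = -1 := fun i => by
    have := Finset.single_le_sum (f := fun i => f i * f i) (fun i _ => mul_self_nonneg _)
      (Finset.mem_univ i)
    have h1 : f i * f i ≤ 3 := le_trans this (by rw [h]; exact_mod_cast hn)
    have : -1 ≤ f i ∧ f i ≤ 1 := ⟨by nlinarith, by nlinarith⟩
    omega
  refine ⟨hb, ?_⟩
  have e : ∑ i, f i * f i = ∑ i, if f i ≠ 0 then (1 : ℤ) else 0 :=
    Finset.sum_congr rfl fun i _ => by rcases hb i with h | h | h <;> simp [h]
  rw [e, Finset.sum_boole] at h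
  exact_mod_cast h

theorem sum_mul_support (f g : ι → ℤ) :
    ∑ i, f i * g i = ∑ i ∈ Finset.univ.filter (fun i => f i ≠ 0), f i * g i :=
  (Finset.sum_filter_of_ne (s := Finset.univ) (p := fun i => f i ≠ 0) (f := fun i => f i * g i)
    fun i _ h hf => h (by rw [hf, zero_mul])).symm

/-- A vector of norm two orthogonal to positive weights is a difference of two characters of
equal weight. -/
theorem norm_two {f deg : ι → ℤ} (h : ∑ i, f i * f i = 2) (hd : ∑ i, f i * deg i = 0)
    (hpos : ∀ i, 0 < deg i) :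
    ∃ a b, a ≠ b ∧ deg a = deg b ∧ f a = 1 ∧ f b = -1 ∧ ∀ i, i ≠ a → i ≠ b → f i = 0 := by
  obtain ⟨hb, hc⟩ := support_card (n := 2) (by norm_num) h
  obtain ⟨a, b, hab, hS⟩ := Finset.card_eq_two.1 hc
  rw [sum_mul_support, hS, Finset.sum_pair hab] at hd
  have hout : ∀ i, i ≠ a → i ≠ b → f i = 0 := fun i ha hb' => by
    by_contra hne
    have : i ∈ ({a, b} : Finset ι) := hS ▸ Finset.mem_filter.2 ⟨Finset.mem_univ i, hne⟩
    simp [ha, hb'] at this
  have ha : f a ≠ 0 := (Finset.mem_filter.1 (hS ▸ Finset.mem_insert_self a {b} :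
    a ∈ Finset.univ.filter fun i => f i ≠ 0)).2
  have hb0 : f b ≠ 0 := (Finset.mem_filter.1 (hS ▸ Finset.mem_insert_of_mem
    (Finset.mem_singleton_self b) : b ∈ Finset.univ.filter fun i => f i ≠ 0)).2
  have := hpos a
  have := hpos b
  rcases hb a with e | e | e <;> rcases hb b with e' | e' | e' <;>
    first | exact absurd e ha | exact absurd e' hb0 | (rw [e, e'] at hd)
  · linarith
  · exact ⟨a, b, hab, by linarith, e, e', hout⟩
  · exact ⟨b, a, hab.symm, by linarith, e', e, fun i h1 h2 => hout i h2 h1⟩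
  · linarith

end Cfsg.Lib.Block.ExtraThree
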