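import Cfsg.Agent.Lib.Block.DihedralColumns
import Cfsg.Agent.Lib.Block.PrincipalColumns
import Cfsg.Agent.Lib.Block.PrincipalSums
import Cfsg.Agent.Lib.Block.SectionCount
import Cfsg.Agent.Lib.Block.ExtraThree.Rows

/-!
# Sections and columns for a group with an extraspecial Sylow subgroup of order 27

The three-elements are conjugate to the identity, to a weakly closed central element or its
inverse, or to one of finitely many elements whose centralizers have a normal three-complement.
-/

set_option autoImplicit false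
set_option linter.unusedSectionVars false
set_option linter.style.haveILetI false
set_option maxHeartbeats 800000

namespace Cfsg.Lib.Block.ExtraThree

open Cfsg Cfsg.Lib Cfsg.Lib.Block Subgroup
open scoped ComplexConjugate Classical

universe u

noncomputable local instance (priority := high) fintypeSubgroupColumns {A : Type u} [Group A]
    [Fintype A] (B : Subgroup A) : Fintype B := Fintype.ofFinite B

variable {A : Type u} [Group A] [Fintype A]

/-- The three-classes and the centralizers of the noncentral ones. -/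
structure Local (z : A) {c : ℕ} (X : Fin c → A) : Prop where
  pos : 0 < c
  z_order : orderOf z = 3
  x_order : ∀ j, orderOf (X j) = 3
  z_inv : ¬ IsConj z z⁻¹
  sep : ∀ i j, IsConj (X i) (X j) → i = j
  zx : ∀ j, ¬ IsConj z (X j) ∧ ¬ IsConj z⁻¹ (X j)
  inv : ∀ j, IsConj (X j) (X j)⁻¹
  twist : ∀ j, ∃ n, n * z = z * n ∧ n * X j * n⁻¹ = X j * z
  cover : ∀ g : A, (∃ k : ℕ, orderOf g = 3 ^ k) →
    g = 1 ∨ IsConj z g ∨ IsConj z⁻¹ g ∨ ∃ j, IsConj (X j) g
  compl : ∀ j, HasNormalPComplement 3 (centralizer ({X j} : Set A))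
  card_cen : ∀ j, ∀ R : Sylow 3 (centralizer ({X j} : Set A)),
    Nat.card (R : Subgroup (centralizer ({X j} : Set A))) = 9

/-- The section of `F` at `u`, averaged over the centralizer. -/
noncomputable def secAvg (u : A) (F : A → ℂ) : ℂ :=
  (Nat.card (centralizer ({u} : Set A)) : ℂ)⁻¹ *
    ∑ y : centralizer ({u} : Set A), if IsPRegular 3 y then F (u * (y : A)) else 0

/-- A function constant on the noncentral sections. -/
def XConst {c : ℕ} (X : Fin c → A) (f : A → ℂ) : Prop :=
  ∀ j y, Commute (X j) y → ¬ 3 ∣ orderOf y → f (X j * y) = f (X j)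

theorem XConst.add {c : ℕ} {X : Fin c → A} {f g : A → ℂ} (hf : XConst X f) (hg : XConst X g) :
    XConst X (f + g) := fun j y h h' => by
  simp only [Pi.add_apply, hf j y h h', hg j y h h']

theorem XConst.smul {c : ℕ} {X : Fin c → A} {f : A → ℂ} (hf : XConst X f) (a : ℂ) :
    XConst X (a • f) := fun j y h h' => by
  simp only [Pi.smul_apply, hf j y h h']

theorem XConst.sum {c : ℕ} {X : Fin c → A} {ι : Type*} (s : Finset ι) (f : ι → A → ℂ)
    (hf : ∀ i ∈ s, XConst X (f i)) : XConst X (∑ i ∈ s, f i) := fun j y h h' => by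
  simp only [Finset.sum_apply]
  exact Finset.sum_congr rfl fun i hi => hf i hi j y h h'

variable {z : A} {c : ℕ} {X : Fin c → A}

theorem Local.exists_pow_z (L : Local z X) : ∃ k : ℕ, orderOf z = 3 ^ k :=
  ⟨1, by rw [L.z_order, pow_one]⟩

theorem Local.exists_pow_zinv (L : Local z X) : ∃ k : ℕ, orderOf z⁻¹ = 3 ^ k :=
  ⟨1, by rw [orderOf_inv, L.z_order, pow_one]⟩

theorem Local.exists_pow_x (L : Local z X) (j : Fin c) : ∃ k : ℕ, orderOf (X j) = 3 ^ k :=
  ⟨1, by rw [L.x_order, pow_one]⟩

theorem Local.ne_one_z (L : Local z X) : z ≠ 1 := fun h => by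
  have := L.z_order; rw [h, orderOf_one] at this; omega

theorem Local.ne_one_x (L : Local z X) (j : Fin c) : X j ≠ 1 := fun h => by
  have := L.x_order j; rw [h, orderOf_one] at this; omega

theorem isPRegular_coe {H : Subgroup A} (y : H) : IsPRegular 3 y ↔ ¬ 3 ∣ orderOf (y : A) := by
  rw [IsPRegular, Subgroup.orderOf_coe]

theorem sum_section (u : A) (hu : ∃ k : ℕ, orderOf u = 3 ^ k) {F : A → ℂ}
    (hF : IsClassFunction A F) :
    (Nat.card A : ℂ)⁻¹ * ∑ g ∈ Finset.univ.filter (fun g => IsConj (pPt 3 g) u), F g =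
      secAvg u F := by
  haveI : Fact (Nat.Prime 3) := ⟨Nat.prime_three⟩
  have h := card_mul_sum_pPt_conj (p := 3) hF u
  have e := sum_pPt_eq (p := 3) hu
    (fun h : centralizer ({u} : Set A) => (mem_centralizer_singleton_iff.1 h.2).symm) le_rfl F
  rw [e] at h
  have hA : (Nat.card A : ℂ) ≠ 0 := Char.card_cast_ne_zero
  have hC : (Nat.card (centralizer ({u} : Set A)) : ℂ) ≠ 0 := Char.card_cast_ne_zero
  rw [secAvg, inv_mul_eq_iff_eq_mul₀ hA, ← mul_assoc, mul_comm (Nat.card A : ℂ), mul_assoc, ← h,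
    ← mul_assoc, inv_mul_cancel₀ hC, one_mul]

/-- An average over the group as the sum of its sections. -/
theorem Local.decomp (L : Local z X) {F : A → ℂ} (hF : IsClassFunction A F) :
    (Nat.card A : ℂ)⁻¹ * ∑ g, F g = (Nat.card A : ℂ)⁻¹ * ∑ g, pRegularPart 3 F g +
      secAvg z F + secAvg z⁻¹ F + ∑ j, secAvg (X j) F := by
  haveI : Fact (Nat.Prime 3) := ⟨Nat.prime_three⟩
  rw [← sum_section z L.exists_pow_z hF, ← sum_section z⁻¹ L.exists_pow_zinv hF,
    Finset.sum_congr rfl fun j _ => (sum_section (X j) (L.exists_pow_x j) hF).symm,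
    ← Finset.mul_sum, ← mul_add, ← mul_add, ← mul_add]
  congr 1
  simp only [Finset.sum_filter]
  rw [Finset.sum_comm, ← Finset.sum_add_distrib, ← Finset.sum_add_distrib, ← Finset.sum_add_distrib]
  refine Finset.sum_congr rfl fun g _ => ?_
  have hone : ∀ {u : A}, u ≠ 1 → IsConj (pPt 3 g) u → ¬ IsPRegular 3 g := by
    intro u hu hc hreg
    have e : pPt 3 g = 1 := (eq_pPt (p := 3) (one_mul g) (Commute.one_left g)
      (k := 0) (by rw [orderOf_one, pow_zero]) hreg).symm
    rw [e] at hc
    exact hu (isConj_one_right.1 hc)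
  have hz1 : z⁻¹ ≠ 1 := inv_ne_one.2 L.ne_one_z
  rcases L.cover _ (exists_orderOf_pPt g) with h | h | h | ⟨j, h⟩
  · have hreg : IsPRegular 3 g := by
      have e := pPt_mul_pReg (p := 3) g
      rw [h, one_mul] at e
      rw [← e]
      exact not_dvd_orderOf_pReg g
    rw [pRegularPart_of_reg hreg, if_neg fun hc => hone L.ne_one_z hc hreg,
      if_neg fun hc => hone hz1 hc hreg,
      Finset.sum_eq_zero fun j _ => if_neg fun hc => hone (L.ne_one_x j) hc hreg]
    ring
  · rw [pRegularPart_of_sing (hone L.ne_one_z h.symm), if_pos h.symm,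
      if_neg fun hc => L.z_inv (h.trans hc),
      Finset.sum_eq_zero fun j _ => if_neg fun hc => (L.zx j).1 (h.trans hc)]
    ring
  · rw [pRegularPart_of_sing (hone hz1 h.symm), if_neg fun hc => L.z_inv (hc.symm.trans h.symm),
      if_pos h.symm, Finset.sum_eq_zero fun j _ => if_neg fun hc => (L.zx j).2 (h.trans hc)]
    ring
  · rw [pRegularPart_of_sing (hone (L.ne_one_x j) h.symm),
      if_neg fun hc => (L.zx j).1 (h.trans hc).symm, if_neg fun hc => (L.zx j).2 (h.trans hc).symm,
      Finset.sum_eq_single j (fun i _ hi => if_neg fun hc => hi (L.sep j i (h.trans hc)).symm)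
        (fun hj => absurd (Finset.mem_univ j) hj), if_pos h.symm]
    ring

theorem Local.secAvg_x (L : Local z X) (j : Fin c) {F : A → ℂ}
    (hF : ∀ y, Commute (X j) y → ¬ 3 ∣ orderOf y → F (X j * y) = F (X j)) :
    secAvg (X j) F = F (X j) / 9 := by
  haveI : Fact (Nat.Prime 3) := ⟨Nat.prime_three⟩
  set C := centralizer ({X j} : Set A) with hC
  obtain ⟨R⟩ : Nonempty (Sylow 3 C) := inferInstance
  obtain ⟨N, hNn, hNc⟩ := (Fusion.hasNormalPComplement_iff_exists R).1 (L.compl j)
  have hidx : N.index = 9 := by rw [hNc.symm.index_eq_card, L.card_cen j R]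
  have hNnot : ¬ 3 ∣ Nat.card N := by
    rw [← hNc.index_eq_card]
    exact R.not_dvd_index
  obtain ⟨M, hM⟩ := exists_isPModular (q := 3) Nat.prime_three
  have hiff := mem_iff_isPRegular hM hNnot ⟨2, by rw [hidx]; norm_num⟩
  rw [secAvg, Finset.sum_congr rfl (g := fun y : C => if y ∈ N then F (X j) else 0) fun y _ => ?_,
    ← Finset.sum_filter, Finset.sum_const, nsmul_eq_mul, ← Fintype.card_subtype,
    ← Nat.card_eq_fintype_card]
  · have hmul : (Nat.card N : ℂ) * 9 = (Nat.card C : ℂ) := by
      rw [← Subgroup.card_mul_index N, hidx]; push_cast; ring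
    have hN0 : (Nat.card N : ℂ) ≠ 0 := Char.card_cast_ne_zero
    rw [show (Nat.card {y : C // y ∈ N} : ℂ) = (Nat.card N : ℂ) from rfl, ← hmul]
    field_simp
  · by_cases hy : IsPRegular 3 y
    · rw [if_pos hy, if_pos ((hiff y).2 hy),
        hF y (mem_centralizer_singleton_iff.1 y.2).symm ((isPRegular_coe y).1 hy)]
    · rw [if_neg hy, if_neg (mt (hiff y).1 hy)]

/-- The inner product as a sum over the sections. -/
theorem Local.classInner_eq (L : Local z X) {f g : A → ℂ} (hf : IsClassFunction A f)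
    (hg : IsClassFunction A g) (hfx : XConst X f) (hgx : XConst X g) :
    classInner f g = regInner 3 f g + secAvg z (fun a => f a * conj (g a)) +
      secAvg z⁻¹ (fun a => f a * conj (g a)) + ∑ j, f (X j) * conj (g (X j)) / 9 := by
  have h := L.decomp (F := fun a => f a * conj (g a)) fun a b => by simp only [hf a b, hg a b]
  rw [Finset.sum_congr rfl fun j _ => L.secAvg_x j (F := fun a => f a * conj (g a))
    fun y h1 h2 => by simp only [hfx j y h1 h2, hgx j y h1 h2]] at h
  rw [classInner, h, regInner, classInner]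
  congr 4
  refine Finset.sum_congr rfl fun a _ => ?_
  by_cases ha : IsPRegular 3 a
  · rw [pRegularPart_of_reg ha, pRegularPart_of_reg ha]
  · rw [pRegularPart_of_sing ha, pRegularPart_of_sing ha, zero_mul]

/-! ### The columns -/

theorem Local.exists_val (L : Local z X) (j : Fin c) (χ : IrrCharacter A) :
    ∃ m : ℤ, (χ : A → ℂ) (X j) = m ∧ (3 : ℤ) ∣ m - (charDegree (χ : A → ℂ) : ℤ) := by
  obtain ⟨ζ, hζ⟩ : ∃ ζ : ℂ, IsPrimitiveRoot ζ 3 :=
    ⟨_, Complex.isPrimitiveRoot_exp 3 (by norm_num)⟩
  have h3 : X j ^ 3 = 1 := by rw [← L.x_order j, pow_orderOf_eq_one]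
  obtain ⟨N, hN⟩ := exists_multiplicity χ hζ (by norm_num) h3
  have h0 := hN 0
  have h1 := hN 1
  have h2 := hN 2
  simp only [Finset.sum_range_succ, Finset.sum_range_zero, zero_add, pow_zero, pow_one, zero_mul,
    mul_one, mul_zero, one_mul, Nat.reduceMul] at h0 h1 h2
  have hinv : X j ^ 2 = (X j)⁻¹ := eq_inv_of_mul_eq_one_left (by rw [← pow_succ, h3])
  have heq : (χ : A → ℂ) (X j ^ 2) = (χ : A → ℂ) (X j) := by
    obtain ⟨n, hn⟩ := isConj_iff.1 (L.inv j)
    rw [hinv, ← hn, χ.2.isClassFunction]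
  have h4 : ζ ^ 4 = ζ := by rw [show 4 = 3 + 1 from rfl, pow_succ, hζ.pow_eq_one, one_mul]
  have hsum : 1 + ζ + ζ ^ 2 = 0 := by
    have h := hζ.geom_sum_eq_zero (by norm_num)
    simpa [Finset.sum_range_succ] using h
  rw [heq, h1, h4] at h2
  have hne : ζ - ζ ^ 2 ≠ 0 := by
    intro h
    have : ζ * (1 - ζ) = 0 := by rw [← h]; ring
    rcases mul_eq_zero.1 this with e | e
    · exact hζ.ne_zero (by norm_num) e
    · exact hζ.ne_one (by norm_num) (sub_eq_zero.1 e).symm
  have hN12 : (N 1 : ℂ) = N 2 := by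
    have : ((N 1 : ℂ) - N 2) * (ζ - ζ ^ 2) = 0 := by linear_combination h2
    exact sub_eq_zero.1 ((mul_eq_zero.1 this).resolve_right hne)
  refine ⟨(N 0 : ℤ) - N 1, ?_, ?_⟩
  · push_cast
    rw [h1, ← hN12]
    linear_combination (N 1 : ℂ) * hsum
  · rw [apply_one_eq_charDegree] at h0
    have hdeg : charDegree (χ : A → ℂ) = N 0 + N 1 + N 2 := by exact_mod_cast h0
    have h12 : N 1 = N 2 := by exact_mod_cast hN12
    omega

variable {M : Ideal AlgInt}

/-- The members of the principal block. -/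
abbrev Blk (M : Ideal AlgInt) (A : Type u) [Group A] : Type u :=
  {χ : IrrCharacter A // χ ∈ principalBlock M A}

/-- The integral value at a noncentral class. -/
noncomputable def Local.val (L : Local z X) (j : Fin c) (χ : IrrCharacter A) : ℤ :=
  (L.exists_val j χ).choose

theorem Local.val_spec (L : Local z X) (j : Fin c) (χ : IrrCharacter A) :
    (χ : A → ℂ) (X j) = L.val j χ ∧ (3 : ℤ) ∣ L.val j χ - (charDegree (χ : A → ℂ) : ℤ) :=
  (L.exists_val j χ).choose_spec

variable (hM : IsPModular 3 M)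

include hM in
/-- The trivial member. -/
noncomputable def tauBlk : Blk M A := ⟨trivChar A, trivChar_mem_principal hM⟩

/-- The degrees on the principal block. -/
noncomputable def degBlk (χ : Blk M A) : ℤ := (charDegree (χ.1 : A → ℂ) : ℤ)

/-- The members of height zero. -/
noncomputable def unitRows (M : Ideal AlgInt) (A : Type u) [Group A] [Fintype A] :
    Finset (Blk M A) := Finset.univ.filter fun χ => ¬ (3 : ℤ) ∣ degBlk χ

theorem sum_blk (f : IrrCharacter A → ℂ) :
    ∑ χ : Blk M A, f χ.1 = ∑ᶠ χ ∈ principalBlock M A, f χ := by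
  rw [finsum_mem_eq_toFinset_sum]
  exact (Finset.sum_subtype (p := fun φ => φ ∈ principalBlock M A) _
    (fun _ => Set.mem_toFinset) f).symm

include hM in
theorem Local.xconst (L : Local z X) (χ : Blk M A) : XConst X (χ.1 : A → ℂ) := fun j y h h' => by
  haveI : Fact (Nat.Prime 3) := ⟨Nat.prime_three⟩
  exact principal_value_of_complement hM (L.exists_pow_x j) (L.compl j) χ.2 h h'

include hM in
theorem Local.column (L : Local z X) (i j : Fin c) :
    ∑ χ : Blk M A, (L.val i χ.1 : ℂ) * L.val j χ.1 = if i = j then 9 else 0 := by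
  haveI : Fact (Nat.Prime 3) := ⟨Nat.prime_three⟩
  have h := principal_column hM (L.exists_pow_x i) (L.exists_pow_x j) (u := X i) (v := X j)
  rw [← sum_blk (fun χ : IrrCharacter A => (χ : A → ℂ) (X i) * conj ((χ : A → ℂ) (X j)))] at h
  rw [Finset.sum_congr rfl fun χ _ => show (L.val i χ.1 : ℂ) * L.val j χ.1 =
    (χ.1 : A → ℂ) (X i) * conj ((χ.1 : A → ℂ) (X j)) by
      rw [(L.val_spec i χ.1).1, (L.val_spec j χ.1).1, map_intCast], h]
  by_cases hij : i = j
  · subst hij
    obtain ⟨R⟩ : Nonempty (Sylow 3 (centralizer ({X i} : Set A))) := inferInstance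
    rw [if_pos (IsConj.refl _), if_pos rfl, principalDegSq_of_complement hM (L.compl i) R,
      L.card_cen i R]
    norm_num
  · rw [if_neg (fun hc => hij (L.sep i j hc)), if_neg hij]

include hM in
theorem Local.column_deg (L : Local z X) (j : Fin c) :
    ∑ χ : Blk M A, (L.val j χ.1 : ℂ) * (degBlk χ : ℂ) = 0 := by
  haveI : Fact (Nat.Prime 3) := ⟨Nat.prime_three⟩
  have h1 : pPt 3 (1 : A) = 1 := (eq_pPt (p := 3) (one_mul 1) (Commute.one_left 1)
    (k := 0) (by rw [orderOf_one, pow_zero]) (by rw [orderOf_one]; norm_num)).symm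
  have hx : pPt 3 (X j) = X j := by
    obtain ⟨k, hk⟩ := L.exists_pow_x j
    exact (eq_pPt (mul_one _) (Commute.one_right _) hk (by rw [orderOf_one]; norm_num)).symm
  have h := sum_block_mul_conj_eq_zero hM (vInt_indVec hM (isPBlock_principal (M := M) (G := A)))
    (g := X j) (h := (1 : A)) (by rw [h1, hx]; exact fun hc => L.ne_one_x j (isConj_one_left.1 hc))
  rw [← sum_blk (fun χ : IrrCharacter A => (χ : A → ℂ) (X j) * conj ((χ : A → ℂ) 1))] at h
  rw [← h]
  refine Finset.sum_congr rfl fun χ _ => ?_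
  rw [(L.val_spec j χ.1).1, apply_one_eq_charDegree, Complex.conj_natCast, degBlk, Int.cast_natCast]

include hM in
theorem Local.val_tau (L : Local z X) (j : Fin c) : L.val j (tauBlk (A := A) hM).1 = 1 := by
  have h := (L.val_spec j (tauBlk (A := A) hM).1).1
  simp only [tauBlk, trivChar_coe] at h
  exact_mod_cast h.symm

include hM in
theorem degBlk_tau : degBlk (tauBlk (A := A) hM) = 1 := by
  simp [degBlk, tauBlk, charDegree, trivChar_coe]

include hM in
/-- A member of height zero is exactly one not vanishing at the noncentral classes. -/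
theorem Local.val_eq_zero (L : Local z X) {χ : Blk M A} (hχ : χ ∉ unitRows M A) (j : Fin c) :
    L.val j χ.1 = 0 := by
  have h3 : (3 : ℤ) ∣ degBlk χ := by simpa [unitRows] using hχ
  have hd := (L.val_spec j χ.1).2
  have hdvd : (3 : ℤ) ∣ L.val j χ.1 := by
    have := dvd_add hd h3
    rwa [degBlk, sub_add_cancel] at this
  by_contra hne
  have hz : ∑ ψ : Blk M A, L.val j ψ.1 * L.val j ψ.1 = 9 := by
    have := L.column hM j j
    rw [if_pos rfl] at this
    exact_mod_cast this
  have hneτ : χ ≠ tauBlk hM := fun e => by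
    subst e
    rw [degBlk_tau hM] at h3
    norm_num at h3
  have hle := Finset.sum_le_sum_of_subset_of_nonneg
    (f := fun ψ : Blk M A => L.val j ψ.1 * L.val j ψ.1) (Finset.subset_univ {χ, tauBlk hM})
    (fun ψ _ _ => mul_self_nonneg _)
  simp only [Finset.sum_pair hneτ, hz, L.val_tau hM] at hle
  obtain ⟨k, hk⟩ := hdvd
  rw [hk] at hle hne
  have : 0 < k * k := mul_self_pos.2 fun e => hne (by rw [e, mul_zero])
  nlinarith

include hM in
theorem Local.cols (L : Local z X) :
    Cols (unitRows M A) c (fun j χ => L.val j χ.1) (tauBlk hM) degBlk where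
  pos := L.pos
  tau_mem := by simp [unitRows, degBlk_tau hM]
  tau := L.val_tau hM
  deg_tau := degBlk_tau hM
  orth i j := by
    rw [Finset.sum_subset (Finset.subset_univ _) fun χ _ hχ => by
      simp only [L.val_eq_zero hM hχ, mul_zero]]
    exact_mod_cast L.column hM i j
  orth_deg j := by
    rw [Finset.sum_subset (Finset.subset_univ _) fun χ _ hχ => by
      simp only [L.val_eq_zero hM hχ, zero_mul]]
    exact_mod_cast L.column_deg hM j
  cong χ _ j := (L.val_spec j χ.1).2
  unit χ hχ := (Finset.mem_filter.1 hχ).2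

include hM in
theorem blockHeight_eq_zero_iff (χ : Blk M A) :
    blockHeight 3 (principalBlock M A) (χ.1 : A → ℂ) = 0 ↔ χ ∈ unitRows M A := by
  haveI : Fact (Nat.Prime 3) := ⟨Nat.prime_three⟩
  have h0 : sInf ((fun ψ : IrrCharacter A => (charDegree (ψ : A → ℂ)).factorization 3) ''
      principalBlock M A) = 0 := by
    refine Nat.sInf_eq_zero.2 (Or.inl ⟨trivChar A, trivChar_mem_principal hM, ?_⟩)
    simp [charDegree, trivChar_coe]
  rw [blockHeight, h0, Nat.sub_zero, Nat.factorization_eq_zero_iff, unitRows, Finset.mem_filter,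
    degBlk]
  have := charDegree_pos χ.1
  simp only [Finset.mem_univ, true_and]
  refine ⟨fun h hd => ?_, fun h => Or.inr (Or.inl ?_)⟩
  · rcases h with h | h | h
    · exact h Nat.prime_three
    · exact h (by exact_mod_cast hd)
    · omega
  · exact_mod_cast h

end Cfsg.Lib.Block.ExtraThree
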