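import Cfsg.Prelude.Def_Transfer
import Mathlib.GroupTheory.Sylow
import Mathlib.GroupTheory.Transfer
import Mathlib.Tactic.Group

/-!
# Fusion in a group with an extraspecial Sylow subgroup of order 27 and exponent three

If the normalizer of the Sylow subgroup centralizes the centre, then a generator of the centre is
weakly closed, the normalizer controls the fusion of the other elements, and their centralizers
have normal three-complements.
-/

set_option autoImplicit false
set_option linter.unusedSectionVars false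
set_option linter.style.haveILetI false

namespace Cfsg.Lib.Block.ExtraThree

open Subgroup

universe u

variable {G : Type u} [Group G]

/-- The Sylow subgroup with a generator of its centre. -/
structure Ext (P : Subgroup G) (z : G) : Prop where
  card : Nat.card P = 27
  exp : ∀ x ∈ P, x ^ 3 = 1
  mem : z ∈ P
  order : orderOf z = 3
  central : ∀ x ∈ P, z * x = x * z
  center_le : ∀ w ∈ P, (∀ y ∈ P, w * y = y * w) → w ∈ zpowers z
  comm : ∀ x ∈ P, ∀ y ∈ P, x * y * x⁻¹ * y⁻¹ ∈ zpowers z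

theorem mem_zpowers_three {z w : G} (hz : orderOf z = 3) (hw : w ∈ zpowers z) :
    w = 1 ∨ w = z ∨ w = z⁻¹ := by
  obtain ⟨i, rfl⟩ := mem_zpowers_iff.1 hw
  rw [← zpow_mod_orderOf, hz]
  have h2 : z ^ (2 : ℤ) = z⁻¹ := eq_inv_of_mul_eq_one_left (by
    rw [zpow_two, ← pow_two, ← pow_succ]
    show z ^ 3 = 1
    rw [← hz, pow_orderOf_eq_one])
  have hi : i % (3 : ℕ) = 0 ∨ i % (3 : ℕ) = 1 ∨ i % (3 : ℕ) = 2 := by omega
  rcases hi with e | e | e <;> rw [e]
  · exact Or.inl (zpow_zero z)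
  · exact Or.inr (Or.inl (zpow_one z))
  · exact Or.inr (Or.inr h2)

theorem commute_of_mem_zpowers {d z v : G} (h : d * z = z * d) (hv : v ∈ zpowers z) :
    d * v * d⁻¹ = v := by
  obtain ⟨i, rfl⟩ := mem_zpowers_iff.1 hv
  rw [((show Commute d z from h).zpow_right i).eq, mul_inv_cancel_right]

/-- The elements centralizing `z` and moving `x` inside its coset of `⟨z⟩`. -/
def movers (z x : G) : Subgroup G where
  carrier := {d | d * z = z * d ∧ d * x * d⁻¹ * x⁻¹ ∈ zpowers z}
  one_mem' := ⟨by simp, by simp⟩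
  mul_mem' {a b} ha hb := by
    refine ⟨((show Commute a z from ha.1).mul_left hb.1).eq, ?_⟩
    rw [show a * b * x * (a * b)⁻¹ * x⁻¹ = a * (b * x * b⁻¹ * x⁻¹) * a⁻¹ * (a * x * a⁻¹ * x⁻¹) by
      group, commute_of_mem_zpowers ha.1 hb.2]
    exact mul_mem hb.2 ha.2
  inv_mem' {a} ha := by
    have h : Commute a⁻¹ z := (show Commute a z from ha.1).inv_left
    refine ⟨h.eq, ?_⟩
    rw [show a⁻¹ * x * a⁻¹⁻¹ * x⁻¹ = a⁻¹ * (a * x * a⁻¹ * x⁻¹)⁻¹ * a⁻¹⁻¹ by group,
      commute_of_mem_zpowers h.eq (inv_mem ha.2)]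
    exact inv_mem ha.2

theorem mem_movers {z x d : G} :
    d ∈ movers z x ↔ d * z = z * d ∧ d * x * d⁻¹ * x⁻¹ ∈ zpowers z := Iff.rfl

/-- The commutator with `x` on the movers. -/
def moverHom (z x : G) : movers z x →* zpowers z where
  toFun d := ⟨d.1 * x * d.1⁻¹ * x⁻¹, d.2.2⟩
  map_one' := Subtype.ext (by simp)
  map_mul' a b := Subtype.ext (by
    obtain ⟨i, hi⟩ := mem_zpowers_iff.1 a.2.2
    obtain ⟨k, hk⟩ := mem_zpowers_iff.1 b.2.2
    show (a.1 * b.1) * x * (a.1 * b.1)⁻¹ * x⁻¹ =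
      (a.1 * x * a.1⁻¹ * x⁻¹) * (b.1 * x * b.1⁻¹ * x⁻¹)
    rw [show a.1 * b.1 * x * (a.1 * b.1)⁻¹ * x⁻¹ =
      a.1 * (b.1 * x * b.1⁻¹ * x⁻¹) * a.1⁻¹ * (a.1 * x * a.1⁻¹ * x⁻¹) by group,
      commute_of_mem_zpowers a.2.1 b.2.2, ← hi, ← hk, ← zpow_add, ← zpow_add, add_comm])

theorem relIndex_centralizer {z x : G} (hz : orderOf z = 3) {K : Subgroup G}
    (hK : K ≤ movers z x) {t : G} (ht : t ∈ K) (hne : t * x * t⁻¹ ≠ x) :
    (centralizer ({x} : Set G)).relIndex K = 3 := by
  let f : K →* zpowers z := (moverHom z x).comp (inclusion hK)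
  have hker : f.ker = (centralizer ({x} : Set G)).subgroupOf K := by
    ext d
    rw [MonoidHom.mem_ker, mem_subgroupOf, mem_centralizer_singleton_iff, ← OneMemClass.coe_eq_one]
    show (d : G) * x * (d : G)⁻¹ * x⁻¹ = 1 ↔ _
    rw [mul_inv_eq_one, mul_inv_eq_iff_eq_mul]
  have hdvd : Nat.card f.range ∣ 3 := by
    have h := card_subgroup_dvd_card f.range
    rwa [Nat.card_zpowers, hz] at h
  have hr : Nat.card f.range ≠ 1 := fun h => hne (by
    have hbot := (eq_bot_of_card_eq f.range h)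
    have hm : f ⟨t, ht⟩ ∈ f.range := ⟨_, rfl⟩
    rw [hbot, mem_bot, ← OneMemClass.coe_eq_one] at hm
    have hm' : t * x * t⁻¹ * x⁻¹ = 1 := hm
    exact mul_inv_eq_one.1 hm')
  rw [relIndex, ← hker, index_ker]
  rcases (Nat.dvd_prime Nat.prime_three).1 hdvd with e | e
  · exact absurd e hr
  · exact e

namespace Ext

variable {P : Subgroup G} {z : G} (h : Ext P z)

include h in
theorem ne_one : z ≠ 1 := fun e => by
  have := h.order; rw [e, orderOf_one] at this; omega

include h in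
theorem zpowers_le : zpowers z ≤ P := Subgroup.zpowers_le.2 h.mem

include h in
theorem le_movers {x : G} (hx : x ∈ P) : P ≤ movers z x := fun d hd =>
  ⟨(h.central d hd).symm, h.comm d hd x hx⟩

include h in
theorem exists_twist {x : G} (hx : x ∈ P) (hxz : x ∉ zpowers z) :
    ∃ t ∈ P, t * x * t⁻¹ = x * z := by
  obtain ⟨y, hy, hne⟩ : ∃ y ∈ P, x * y ≠ y * x := by
    by_contra! hh
    exact hxz (h.center_le x hx hh)
  have hv : y * x * y⁻¹ * x⁻¹ ∈ zpowers z := h.comm y hy x hx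
  have hc : z * x = x * z := h.central x hx
  rcases mem_zpowers_three h.order hv with e | e | e
  · exact absurd ((mul_inv_eq_iff_eq_mul.1 (mul_inv_eq_one.1 e)).symm) hne
  · exact ⟨y, hy, by rw [← hc]; exact mul_inv_eq_iff_eq_mul.1 e⟩
  · refine ⟨y⁻¹, inv_mem hy, ?_⟩
    have e' : y * x * y⁻¹ = z⁻¹ * x := mul_inv_eq_iff_eq_mul.1 e
    have hzy : Commute z y⁻¹ := Commute.inv_right (h.central y hy)
    calc y⁻¹ * x * y⁻¹⁻¹ = y⁻¹ * (z * (y * x * y⁻¹)) * y := by rw [e']; group
      _ = (y⁻¹ * z) * y * x := by group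
      _ = (z * y⁻¹) * y * x := by rw [hzy.eq]
      _ = x * z := by rw [inv_mul_cancel_right, hc]

include h in
/-- The coset of a noncentral element is one conjugacy class of `P`. -/
theorem exists_conj {x v : G} (hx : x ∈ P) (hxz : x ∉ zpowers z) (hv : v ∈ zpowers z) :
    ∃ q ∈ P, q * x * q⁻¹ = x * v := by
  obtain ⟨t, ht, htx⟩ := h.exists_twist hx hxz
  rcases mem_zpowers_three h.order hv with rfl | rfl | rfl
  · exact ⟨1, one_mem P, by simp⟩
  · exact ⟨t, ht, htx⟩
  · refine ⟨t⁻¹, inv_mem ht, ?_⟩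
    have hzt : Commute z t := h.central t ht
    calc t⁻¹ * x * t⁻¹⁻¹ = t⁻¹ * (x * z) * z⁻¹ * t := by group
      _ = t⁻¹ * (t * x * t⁻¹) * z⁻¹ * t := by rw [htx]
      _ = x * (t⁻¹ * z⁻¹) * t := by group
      _ = x * (z⁻¹ * t⁻¹) * t := by rw [(hzt.inv_inv).symm.eq]
      _ = x * z⁻¹ := by group

include h in
theorem card_inf {x : G} (hx : x ∈ P) (hxz : x ∉ zpowers z) :
    Nat.card (P ⊓ centralizer ({x} : Set G) : Subgroup G) = 9 := by
  obtain ⟨t, ht, htx⟩ := h.exists_twist hx hxz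
  have hne : t * x * t⁻¹ ≠ x := by
    rw [htx]; exact fun e => h.ne_one (mul_eq_left.1 e)
  have hr := relIndex_centralizer h.order (h.le_movers hx) ht hne
  have hmul := card_mul_index ((centralizer ({x} : Set G)).subgroupOf P)
  rw [← relIndex, hr, h.card] at hmul
  have he : Nat.card ((centralizer ({x} : Set G)).subgroupOf P) =
      Nat.card (P ⊓ centralizer ({x} : Set G) : Subgroup G) :=
    Nat.card_congr ⟨fun a => ⟨a.1.1, a.1.2, a.2⟩, fun a => ⟨⟨a.1, a.2.1⟩, a.2.2⟩,
      fun _ => rfl, fun _ => rfl⟩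
  omega

include h in
theorem inf_le [Finite G] {x : G} (hx : x ∈ P) (hxz : x ∉ zpowers z) {K : Subgroup G}
    (h1 : x ∈ K) (h2 : z ∈ K) : P ⊓ centralizer ({x} : Set G) ≤ K := by
  set E := P ⊓ centralizer ({x} : Set G) with hE
  have hxE : x ∈ E := ⟨hx, mem_centralizer_singleton_iff.2 rfl⟩
  have hzE : z ∈ E := ⟨h.mem, mem_centralizer_singleton_iff.2 (h.central x hx)⟩
  have hdvd : Nat.card (E ⊓ K : Subgroup G) ∣ 3 ^ 2 := by
    have := card_dvd_of_le (inf_le_left : E ⊓ K ≤ E)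
    rwa [h.card_inf hx hxz] at this
  obtain ⟨i, hi, hc⟩ := (Nat.dvd_prime_pow Nat.prime_three).1 hdvd
  by_cases hi2 : i = 2
  · have heq : E ⊓ K = E := Subgroup.eq_of_le_of_card_ge inf_le_left
      (by rw [h.card_inf hx hxz, hc, hi2]; norm_num)
    exact inf_eq_left.1 heq
  · exfalso
    have hle : zpowers z ≤ E ⊓ K := Subgroup.zpowers_le.2 ⟨hzE, h2⟩
    have heq : zpowers z = E ⊓ K := Subgroup.eq_of_le_of_card_ge hle (by
      rw [Nat.card_zpowers, h.order, hc]
      calc 3 ^ i ≤ 3 ^ 1 := Nat.pow_le_pow_right (by norm_num) (by omega)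
        _ = 3 := pow_one 3)
    exact hxz (heq ▸ ⟨hxE, h1⟩)

end Ext

/-! ### Conjugating into the Sylow subgroup -/

theorem mem_normalizer_of_conj_mem [Finite G] {H : Subgroup G} {n : G}
    (hn : ∀ a ∈ H, n * a * n⁻¹ ∈ H) : n ∈ normalizer (H : Set G) := by
  have hle : H.map (MulAut.conj n).toMonoidHom ≤ H := by
    rintro _ ⟨a, ha, rfl⟩
    exact hn a ha
  have heq := Subgroup.eq_of_le_of_card_ge hle
    (le_of_eq (card_map_of_injective (MulAut.conj n).injective).symm)
  rw [mem_normalizer_iff]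
  refine fun a => ⟨hn a, fun ha => ?_⟩
  rw [← heq] at ha
  obtain ⟨b, hb, hbe⟩ := ha
  have : n * b * n⁻¹ = n * a * n⁻¹ := hbe
  rwa [← mul_left_cancel (mul_right_cancel this)]

variable [Finite G] (P : Sylow 3 G)

theorem exists_conj_into {g : G} {M : Subgroup G} (hM : ∀ a ∈ (P : Subgroup G), g * a * g⁻¹ ∈ M)
    {Q : Subgroup G} (hQ : IsPGroup 3 Q) (hQM : Q ≤ M) :
    ∃ c ∈ M, ∀ a ∈ Q, (c * g)⁻¹ * a * (c * g) ∈ (P : Subgroup G) := by
  haveI : Fact (Nat.Prime 3) := ⟨Nat.prime_three⟩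
  set R : Sylow 3 G := g • P with hR
  have hmem : ∀ w, w ∈ (R : Subgroup G) ↔ g⁻¹ * w * g ∈ (P : Subgroup G) := fun w => by
    rw [hR, Sylow.coe_subgroup_smul, Subgroup.mem_pointwise_smul_iff_inv_smul_mem]
    simp [MulAut.smul_def]
  have hRM : (R : Subgroup G) ≤ M := fun w hw => by
    have := hM _ ((hmem w).1 hw)
    rwa [show g * (g⁻¹ * w * g) * g⁻¹ = w by group] at this
  have hQ' : IsPGroup 3 (Q.subgroupOf M) := hQ.of_equiv (subgroupOfEquivOfLe hQM).symm
  obtain ⟨S, hS⟩ := hQ'.exists_le_sylow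
  obtain ⟨c, hc⟩ := MulAction.exists_smul_eq M (R.subtype hRM) S
  refine ⟨c.1, c.2, fun a ha => ?_⟩
  have h1 : (⟨a, hQM ha⟩ : M) ∈ ((c • R.subtype hRM : Sylow 3 M) : Subgroup M) := by
    rw [hc]; exact hS (mem_subgroupOf.2 ha)
  rw [Sylow.coe_subgroup_smul, Subgroup.mem_pointwise_smul_iff_inv_smul_mem, Sylow.coe_subtype,
    mem_subgroupOf, hmem] at h1
  simpa [MulAut.smul_def, mul_assoc] using h1

/-- A group element conjugating `P` into a group containing `P` is corrected to a normalizing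
one. -/
theorem exists_normalizing {g : G} {M : Subgroup G}
    (hM : ∀ a ∈ (P : Subgroup G), g * a * g⁻¹ ∈ M) (hPM : (P : Subgroup G) ≤ M) :
    ∃ c ∈ M, c * g ∈ normalizer ((P : Subgroup G) : Set G) := by
  obtain ⟨c, hc, h⟩ := exists_conj_into P hM P.isPGroup' hPM
  refine ⟨c, hc, ?_⟩
  have := mem_normalizer_of_conj_mem (n := (c * g)⁻¹) fun a ha => by
    rw [inv_inv]; exact h a ha
  exact inv_mem_iff.1 this

variable {P} {z : G} (h : Ext (P : Subgroup G) z)
  (hN : ∀ n ∈ normalizer ((P : Subgroup G) : Set G), n * z = z * n)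

include h hN in
/-- The central element is not conjugate to its inverse. -/
theorem Ext.conj_ne_inv (g : G) : g * z * g⁻¹ ≠ z⁻¹ := by
  intro hg
  have hC : ∀ a ∈ (P : Subgroup G), g * a * g⁻¹ ∈ centralizer ({z} : Set G) := fun a ha => by
    rw [mem_centralizer_singleton_iff]
    have h1 : Commute a z := (h.central a ha).symm
    have h2 := h1.map (MulAut.conj g).toMonoidHom
    simp only [MulEquiv.coe_toMonoidHom, MulAut.conj_apply, hg] at h2
    exact (Commute.inv_right_iff.1 h2).eq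
  obtain ⟨c, hc, hn⟩ := exists_normalizing P hC
    (fun a ha => mem_centralizer_singleton_iff.2 (h.central a ha).symm)
  have e1 := hN _ hn
  rw [mem_centralizer_singleton_iff] at hc
  have e2 : c * g * z * (c * g)⁻¹ = z⁻¹ := by
    rw [show c * g * z * (c * g)⁻¹ = c * (g * z * g⁻¹) * c⁻¹ by group, hg]
    exact commute_of_mem_zpowers hc (inv_mem (mem_zpowers z))
  rw [e1, mul_inv_cancel_right] at e2
  have h2 : z ^ 2 = 1 := by rw [pow_two]; nth_rewrite 2 [e2]; exact mul_inv_cancel z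
  have := orderOf_dvd_of_pow_eq_one h2
  rw [h.order] at this
  omega

include h hN in
/-- The central element is weakly closed. -/
theorem Ext.weakly_closed {g : G} (hg : g * z * g⁻¹ ∈ (P : Subgroup G)) : g * z * g⁻¹ = z := by
  set y := g * z * g⁻¹ with hy
  by_contra hne
  have hyz : y ∉ zpowers z := by
    intro hm
    rcases mem_zpowers_three h.order hm with e | e | e
    · exact h.ne_one (by simpa [hy] using e)
    · exact hne e
    · exact h.conj_ne_inv hN g e
  have hC : ∀ a ∈ (P : Subgroup G), g * a * g⁻¹ ∈ centralizer ({y} : Set G) := fun a ha => by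
    rw [mem_centralizer_singleton_iff, hy]
    exact ((show Commute a z from (h.central a ha).symm).map (MulAut.conj g).toMonoidHom).eq
  obtain ⟨c, hc, hconj⟩ := exists_conj_into P hC
    (P.isPGroup'.to_le (inf_le_left : (P : Subgroup G) ⊓ centralizer ({y} : Set G) ≤ P))
    inf_le_right
  set k := c * g with hk
  rw [mem_centralizer_singleton_iff] at hc
  have hky : k * z * k⁻¹ = y := by
    rw [hk, show c * g * z * (c * g)⁻¹ = c * y * c⁻¹ by rw [hy]; group, hc, mul_inv_cancel_right]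
  have hx : k⁻¹ * z * k ∈ (P : Subgroup G) :=
    hconj z ⟨h.mem, mem_centralizer_singleton_iff.2 (h.central y hg)⟩
  have hxz : k⁻¹ * z * k ∉ zpowers z := by
    intro hm
    rcases mem_zpowers_three h.order hm with e | e | e
    · refine h.ne_one ?_
      calc z = k * (k⁻¹ * z * k) * k⁻¹ := by group
        _ = 1 := by rw [e]; group
    · refine hne ?_
      calc y = k * z * k⁻¹ := hky.symm
        _ = k * (k⁻¹ * z * k) * k⁻¹ := by rw [e]
        _ = z := by group
    · refine hyz ?_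
      have : y⁻¹ = z := by
        calc y⁻¹ = k * z⁻¹ * k⁻¹ := by rw [← hky]; group
          _ = k * (k⁻¹ * z * k) * k⁻¹ := by rw [e]
          _ = z := by group
      rw [← inv_inv y, this]
      exact inv_mem (mem_zpowers z)
  obtain ⟨s, hs, hsx⟩ := h.exists_twist hx hxz
  obtain ⟨t, ht, hty⟩ := h.exists_twist hg hyz
  -- the transvection fixing `y`
  set t' := k * s * k⁻¹ with ht'
  have h1 : t' * z * t'⁻¹ = z * y := by
    calc t' * z * t'⁻¹ = k * (s * (k⁻¹ * z * k) * s⁻¹) * k⁻¹ := by rw [ht']; group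
      _ = z * (k * z * k⁻¹) := by rw [hsx]; group
      _ = z * y := by rw [hky]
  have h2 : t'⁻¹ * y * t' = y := by
    calc t'⁻¹ * y * t' = k * (s⁻¹ * (z * s)) * k⁻¹ := by rw [ht', ← hky]; group
      _ = y := by rw [h.central s hs, ← hky]; group
  have h3 : t'⁻¹ * z * t' = z * y⁻¹ := by
    calc t'⁻¹ * z * t' = t'⁻¹ * ((t' * z * t'⁻¹) * y⁻¹) * t' := by rw [h1]; group
      _ = z * (t'⁻¹ * y * t')⁻¹ := by group
      _ = z * y⁻¹ := by rw [h2]
  have hzy : Commute z y := h.central y hg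
  have h4 : t * z * t⁻¹ = z := by rw [← h.central t ht, mul_inv_cancel_right]
  set w := t * t'⁻¹ * t with hw
  have hwz : w * z * w⁻¹ = y⁻¹ := by
    calc w * z * w⁻¹ = t * (t'⁻¹ * (t * z * t⁻¹) * t') * t⁻¹ := by rw [hw]; group
      _ = t * (z * y⁻¹) * t⁻¹ := by rw [h4, h3]
      _ = (t * z * t⁻¹) * (t * y * t⁻¹)⁻¹ := by group
      _ = y⁻¹ := by rw [h4, hty, mul_inv_rev, mul_inv_cancel_left]
  have hwy : w * y * w⁻¹ = z := by
    calc w * y * w⁻¹ = t * (t'⁻¹ * (t * y * t⁻¹) * t') * t⁻¹ := by rw [hw]; group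
      _ = t * ((t'⁻¹ * y * t') * (t'⁻¹ * z * t')) * t⁻¹ := by rw [hty]; group
      _ = t * z * t⁻¹ := by
        rw [h2, h3, ← hzy.left_comm, mul_inv_cancel, mul_one]
      _ = z := h4
  refine h.conj_ne_inv hN (w * w) ?_
  calc w * w * z * (w * w)⁻¹ = w * (w * z * w⁻¹) * w⁻¹ := by group
    _ = (w * y * w⁻¹)⁻¹ := by rw [hwz]; group
    _ = z⁻¹ := by rw [hwy]

include h hN in
/-- A conjugate in `P` of a noncentral element is noncentral. -/
theorem Ext.notMem_conj {x g : G} (hxz : x ∉ zpowers z) (hg : g * x * g⁻¹ ∈ zpowers z)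
    (hx : x ∈ (P : Subgroup G)) : False := by
  rcases mem_zpowers_three h.order hg with e | e | e
  · exact hxz (by rw [show x = 1 from by simpa using e]; exact one_mem _)
  · have ex : g⁻¹ * z * g⁻¹⁻¹ = x := by rw [← e]; group
    exact hxz (by rw [← ex, h.weakly_closed hN (by rw [ex]; exact hx)]; exact mem_zpowers z)
  · have ex : g⁻¹ * z * g⁻¹⁻¹ = x⁻¹ := by rw [← inv_inv z, ← e]; group
    have := h.weakly_closed hN (g := g⁻¹) (by rw [ex]; exact inv_mem hx)
    exact hxz (by rw [← inv_inv x, ← ex, this]; exact inv_mem (mem_zpowers z))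

include h hN in
/-- The Sylow subgroups of the centralizer of a noncentral element have order nine. -/
theorem Ext.sylow_centralizer {x : G} (hx : x ∈ (P : Subgroup G)) (hxz : x ∉ zpowers z)
    (R : Sylow 3 (centralizer ({x} : Set G)))
    (hR : ((P : Subgroup G) ⊓ centralizer ({x} : Set G)).subgroupOf (centralizer ({x} : Set G)) ≤
      (R : Subgroup (centralizer ({x} : Set G)))) :
    (R : Subgroup (centralizer ({x} : Set G))) =
      ((P : Subgroup G) ⊓ centralizer ({x} : Set G)).subgroupOf (centralizer ({x} : Set G)) := by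
  haveI : Fact (Nat.Prime 3) := ⟨Nat.prime_three⟩
  have hE9 : Nat.card (((P : Subgroup G) ⊓ centralizer ({x} : Set G)).subgroupOf (centralizer ({x} : Set G))) = 3 ^ 2 := by
    rw [Nat.card_congr (subgroupOfEquivOfLe (inf_le_right : ((P : Subgroup G) ⊓ centralizer ({x} : Set G)) ≤ (centralizer ({x} : Set G)))).toEquiv]
    exact h.card_inf hx hxz
  have hRG : IsPGroup 3 ((R : Subgroup (centralizer ({x} : Set G))).map (centralizer ({x} : Set G)).subtype) := R.isPGroup'.map _
  obtain ⟨T, hT⟩ := hRG.exists_le_sylow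
  obtain ⟨g, hg⟩ := MulAction.exists_smul_eq G P T
  have hT27 : Nat.card (T : Subgroup G) = 3 ^ 3 := by
    rw [Sylow.card_eq_multiplicity, ← Sylow.card_eq_multiplicity P, h.card]
    norm_num
  have hcard : Nat.card ((R : Subgroup (centralizer ({x} : Set G))).map (centralizer ({x} : Set G)).subtype) = Nat.card (R : Subgroup (centralizer ({x} : Set G))) :=
    card_map_of_injective (centralizer ({x} : Set G)).subtype_injective
  obtain ⟨i, hi, hci⟩ := (Nat.dvd_prime_pow Nat.prime_three).1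
    (hT27 ▸ card_dvd_of_le hT)
  rw [hcard] at hci
  refine (Subgroup.eq_of_le_of_card_ge hR ?_).symm
  rw [hE9, hci]
  refine Nat.pow_le_pow_right (by norm_num) ?_
  by_contra hlt
  have h3 : i = 3 := by omega
  have hmap : (R : Subgroup (centralizer ({x} : Set G))).map (centralizer ({x} : Set G)).subtype = (T : Subgroup G) :=
    Subgroup.eq_of_le_of_card_ge hT (by rw [hT27, hcard, hci, h3])
  have hmem : ∀ w, w ∈ (T : Subgroup G) ↔ g⁻¹ * w * g ∈ (P : Subgroup G) := fun w => by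
    rw [← hg, Sylow.coe_subgroup_smul, Subgroup.mem_pointwise_smul_iff_inv_smul_mem]
    simp [MulAut.smul_def]
  have hxT : x ∈ (T : Subgroup G) := by
    rw [← hmap]
    exact ⟨⟨x, mem_centralizer_singleton_iff.2 rfl⟩,
      hR (mem_subgroupOf.2 ⟨hx, mem_centralizer_singleton_iff.2 rfl⟩), rfl⟩
  have hcen : g⁻¹ * x * g ∈ zpowers z := h.center_le _ ((hmem x).1 hxT) fun a ha => by
    have haT : g * a * g⁻¹ ∈ (T : Subgroup G) := (hmem _).2 (by
      rw [show g⁻¹ * (g * a * g⁻¹) * g = a by group]; exact ha)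
    rw [← hmap] at haT
    obtain ⟨b, -, hb⟩ := haT
    have hb' := mem_centralizer_singleton_iff.1 b.2
    rw [show (b : G) = g * a * g⁻¹ from hb] at hb'
    calc g⁻¹ * x * g * a = g⁻¹ * (x * (g * a * g⁻¹)) * g := by group
      _ = g⁻¹ * ((g * a * g⁻¹) * x) * g := by rw [hb']
      _ = a * (g⁻¹ * x * g) := by group
  exact h.notMem_conj hN hxz (g := g⁻¹) (by rw [inv_inv]; exact hcen) hx

include h hN in
/-- The normalizer controls the fusion of noncentral elements. -/
theorem Ext.fusion {x g : G} (hx : x ∈ (P : Subgroup G)) (hxz : x ∉ zpowers z)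
    (hg : g * x * g⁻¹ ∈ (P : Subgroup G)) :
    ∃ n ∈ normalizer ((P : Subgroup G) : Set G), n * x * n⁻¹ = g * x * g⁻¹ := by
  haveI : Fact (Nat.Prime 3) := ⟨Nat.prime_three⟩
  set x' := g * x * g⁻¹ with hx'
  have hxz' : x' ∉ zpowers z := fun hm => h.notMem_conj hN hxz hm hx
  set C := centralizer ({x'} : Set G) with hC
  have hE' : IsPGroup 3 (((P : Subgroup G) ⊓ C).subgroupOf C) :=
    (P.isPGroup'.to_le inf_le_left).of_equiv (subgroupOfEquivOfLe inf_le_right).symm
  obtain ⟨R, hR⟩ := hE'.exists_le_sylow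
  have hRe := h.sylow_centralizer hN hg hxz' R hR
  have hzC : g * z * g⁻¹ ∈ C := by
    rw [hC, mem_centralizer_singleton_iff, hx']
    exact ((show Commute z x from h.central x hx).map (MulAut.conj g).toMonoidHom).eq
  have hZ : IsPGroup 3 (zpowers (⟨g * z * g⁻¹, hzC⟩ : C)) :=
    IsPGroup.of_card (n := 1) (by
      rw [Nat.card_zpowers, Subgroup.orderOf_mk, pow_one]
      have := MulEquiv.orderOf_eq (MulAut.conj g) z
      rw [MulAut.conj_apply] at this
      rw [this, h.order])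
  obtain ⟨S, hS⟩ := hZ.exists_le_sylow
  obtain ⟨c, hc⟩ := MulAction.exists_smul_eq C S R
  have hcz : c * (⟨g * z * g⁻¹, hzC⟩ : C) * c⁻¹ ∈ (R : Subgroup C) := by
    rw [← hc, Sylow.coe_subgroup_smul, Subgroup.mem_pointwise_smul_iff_inv_smul_mem]
    simp only [MulAut.smul_def, MulAut.inv_apply, MulAut.conj_symm_apply]
    rw [show c⁻¹ * (c * (⟨g * z * g⁻¹, hzC⟩ : C) * c⁻¹) * c = ⟨g * z * g⁻¹, hzC⟩ by group]
    exact hS (mem_zpowers _)
  rw [hRe, mem_subgroupOf] at hcz
  set g1 := (c : G) * g with hg1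
  have hz1 : g1 * z * g1⁻¹ = z := h.weakly_closed hN (by
    rw [hg1, show (c : G) * g * z * ((c : G) * g)⁻¹ = c * (g * z * g⁻¹) * (c : G)⁻¹ by group]
    exact hcz.1)
  have hcc := mem_centralizer_singleton_iff.1 c.2
  have hx1 : g1 * x * g1⁻¹ = x' := by
    rw [hg1, show (c : G) * g * x * ((c : G) * g)⁻¹ = c * x' * (c : G)⁻¹ by rw [hx']; group, hcc,
      mul_inv_cancel_right]
  have hM : ∀ a ∈ (P : Subgroup G), g1 * a * g1⁻¹ ∈ movers z x' := fun a ha => by
    obtain ⟨h1, h2⟩ := h.le_movers hx ha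
    refine ⟨?_, ?_⟩
    · have := (show Commute a z from h1).map (MulAut.conj g1).toMonoidHom
      simp only [MulEquiv.coe_toMonoidHom, MulAut.conj_apply, hz1] at this
      exact this.eq
    · obtain ⟨i, hi⟩ := mem_zpowers_iff.1 h2
      refine mem_zpowers_iff.2 ⟨i, ?_⟩
      have := congrArg (fun w => g1 * w * g1⁻¹) hi
      simp only [← conj_zpow, hz1] at this
      rw [this, ← hx1]
      group
  obtain ⟨d, hd, hn⟩ := exists_normalizing P hM (h.le_movers hg)
  obtain ⟨q, hq, hqx⟩ := h.exists_conj hg hxz' (inv_mem hd.2)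
  refine ⟨q * (d * g1), mul_mem (le_normalizer hq) hn, ?_⟩
  calc q * (d * g1) * x * (q * (d * g1))⁻¹
      = q * ((d * x' * d⁻¹ * x'⁻¹) * x') * q⁻¹ := by rw [← hx1]; group
    _ = q * (d * x' * d⁻¹ * x'⁻¹) * q⁻¹ * (q * x' * q⁻¹) := by group
    _ = (d * x' * d⁻¹ * x'⁻¹) * (x' * (d * x' * d⁻¹ * x'⁻¹)⁻¹) := by
      rw [hqx, commute_of_mem_zpowers (h.central q hq).symm hd.2]
    _ = x' := by
      obtain ⟨i, hi⟩ := mem_zpowers_iff.1 hd.2
      rw [← hi, (Commute.zpow_left (h.central x' hg) i).left_comm, mul_inv_cancel, mul_one]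

include h hN in
theorem Ext.complement {x : G} (hx : x ∈ (P : Subgroup G)) (hxz : x ∉ zpowers z) :
    Cfsg.HasNormalPComplement 3 (centralizer ({x} : Set G)) := by
  haveI : Fact (Nat.Prime 3) := ⟨Nat.prime_three⟩
  set C := centralizer ({x} : Set G) with hC
  obtain ⟨R, hR⟩ := ((P.isPGroup'.to_le (inf_le_left : (P : Subgroup G) ⊓ C ≤ P)).of_equiv
    (subgroupOfEquivOfLe inf_le_right).symm).exists_le_sylow
  have hRe := h.sylow_centralizer hN hx hxz R hR
  have hzC : z ∈ C := mem_centralizer_singleton_iff.2 (h.central x hx)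
  have hnc : normalizer ((R : Subgroup C) : Set C) ≤ centralizer ((R : Subgroup C) : Set C) := by
    intro n hn
    rw [mem_centralizer_iff]
    intro a ha
    have hzR : (⟨z, hzC⟩ : C) ∈ (R : Subgroup C) := by
      rw [hRe, mem_subgroupOf]; exact ⟨h.mem, hzC⟩
    have hnz := (mem_normalizer_iff.1 hn _).1 hzR
    rw [hRe, mem_subgroupOf] at hnz
    have e : (n : G) * z * (n : G)⁻¹ = z := h.weakly_closed hN hnz.1
    have hle := h.inf_le hx hxz (K := centralizer ({(n : G)} : Set G))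
      (mem_centralizer_singleton_iff.2 (mem_centralizer_singleton_iff.1 n.2).symm)
      (mem_centralizer_singleton_iff.2 (mul_inv_eq_iff_eq_mul.1 e).symm)
    have haE : (a : G) ∈ (P : Subgroup G) ⊓ C := by
      have ha' : a ∈ (R : Subgroup C) := ha
      rw [hRe, mem_subgroupOf] at ha'
      exact ha'
    exact Subtype.ext (mem_centralizer_singleton_iff.1 (hle haE))
  exact ⟨R, _, inferInstance, MonoidHom.ker_transferSylow_isComplement' R hnc⟩

include h hN in
theorem Ext.card_centralizer {x : G} (hx : x ∈ (P : Subgroup G)) (hxz : x ∉ zpowers z)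
    (R : Sylow 3 (centralizer ({x} : Set G))) :
    Nat.card (R : Subgroup (centralizer ({x} : Set G))) = 9 := by
  haveI : Fact (Nat.Prime 3) := ⟨Nat.prime_three⟩
  set C := centralizer ({x} : Set G) with hC
  obtain ⟨R', hR'⟩ := ((P.isPGroup'.to_le (inf_le_left : (P : Subgroup G) ⊓ C ≤ P)).of_equiv
    (subgroupOfEquivOfLe inf_le_right).symm).exists_le_sylow
  have hRe := h.sylow_centralizer hN hx hxz R' hR'
  rw [Sylow.card_eq_multiplicity, ← Sylow.card_eq_multiplicity R', hRe,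
    Nat.card_congr (subgroupOfEquivOfLe inf_le_right).toEquiv]
  exact h.card_inf hx hxz

end Cfsg.Lib.Block.ExtraThree
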