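import Cfsg.Agent.Lib.Block.ExtraThree.Central

/-!
# Generators of the virtual characters vanishing on regular elements

For every plain row a vector of norm three and one of norm two, with their inner products, their
values at the noncentral classes and the fact that together with those values they see the whole
of the central sections.
-/

set_option autoImplicit false
set_option linter.unusedSectionVars false
set_option linter.style.haveILetI false
set_option maxHeartbeats 800000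

namespace Cfsg.Lib.Block.ExtraThree

open Cfsg Cfsg.Lib Cfsg.Lib.Block Subgroup
open scoped ComplexConjugate Classical

universe u

noncomputable local instance (priority := high) fintypeSubgroupGens {A : Type u} [Group A]
    [Fintype A] (B : Subgroup A) : Fintype B := Fintype.ofFinite B

variable {A : Type u} [Group A] [Fintype A] {z : A} {c : ℕ} {X : Fin c → A} {M : Ideal AlgInt}

/-- The class function with the given coordinates. -/
noncomputable def comb (α : Blk M A → ℤ) (y : A) : ℂ :=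
  ∑ χ : Blk M A, (α χ : ℂ) * (χ.1 : A → ℂ) y

theorem isClassFunction_comb (α : Blk M A → ℤ) : IsClassFunction A (comb α) := fun g x => by
  simp only [comb]
  exact Finset.sum_congr rfl fun χ _ => by rw [χ.1.2.isClassFunction]

theorem Local.xconst_comb (L : Local z X) (hM : IsPModular 3 M) (α : Blk M A → ℤ) :
    XConst X (comb α) := fun j y h h' => by
  simp only [comb]
  exact Finset.sum_congr rfl fun χ _ => by rw [L.xconst hM χ j y h h']

theorem classInner_comb (α β : Blk M A → ℤ) :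
    classInner (comb α) (comb β) = ((∑ χ, α χ * β χ : ℤ) : ℂ) := by
  have e : ∀ γ : Blk M A → ℤ, comb γ = ∑ χ : Blk M A, (γ χ : ℂ) • (χ.1 : A → ℂ) := fun γ => by
    funext y; simp [comb]
  rw [e, e, Char.classInner_sum_left, Int.cast_sum]
  refine Finset.sum_congr rfl fun χ _ => ?_
  rw [Char.classInner_smul_left, Char.classInner_sum_right, Finset.sum_eq_single χ]
  · rw [Char.classInner_smul_right, Char.classInner_irr_self χ.1.2, map_intCast]
    push_cast
    ring
  · intro η _ hne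
    rw [Char.classInner_smul_right, Char.classInner_irr_ne χ.1.2 η.1.2
      (fun e => hne (Subtype.ext (Subtype.ext e)).symm), mul_zero]
  · exact fun h => absurd (Finset.mem_univ χ) h

/-- The generators. -/
structure Gens (L : Local z X) (hM : IsPModular 3 M) (U : Finset (Blk M A))
    (α β : Blk M A → Blk M A → ℤ) : Prop where
  card : U.card + c = 6
  rank : blockRank 3 (principalBlock M A) = U.card
  tau_mem : tauBlk hM ∈ U
  αα : ∀ u ∈ U, ∀ v ∈ U, ∑ χ, α u χ * α v χ = if u = v then 3 else 1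
  αβ : ∀ u ∈ U, ∀ v ∈ U, ∑ χ, α u χ * β v χ = if u = v then 1 else 0
  ββ : ∀ u ∈ U, ∀ v ∈ U, ∑ χ, β u χ * β v χ = if u = v then 2 else 0
  αx : ∀ u ∈ U, ∀ j : Fin c, ∑ χ, α u χ * L.val j χ.1 = if (j : ℕ) = 0 then -3 else 0
  βx : ∀ u ∈ U, ∀ j : Fin c, ∑ χ, β u χ * L.val j χ.1 = 0
  αtau : ∀ u ∈ U, α u (tauBlk hM) = if u = tauBlk hM then -1 else 0
  βtau : ∀ u ∈ U, β u (tauBlk hM) = 0
  αreg : ∀ u ∈ U, ∀ y, IsPRegular 3 y → comb (α u) y = 0
  βreg : ∀ u ∈ U, ∀ y, IsPRegular 3 y → comb (β u) y = 0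
  complete : ∀ F : A → ℂ, IsClassFunction A F → XConst X F → (∀ j, F (X j) = 0) →
    (∀ u ∈ U, classInner F (comb (α u)) = 0 ∧ classInner F (comb (β u)) = 0) →
    secAvg z F + secAvg z⁻¹ F = 0

theorem exists_cube_root : ∃ w : ℂ, w ^ 3 = 1 ∧ w ≠ 1 ∧ conj w = w ^ 2 ∧ 1 + w + w ^ 2 = 0 := by
  have hζ := Complex.isPrimitiveRoot_exp 3 (by norm_num)
  refine ⟨_, hζ.pow_eq_one, hζ.ne_one (by norm_num), ?_, ?_⟩
  · rw [conj_eq_inv hζ.pow_eq_one]
    exact (eq_inv_of_mul_eq_one_left (by rw [← pow_succ, hζ.pow_eq_one])).symm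
  · have h := hζ.geom_sum_eq_zero (by norm_num)
    simpa [Finset.sum_range_succ] using h

variable (L : Local z X) (hz : z ∈ center A) (hM : IsPModular 3 M)

include L hz hM in
theorem Local.exists_gens (hc : c = 1 ∨ c = 2 ∨ c = 4) :
    ∃ U α β, Gens (M := M) L hM U α β := by
  obtain ⟨R, H⟩ := L.exists_shape hz hM
  obtain ⟨w, hw3, hw1, hwc, hw0⟩ := exists_cube_root
  have hw2 : (w ^ 2) ^ 3 = 1 := by rw [← pow_mul, mul_comm, pow_mul, hw3, one_pow]
  have hw21 : w ^ 2 ≠ 1 := fun e => hw1 (by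
    have := hw3; rw [pow_succ, e, one_mul] at this; exact this)
  have hww : w ^ 2 ≠ w := fun e => hw1 (mul_right_cancel₀ (fun h : w = 0 => by
    rw [h] at hw3; norm_num at hw3) (by rw [← pow_two, e, one_mul]))
  set U := plainRows R with hU
  choose P hP hPs ε hε hPy using fun u : U => L.exists_lift hz hM H hc hw3 hw1 u.2
  choose Q hQ hQs δ hδ hQy using fun u : U => L.exists_lift hz hM H hc hw2 hw21 u.2
  set j₀ := first L.pos
  let f : Blk M A → (Blk M A → ℤ) := fun x χ => if χ = x then 1 else 0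
  let α : Blk M A → Blk M A → ℤ := fun u χ => if h : u ∈ U then
    ε ⟨u, h⟩ * f (P ⟨u, h⟩) χ - sBlk u * f u χ + sBlk (R j₀) * f (R j₀) χ else 0
  let β : Blk M A → Blk M A → ℤ := fun u χ => if h : u ∈ U then
    ε ⟨u, h⟩ * f (P ⟨u, h⟩) χ - δ ⟨u, h⟩ * f (Q ⟨u, h⟩) χ else 0
  have hα : ∀ u : U, ∀ g : Blk M A → ℤ, ∑ χ, α u.1 χ * g χ =
      ε u * g (P u) - sBlk u.1 * g u.1 + sBlk (R j₀) * g (R j₀) := fun u g => by
    simp [α, f, sub_mul, add_mul, Finset.sum_sub_distrib, Finset.sum_add_distrib]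
  have hβ : ∀ u : U, ∀ g : Blk M A → ℤ, ∑ χ, β u.1 χ * g χ =
      ε u * g (P u) - δ u * g (Q u) := fun u g => by
    simp [β, f, sub_mul, Finset.sum_sub_distrib]
  have hαv : ∀ u : U, ∀ χ, α u.1 χ =
      ε u * f (P u) χ - sBlk u.1 * f u.1 χ + sBlk (R j₀) * f (R j₀) χ := fun u χ => by
    simp [α]
  have hβv : ∀ u : U, ∀ χ, β u.1 χ = ε u * f (P u) χ - δ u * f (Q u) χ := fun u χ => by
    simp [β]
  have hmemS : ∀ u : U, u.1 ∈ unitRows M A := fun u => (Finset.mem_filter.1 u.2).1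
  have hneR : ∀ (u : U) j, u.1 ≠ R j := fun u => (Finset.mem_filter.1 u.2).2
  have hgram : ∀ u v : U, 3 * rIn (phi (R j₀) u.1) (phi (R j₀) v.1) = if u = v then 1 else 0 := by
    intro u v
    rw [L.phi_gram hz hM H u.2 v.2]
    exact if_congr Subtype.ext_iff.symm rfl rfl
  have hinj : ∀ {Y : U → Blk M A} {η : U → ℤ}, (∀ u, η u * η u = 1) →
      (∀ u y, IsPRegular 3 y → ((Y u).1 : A → ℂ) y = (η u : ℂ) * phi (R j₀) u.1 y) →
      Function.Injective Y := by
    intro Y η hη hY u v e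
    by_contra hne
    have h1 : rIn ((Y u).1 : A → ℂ) (phi (R j₀) u.1) = (η u : ℂ) / 3 := by
      rw [rIn_congr_left _ (hY u), rIn_smul_left]
      have h := hgram u u
      rw [if_pos rfl] at h
      linear_combination ((η u : ℂ) / 3) * h
    have h2 : rIn ((Y u).1 : A → ℂ) (phi (R j₀) u.1) = 0 := by
      rw [e, rIn_congr_left _ (hY v), rIn_smul_left]
      have h := hgram v u
      rw [if_neg (Ne.symm hne)] at h
      linear_combination ((η v : ℂ) / 3) * h
    rw [h1] at h2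
    have h3 : η u = 0 := by exact_mod_cast (div_eq_zero_iff.1 h2).resolve_right (by norm_num)
    have := hη u
    rw [h3, mul_zero] at this
    omega
  have hPinj := hinj hε hPy
  have hQinj := hinj hδ hQy
  have hPQ : ∀ u v : U, P u ≠ Q v := fun u v e => hww (by
    have := hPs u; rw [e, hQs v] at this; exact this)
  have hPS : ∀ (u : U) (x : Blk M A), x ∈ unitRows M A → P u ≠ x := fun u x hx e => hP u (e ▸ hx)
  have hQS : ∀ (u : U) (x : Blk M A), x ∈ unitRows M A → Q u ≠ x := fun u x hx e => hQ u (e ▸ hx)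
  have hRS := H.mem j₀
  have hτS : tauBlk hM ∈ unitRows M A := (L.cols hM).tau_mem
  have hs2 : ∀ x : Blk M A, sBlk x * sBlk x = 1 := fun x => sgn_mul_self _
  refine ⟨U, α, β, H.card_plainRows, L.blockRank_eq hz hM H,
    Finset.mem_filter.2 ⟨hτS, fun j => (H.ne_tau j).symm⟩,
    fun u hu v hv => ?_, fun u hu v hv => ?_, fun u hu v hv => ?_, fun u hu j => ?_,
    fun u hu j => ?_, fun u hu => ?_, fun u hu => ?_, fun u hu y hy => ?_, fun u hu y hy => ?_,
    fun F hF hFx hF0 horth => ?_⟩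
  · rw [hα ⟨u, hu⟩, hαv ⟨v, hv⟩, hαv ⟨v, hv⟩, hαv ⟨v, hv⟩]
    simp only [f, if_neg (hPS ⟨u, hu⟩ v (hmemS ⟨v, hv⟩)), if_neg (hPS ⟨u, hu⟩ _ hRS),
      if_neg (hPS ⟨v, hv⟩ u (hmemS ⟨u, hu⟩)).symm, if_neg (hPS ⟨v, hv⟩ _ hRS).symm,
      if_neg (hneR ⟨u, hu⟩ j₀), if_neg (hneR ⟨v, hv⟩ j₀).symm, if_pos rfl]
    by_cases h : u = v
    · subst h
      simp only [if_true]
      linear_combination hε ⟨u, hu⟩ + hs2 u + hs2 (R j₀)
    · rw [if_neg (hPinj.ne (fun e => h (congrArg Subtype.val e))), if_neg h, if_neg h]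
      linear_combination hs2 (R j₀)
  · rw [hα ⟨u, hu⟩, hβv ⟨v, hv⟩, hβv ⟨v, hv⟩, hβv ⟨v, hv⟩]
    simp only [f, if_neg (hPQ ⟨u, hu⟩ ⟨v, hv⟩), if_neg (hPS ⟨v, hv⟩ u (hmemS ⟨u, hu⟩)).symm,
      if_neg (hQS ⟨v, hv⟩ u (hmemS ⟨u, hu⟩)).symm, if_neg (hPS ⟨v, hv⟩ _ hRS).symm,
      if_neg (hQS ⟨v, hv⟩ _ hRS).symm]
    by_cases h : u = v
    · subst h
      simp only [if_true]
      linear_combination hε ⟨u, hu⟩
    · rw [if_neg (hPinj.ne (fun e => h (congrArg Subtype.val e))), if_neg h]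
      ring
  · rw [hβ ⟨u, hu⟩, hβv ⟨v, hv⟩, hβv ⟨v, hv⟩]
    simp only [f, if_neg (hPQ ⟨u, hu⟩ ⟨v, hv⟩), if_neg (hPQ ⟨v, hv⟩ ⟨u, hu⟩).symm]
    by_cases h : u = v
    · subst h
      simp only [if_true]
      linear_combination hε ⟨u, hu⟩ + hδ ⟨u, hu⟩
    · rw [if_neg (hPinj.ne (fun e => h (congrArg Subtype.val e))),
        if_neg (hQinj.ne (fun e => h (congrArg Subtype.val e))), if_neg h]
      ring
  · rw [hα ⟨u, hu⟩]
    have h1 := H.val u (hmemS ⟨u, hu⟩) j
    have h2 := H.val (R j₀) hRS j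
    rw [if_neg (hneR ⟨u, hu⟩ j)] at h1
    simp only [L.val_eq_zero hM (hP ⟨u, hu⟩) j, mul_zero, zero_sub]
    simp only [sBlk]
    rw [h1, h2]
    by_cases hj : (j : ℕ) = 0
    · rw [if_pos (by rw [show j = j₀ from Fin.ext hj]), if_pos hj]; ring
    · rw [if_neg (fun e => hj (by rw [← H.inj e]; rfl)), if_neg hj]; ring
  · rw [hβ ⟨u, hu⟩, L.val_eq_zero hM (hP ⟨u, hu⟩) j, L.val_eq_zero hM (hQ ⟨u, hu⟩) j]
    ring
  · rw [hαv ⟨u, hu⟩]
    simp only [f, if_neg (hPS ⟨u, hu⟩ _ hτS).symm, if_neg (H.ne_tau j₀).symm]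
    by_cases h : u = tauBlk hM
    · subst h
      simp [sBlk, degBlk_tau hM, sgn]
    · rw [if_neg (Ne.symm h), if_neg h]; ring
  · rw [hβv ⟨u, hu⟩]
    simp only [f, if_neg (hPS ⟨u, hu⟩ _ hτS).symm, if_neg (hQS ⟨u, hu⟩ _ hτS).symm]
    ring
  · have e : comb (α u) y = (ε ⟨u, hu⟩ : ℂ) * ((P ⟨u, hu⟩).1 : A → ℂ) y -
        phi (R j₀) u y := by
      simp [comb, hαv ⟨u, hu⟩, f, phi, sub_mul, add_mul, Finset.sum_sub_distrib,
        Finset.sum_add_distrib]
      ring
    rw [e, hPy ⟨u, hu⟩ y hy, ← mul_assoc]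
    have h2 : (ε ⟨u, hu⟩ : ℂ) * ε ⟨u, hu⟩ = 1 := by exact_mod_cast hε _
    rw [h2, one_mul, sub_self]
  · have e : comb (β u) y = (ε ⟨u, hu⟩ : ℂ) * ((P ⟨u, hu⟩).1 : A → ℂ) y -
        (δ ⟨u, hu⟩ : ℂ) * ((Q ⟨u, hu⟩).1 : A → ℂ) y := by
      simp [comb, hβv ⟨u, hu⟩, f, sub_mul, Finset.sum_sub_distrib]
    rw [e, hPy ⟨u, hu⟩ y hy, hQy ⟨u, hu⟩ y hy, ← mul_assoc, ← mul_assoc]
    have h2 : (ε ⟨u, hu⟩ : ℂ) * ε ⟨u, hu⟩ = 1 := by exact_mod_cast hε _
    have h3 : (δ ⟨u, hu⟩ : ℂ) * δ ⟨u, hu⟩ = 1 := by exact_mod_cast hδ _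
    rw [h2, h3, sub_self]
  · -- completeness
    let I : Blk M A → ℂ := fun u => rIn (fun y => F (z * y)) (phi (R j₀) u)
    let I' : Blk M A → ℂ := fun u => rIn (fun y => F (z⁻¹ * y)) (phi (R j₀) u)
    have hsec : ∀ {v : A}, v ∈ center A → ∀ (γ : Blk M A → ℤ) (u : Blk M A) (m : ℂ),
        (∀ y, IsPRegular 3 y → comb γ (v * y) = m * phi (R j₀) u y) →
        secAvg v (fun a => F a * conj (comb γ a)) =
          conj m * rIn (fun y => F (v * y)) (phi (R j₀) u) := by
      intro v hv γ u m hm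
      rw [secAvg_center hv]
      simp only [rIn, Finset.mul_sum]
      refine Finset.sum_congr rfl fun y _ => ?_
      split_ifs with hy
      · rw [hm y hy, map_mul]; ring
      · simp
    have hsz : ∀ (η : Blk M A) (y : A), η ∈ unitRows M A →
        (η.1 : A → ℂ) (z * y) = (η.1 : A → ℂ) y ∧ (η.1 : A → ℂ) (z⁻¹ * y) = (η.1 : A → ℂ) y := by
      intro η y hη
      rw [scal_spec hz, scal_inv hz L.z_order, L.scal_of_mem hz hM hη, map_one, one_mul]
      exact ⟨rfl, rfl⟩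
    have hw22 : conj (w ^ 2) = w := by
      rw [map_pow, hwc, ← pow_mul]
      show w ^ (3 + 1) = w
      rw [pow_succ, hw3, one_mul]
    have hIz : ∀ u ∈ U, I u = 0 ∧ I' u = 0 := by
      intro u hu
      obtain ⟨ha, hb⟩ := horth u hu
      have hcα := isClassFunction_comb (α u)
      have hcβ := isClassFunction_comb (β u)
      have h2 : (ε ⟨u, hu⟩ : ℂ) * ε ⟨u, hu⟩ = 1 := by exact_mod_cast hε _
      have h3 : (δ ⟨u, hu⟩ : ℂ) * δ ⟨u, hu⟩ = 1 := by exact_mod_cast hδ _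
      have hαval : ∀ y, comb (α u) y = (ε ⟨u, hu⟩ : ℂ) * ((P ⟨u, hu⟩).1 : A → ℂ) y -
          (sBlk u : ℂ) * (u.1 : A → ℂ) y + (sBlk (R j₀) : ℂ) * ((R j₀).1 : A → ℂ) y := fun y => by
        simp [comb, hαv ⟨u, hu⟩, f, sub_mul, add_mul, Finset.sum_sub_distrib,
          Finset.sum_add_distrib]
      have hβval : ∀ y, comb (β u) y = (ε ⟨u, hu⟩ : ℂ) * ((P ⟨u, hu⟩).1 : A → ℂ) y -
          (δ ⟨u, hu⟩ : ℂ) * ((Q ⟨u, hu⟩).1 : A → ℂ) y := fun y => by
        simp [comb, hβv ⟨u, hu⟩, f, sub_mul, Finset.sum_sub_distrib]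
      have a1 : ∀ y, IsPRegular 3 y → comb (α u) (z * y) = (w - 1) * phi (R j₀) u y := by
        intro y hy
        rw [hαval, scal_spec hz (P ⟨u, hu⟩).1, hPs, hPy _ y hy, (hsz u y (hmemS ⟨u, hu⟩)).1,
          (hsz _ y hRS).1]
        simp only [phi]
        linear_combination (w * ((sBlk u : ℂ) * (u.1 : A → ℂ) y -
          (sBlk (R j₀) : ℂ) * ((R j₀).1 : A → ℂ) y)) * h2
      have a2 : ∀ y, IsPRegular 3 y → comb (α u) (z⁻¹ * y) = (w ^ 2 - 1) * phi (R j₀) u y := by
        intro y hy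
        rw [hαval, scal_inv hz L.z_order (P ⟨u, hu⟩).1, hPs, hwc, hPy _ y hy,
          (hsz u y (hmemS ⟨u, hu⟩)).2, (hsz _ y hRS).2]
        simp only [phi]
        linear_combination (w ^ 2 * ((sBlk u : ℂ) * (u.1 : A → ℂ) y -
          (sBlk (R j₀) : ℂ) * ((R j₀).1 : A → ℂ) y)) * h2
      have b1 : ∀ y, IsPRegular 3 y → comb (β u) (z * y) = (w - w ^ 2) * phi (R j₀) u y := by
        intro y hy
        rw [hβval, scal_spec hz (P ⟨u, hu⟩).1, scal_spec hz (Q ⟨u, hu⟩).1, hPs, hQs,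
          hPy _ y hy, hQy _ y hy]
        linear_combination (w * phi (R j₀) u y) * h2 - (w ^ 2 * phi (R j₀) u y) * h3
      have b2 : ∀ y, IsPRegular 3 y → comb (β u) (z⁻¹ * y) = (w ^ 2 - w) * phi (R j₀) u y := by
        intro y hy
        rw [hβval, scal_inv hz L.z_order (P ⟨u, hu⟩).1, scal_inv hz L.z_order (Q ⟨u, hu⟩).1, hPs,
          hQs, hwc, hw22, hPy _ y hy, hQy _ y hy]
        linear_combination (w ^ 2 * phi (R j₀) u y) * h2 - (w * phi (R j₀) u y) * h3
      have hreg : ∀ γ : Blk M A → ℤ, (∀ y, IsPRegular 3 y → comb γ y = 0) →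
          regInner 3 F (comb γ) = 0 := fun γ hγ => by
        rw [← rIn_eq_regInner, rIn, Finset.sum_eq_zero, mul_zero]
        intro y _
        split_ifs with hy
        · rw [hγ y hy, map_zero, mul_zero]
        · rfl
      have ra : ∀ y, IsPRegular 3 y → comb (α u) y = 0 := fun y hy => by
        rw [hαval, hPy _ y hy]
        simp only [phi]
        linear_combination ((sBlk u : ℂ) * (u.1 : A → ℂ) y -
          (sBlk (R j₀) : ℂ) * ((R j₀).1 : A → ℂ) y) * h2
      have rb : ∀ y, IsPRegular 3 y → comb (β u) y = 0 := fun y hy => by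
        rw [hβval, hPy _ y hy, hQy _ y hy]
        linear_combination (phi (R j₀) u y) * h2 - (phi (R j₀) u y) * h3
      rw [L.classInner_eq hF hcα hFx (L.xconst_comb hM _), hreg _ ra, hsec hz _ u _ a1,
        hsec (inv_mem hz) _ u _ a2, Finset.sum_eq_zero fun j _ => by rw [hF0 j, zero_mul, zero_div],
        map_sub, map_sub, map_one, hwc, hw22] at ha
      rw [L.classInner_eq hF hcβ hFx (L.xconst_comb hM _), hreg _ rb, hsec hz _ u _ b1,
        hsec (inv_mem hz) _ u _ b2, Finset.sum_eq_zero fun j _ => by rw [hF0 j, zero_mul, zero_div],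
        map_sub, map_sub, hwc, hw22] at hb
      have hd : I u = I' u := by
        have : (w ^ 2 - w) * (I u - I' u) = 0 := by simp only [I, I']; linear_combination hb
        exact sub_eq_zero.1 ((mul_eq_zero.1 this).resolve_left (sub_ne_zero.2 hww))
      have hI : I u = 0 := by
        have : (w ^ 2 + w - 2) * I u = 0 := by
          have e : (w ^ 2 - 1) * I u + (w - 1) * I' u = 0 := by
            simp only [I, I']; linear_combination ha
          rw [← hd] at e
          linear_combination e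
        refine (mul_eq_zero.1 this).resolve_left fun h => ?_
        have : (3 : ℂ) = 0 := by linear_combination hw0 - h
        norm_num at this
      exact ⟨hI, hd ▸ hI⟩
    have hzero : ∀ {v : A}, v ∈ center A → (∀ u ∈ U, rIn (fun y => F (v * y)) (phi (R j₀) u) = 0) →
        secAvg v F = 0 := by
      intro v hv hI
      rw [secAvg_center hv]
      have e : rIn (fun y => F (v * y)) (fun y => ∑ u ∈ U,
          (3 * rIn ((tauBlk (A := A) hM).1 : A → ℂ) (phi (R j₀) u)) * phi (R j₀) u y) = 0 := by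
        rw [rIn_sum_right]
        exact Finset.sum_eq_zero fun u hu => by rw [hI u hu, mul_zero]
      refine Eq.trans ?_ e
      rw [rIn]
      congr 1
      refine Finset.sum_congr rfl fun y _ => ?_
      split_ifs with hy
      · rw [← L.tau_expand hz hM H hy, map_one, mul_one]
      · rfl
    rw [hzero hz fun u hu => (hIz u hu).1, hzero (inv_mem hz) fun u hu => (hIz u hu).2, add_zero]

end Cfsg.Lib.Block.ExtraThree
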