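import Cfsg.Agent.Lib.Block.ExtraThree.Gens

/-!
# Pairing the principal block with virtual characters of the centralizer of the centre

An integral combination of members of the principal block of `H = C(z)` vanishing on regular
elements pairs with the principal block of the group by an isometry.
-/

set_option autoImplicit false
set_option linter.unusedSectionVars false
set_option linter.style.haveILetI false
set_option maxHeartbeats 800000

namespace Cfsg.Lib.Block.ExtraThree

open Cfsg Cfsg.Lib Cfsg.Lib.Block Subgroup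
open scoped ComplexConjugate Classical

universe u

noncomputable local instance (priority := high) fintypeSubgroupTransfer {A : Type u} [Group A]
    [Fintype A] (B : Subgroup A) : Fintype B := Fintype.ofFinite B

variable {G : Type u} [Group G] [Fintype G] {z : G} {c : ℕ} {X : Fin c → G} {M : Ideal AlgInt}

/-- The central element inside its centralizer. -/
def zH (z : G) : centralizer ({z} : Set G) := ⟨z, mem_centralizer_singleton_iff.2 rfl⟩

theorem zH_mem_center : zH z ∈ center (centralizer ({z} : Set G)) :=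
  mem_center_iff.2 fun g => Subtype.ext (mem_centralizer_singleton_iff.1 g.2)

theorem centralizer_inv_singleton : centralizer ({z⁻¹} : Set G) = centralizer ({z} : Set G) := by
  ext g
  rw [mem_centralizer_singleton_iff, mem_centralizer_singleton_iff]
  exact ⟨fun h => (Commute.inv_right_iff.1 h : Commute g z), fun h => (Commute.inv_right h : Commute g z⁻¹)⟩

/-- A section of the group at the central element as an average over its centralizer. -/
theorem secAvg_sub {v : G} (hv : centralizer ({v} : Set G) = centralizer ({z} : Set G))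
    (F : G → ℂ) :
    secAvg v F = (Nat.card (centralizer ({z} : Set G)) : ℂ)⁻¹ *
      ∑ y : centralizer ({z} : Set G), if IsPRegular 3 y then F (v * (y : G)) else 0 := by
  let e : centralizer ({v} : Set G) ≃ centralizer ({z} : Set G) :=
    ⟨fun y => ⟨y.1, hv ▸ y.2⟩, fun y => ⟨y.1, hv.symm ▸ y.2⟩, fun _ => rfl, fun _ => rfl⟩
  rw [secAvg, Nat.card_congr e]
  congr 1
  refine Fintype.sum_equiv e _ _ fun y => ?_
  refine if_congr ?_ rfl rfl
  rw [isPRegular_coe, isPRegular_coe]
  rfl

/-- The two central elements. -/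
def IsCen (z : G) (v : centralizer ({z} : Set G)) : Prop := v = zH z ∨ v = (zH z)⁻¹

theorem IsCen.cent {v : centralizer ({z} : Set G)} (h : IsCen z v) :
    centralizer ({(v : G)} : Set G) = centralizer ({z} : Set G) := by
  rcases h with rfl | rfl
  · rfl
  · exact centralizer_inv_singleton

theorem IsCen.center {v : centralizer ({z} : Set G)} (h : IsCen z v) :
    v ∈ center (centralizer ({z} : Set G)) := by
  rcases h with rfl | rfl
  exacts [zH_mem_center, inv_mem zH_mem_center]

theorem IsCen.comm {v : centralizer ({z} : Set G)} (h : IsCen z v)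
    (y : centralizer ({z} : Set G)) : Commute (v : G) (y : G) :=
  congrArg Subtype.val (mem_center_iff.1 h.center y).symm

theorem secAvg_restrict {v : centralizer ({z} : Set G)} (h : IsCen z v) (F : G → ℂ) :
    secAvg (v : G) F = secAvg v (fun y : centralizer ({z} : Set G) => F (y : G)) := by
  rw [secAvg_sub h.cent, secAvg_center h.center]
  rfl

/-- The element `X j` inside the centralizer. -/
def xH (hX : ∀ j, X j ∈ centralizer ({z} : Set G)) (j : Fin c) : centralizer ({z} : Set G) :=
  ⟨X j, hX j⟩

variable (L : Local z X) (hX : ∀ j, X j ∈ centralizer ({z} : Set G))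
  (LH : Local (zH z) (xH hX)) (hM : IsPModular 3 M)

include L LH hM in
theorem Local.xconst_res (χ : Blk M G) :
    XConst (xH hX) (fun y : centralizer ({z} : Set G) => (χ.1 : G → ℂ) (y : G)) :=
  fun j y h h' => by
    simp only [Subgroup.coe_mul]
    exact L.xconst hM χ j (y : G) (congrArg Subtype.val h) (by rwa [Subgroup.orderOf_coe])

theorem isClassFunction_res (χ : IrrCharacter G) :
    IsClassFunction (centralizer ({z} : Set G))
      (fun y : centralizer ({z} : Set G) => (χ : G → ℂ) (y : G)) :=
  fun g x => by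
    simp only [Subgroup.coe_mul, Subgroup.coe_inv]
    exact χ.2.isClassFunction _ _

theorem exists_int_pairing (γ : Blk M (centralizer ({z} : Set G)) → ℤ) (χ : Blk M G) :
    ∃ n : ℤ, classInner (fun y : centralizer ({z} : Set G) => (χ.1 : G → ℂ) (y : G)) (comb γ) =
      n := by
  have hres : IsCharacter (centralizer ({z} : Set G))
      (fun y : centralizer ({z} : Set G) => (χ.1 : G → ℂ) (y : G)) :=
    χ.1.2.isCharacter.comp (centralizer ({z} : Set G)).subtype
  choose n hn using fun η : Blk M (centralizer ({z} : Set G)) =>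
    hres.exists_nat_classInner η.1.2.isCharacter
  refine ⟨∑ η, γ η * n η, ?_⟩
  rw [show comb γ = ∑ η : Blk M (centralizer ({z} : Set G)), (γ η : ℂ) • (η.1 : _ → ℂ) from
    funext fun y => by simp [comb], Char.classInner_sum_right, Int.cast_sum]
  exact Finset.sum_congr rfl fun η _ => by
    rw [Char.classInner_smul_right, hn, map_intCast]; push_cast; ring

/-- The integral pairing. -/
noncomputable def pairing (γ : Blk M (centralizer ({z} : Set G)) → ℤ) (χ : Blk M G) : ℤ :=
  (exists_int_pairing γ χ).choose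

theorem pairing_spec (γ : Blk M (centralizer ({z} : Set G)) → ℤ) (χ : Blk M G) :
    classInner (fun y : centralizer ({z} : Set G) => (χ.1 : G → ℂ) (y : G)) (comb γ) =
      pairing γ χ := (exists_int_pairing γ χ).choose_spec

/-- The part of the pairing at one central element. -/
noncomputable def part (γ : Blk M (centralizer ({z} : Set G)) → ℤ)
    (v : centralizer ({z} : Set G)) (χ : Blk M G) : ℂ :=
  (Nat.card (centralizer ({z} : Set G)) : ℂ)⁻¹ * ∑ y : centralizer ({z} : Set G),
    if IsPRegular 3 y then (χ.1 : G → ℂ) ((v : G) * (y : G)) * conj (comb γ (v * y)) else 0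

/-- The value of a combination at a noncentral class. -/
noncomputable def combVal (LH : Local (zH z) (xH hX))
    (γ : Blk M (centralizer ({z} : Set G)) → ℤ) (j : Fin c) : ℤ :=
  ∑ η, γ η * LH.val j η.1

include LH in
theorem comb_x (γ : Blk M (centralizer ({z} : Set G)) → ℤ) (j : Fin c) :
    comb γ (xH hX j) = (combVal hX LH γ j : ℂ) := by
  simp only [comb, combVal, Int.cast_sum, Int.cast_mul]
  exact Finset.sum_congr rfl fun η _ => by rw [(LH.val_spec j η.1).1]

include L LH hM in
theorem pairing_eq {γ : Blk M (centralizer ({z} : Set G)) → ℤ}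
    (hγ : ∀ y, IsPRegular 3 y → comb γ y = 0) (χ : Blk M G) :
    (pairing γ χ : ℂ) = part γ (zH z) χ + part γ (zH z)⁻¹ χ +
      (∑ j, (L.val j χ.1 : ℂ) * combVal hX LH γ j) / 9 := by
  rw [← pairing_spec, LH.classInner_eq (isClassFunction_res χ.1) (isClassFunction_comb γ)
    (L.xconst_res hX LH hM χ) (LH.xconst_comb hM γ), Finset.sum_div]
  have h0 : regInner 3 (fun y : centralizer ({z} : Set G) => (χ.1 : G → ℂ) (y : G)) (comb γ) =
      0 := by
    rw [← rIn_eq_regInner, rIn, Finset.sum_eq_zero, mul_zero]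
    intro y _
    split_ifs with hy
    · rw [hγ y hy, map_zero, mul_zero]
    · rfl
  rw [h0, zero_add, secAvg_center zH_mem_center, secAvg_center (inv_mem zH_mem_center)]
  refine congrArg₂ (· + ·) (congrArg₂ (· + ·) ?_ ?_) ?_
  · simp only [part, Subgroup.coe_mul]
  · simp only [part, Subgroup.coe_mul]
  · refine Finset.sum_congr rfl fun j _ => ?_
    rw [comb_x hX LH, map_intCast, ← (L.val_spec j χ.1).1]
    rfl

include L in
theorem IsCen.pPt {v : centralizer ({z} : Set G)} (h : IsCen z v) {y : centralizer ({z} : Set G)}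
    (hy : IsPRegular 3 y) : Cfsg.Lib.Block.pPt 3 ((v : G) * (y : G)) = (v : G) := by
  haveI : Fact (Nat.Prime 3) := ⟨Nat.prime_three⟩
  refine pPt_mul_reg ?_ (h.comm y) ((isPRegular_coe y).1 hy)
  rcases h with rfl | rfl
  · exact L.exists_pow_z
  · exact L.exists_pow_zinv

include L hM in
/-- Parts are orthogonal to the values at elements of other sections. -/
theorem sum_part_mul_conj {γ : Blk M (centralizer ({z} : Set G)) → ℤ}
    {v : centralizer ({z} : Set G)} (h : IsCen z v) {t : G}
    (ht : ¬ IsConj (v : G) (Cfsg.Lib.Block.pPt 3 t)) :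
    ∑ χ : Blk M G, part γ v χ * conj ((χ.1 : G → ℂ) t) = 0 := by
  haveI : Fact (Nat.Prime 3) := ⟨Nat.prime_three⟩
  simp only [part, mul_assoc, Finset.sum_mul, ← Finset.mul_sum]
  rw [Finset.sum_comm]
  refine mul_eq_zero_of_right _ (Finset.sum_eq_zero fun y _ => ?_)
  by_cases hy : IsPRegular 3 y
  · have hne : ¬ IsConj (Cfsg.Lib.Block.pPt 3 ((v : G) * (y : G))) (Cfsg.Lib.Block.pPt 3 t) := by
      rw [h.pPt L hy]; exact ht
    have h0 := sum_block_mul_conj_eq_zero hM (vInt_indVec hM isPBlock_principal) hne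
    rw [← sum_blk (fun χ : IrrCharacter G =>
      (χ : G → ℂ) ((v : G) * (y : G)) * conj ((χ : G → ℂ) t))] at h0
    simp only [if_pos hy]
    rw [Finset.sum_congr rfl fun χ _ => show
      (χ.1 : G → ℂ) ((v : G) * (y : G)) * conj (comb γ (v * y)) * conj ((χ.1 : G → ℂ) t) =
        conj (comb γ (v * y)) * ((χ.1 : G → ℂ) ((v : G) * (y : G)) * conj ((χ.1 : G → ℂ) t)) by
          ring, ← Finset.mul_sum, h0, mul_zero]
  · simp [hy]

include L hM in
theorem sum_part_mul_part_ne (γ γ' : Blk M (centralizer ({z} : Set G)) → ℤ)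
    {v w : centralizer ({z} : Set G)} (hv : IsCen z v) (hw : IsCen z w)
    (hne : ¬ IsConj (v : G) (w : G)) :
    ∑ χ : Blk M G, part γ v χ * conj (part γ' w χ) = 0 := by
  have e : ∀ χ : Blk M G, conj (part γ' w χ) = (Nat.card (centralizer ({z} : Set G)) : ℂ)⁻¹ *
      ∑ t : centralizer ({z} : Set G), (if IsPRegular 3 t then comb γ' (w * t) else 0) *
        conj ((χ.1 : G → ℂ) ((w : G) * (t : G))) := by
    intro χ
    simp only [part, map_mul, map_inv₀, Complex.conj_natCast, map_sum]
    congr 1
    refine Finset.sum_congr rfl fun t _ => ?_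
    split_ifs
    · rw [map_mul, Complex.conj_conj]; ring
    · simp
  simp only [e, Finset.mul_sum]
  rw [Finset.sum_comm]
  refine Finset.sum_eq_zero fun t _ => ?_
  by_cases ht : IsPRegular 3 t
  · simp only [if_pos ht]
    rw [Finset.sum_congr rfl fun χ _ => show part γ v χ *
      ((Nat.card (centralizer ({z} : Set G)) : ℂ)⁻¹ *
        (comb γ' (w * t) * conj ((χ.1 : G → ℂ) ((w : G) * (t : G))))) =
      (Nat.card (centralizer ({z} : Set G)) : ℂ)⁻¹ * comb γ' (w * t) *
        (part γ v χ * conj ((χ.1 : G → ℂ) ((w : G) * (t : G)))) by ring, ← Finset.mul_sum,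
      sum_part_mul_conj L hM hv (by rw [hw.pPt L ht]; exact hne), mul_zero]
  · simp [ht]

include L hM in
/-- The regular kernel reproduces combinations at a central element. -/
theorem sum_part_mul_part_self (γ γ' : Blk M (centralizer ({z} : Set G)) → ℤ)
    {v : centralizer ({z} : Set G)} (hv : IsCen z v) :
    ∑ χ : Blk M G, part γ v χ * conj (part γ' v χ) =
      secAvg v (fun y => comb γ' y * conj (comb γ y)) := by
  haveI : Fact (Nat.Prime 3) := ⟨Nat.prime_three⟩
  have hker : ∀ y t : centralizer ({z} : Set G), IsPRegular 3 y → IsPRegular 3 t →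
      ∑ χ : Blk M G, (χ.1 : G → ℂ) ((v : G) * (y : G)) * conj ((χ.1 : G → ℂ) ((v : G) * (t : G))) =
        regKer (principalBlock M (centralizer ({z} : Set G))) y t := by
    intro y t hy ht
    have hu : ∃ k : ℕ, orderOf (v : G) = 3 ^ k := by
      rcases hv with rfl | rfl
      exacts [L.exists_pow_z, L.exists_pow_zinv]
    rw [← indSet_principal hM hu hv.comm hv.cent.le,
      ← sum_block_mul_conj hM hu hv.comm hv.cent.le isPBlock_principal hy ht,
      sum_blk (fun χ : IrrCharacter G =>
        (χ : G → ℂ) ((v : G) * (y : G)) * conj ((χ : G → ℂ) ((v : G) * (t : G)))),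
      finsum_mem_eq_toFinset_sum]
  have hrep : ∀ y : centralizer ({z} : Set G), IsPRegular 3 y →
      (Nat.card (centralizer ({z} : Set G)) : ℂ)⁻¹ * ∑ t : centralizer ({z} : Set G),
        (if IsPRegular 3 t then comb γ' (v * t) *
          regKer (principalBlock M (centralizer ({z} : Set G))) y t else 0) = comb γ' (v * y) := by
    intro y hy
    have hsc : ∀ η : IrrCharacter (centralizer ({z} : Set G)), ∃ a : ℂ,
        ∀ g, (η : centralizer ({z} : Set G) → ℂ) (v * g) = a * (η : _ → ℂ) g := fun η => by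
      obtain ⟨a, -, ha⟩ := exists_central_scalar η hv.center
      exact ⟨a, ha⟩
    choose a ha using hsc
    simp only [comb, ha]
    rw [Finset.sum_congr rfl (g := fun t => ∑ η : Blk M (centralizer ({z} : Set G)),
        (γ' η : ℂ) * a η.1 * ((η.1 : centralizer ({z} : Set G) → ℂ) t *
          regKer (principalBlock M (centralizer ({z} : Set G))) y t)) fun t _ => ?_,
      Finset.sum_comm, Finset.mul_sum]
    · refine Finset.sum_congr rfl fun η _ => ?_
      rw [← Finset.mul_sum, mul_left_comm, sum_char_mul_regKer, if_pos η.2]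
      ring
    · split_ifs with ht
      · rw [Finset.sum_mul]
        exact Finset.sum_congr rfl fun η _ => by ring
      · simp [regKer_eq_zero hM (vInt_indVec hM isPBlock_principal) hy ht]
  have e : ∀ χ : Blk M G, part γ v χ * conj (part γ' v χ) =
      (Nat.card (centralizer ({z} : Set G)) : ℂ)⁻¹ * ∑ y : centralizer ({z} : Set G),
        (Nat.card (centralizer ({z} : Set G)) : ℂ)⁻¹ * ∑ t : centralizer ({z} : Set G),
          (if IsPRegular 3 y then (if IsPRegular 3 t then conj (comb γ (v * y)) * comb γ' (v * t) *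
            ((χ.1 : G → ℂ) ((v : G) * (y : G)) * conj ((χ.1 : G → ℂ) ((v : G) * (t : G))))
            else 0) else 0) := by
    intro χ
    simp only [part, map_mul, map_inv₀, Complex.conj_natCast, map_sum, Finset.mul_sum,
      Finset.sum_mul]
    rw [Finset.sum_comm]
    refine Finset.sum_congr rfl fun y _ => Finset.sum_congr rfl fun t _ => ?_
    by_cases hy : IsPRegular 3 y
    · by_cases ht : IsPRegular 3 t
      · rw [if_pos hy, if_pos hy, if_pos ht, if_pos ht, map_mul, Complex.conj_conj]; ring
      · simp [ht]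
    · simp [hy]
  rw [Finset.sum_congr rfl fun χ _ => e χ, ← Finset.mul_sum, Finset.sum_comm,
    secAvg_center hv.center]
  congr 1
  refine Finset.sum_congr rfl fun y _ => ?_
  rw [← Finset.mul_sum, Finset.sum_comm]
  by_cases hy : IsPRegular 3 y
  · simp only [if_pos hy]
    rw [← hrep y hy, mul_comm, Finset.sum_mul, Finset.mul_sum, Finset.sum_mul]
    refine Finset.sum_congr rfl fun t _ => ?_
    by_cases ht : IsPRegular 3 t
    · simp only [if_pos ht]
      rw [← Finset.mul_sum, hker y t hy ht]; ring
    · simp [ht]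
  · simp [hy]

theorem not_isConj_inv (L : Local z X) :
    ¬ IsConj ((zH z : centralizer ({z} : Set G)) : G) (((zH z)⁻¹ : centralizer ({z} : Set G)) : G) :=
  L.z_inv

include L LH hM in
/-- Pairings against the columns at the noncentral classes. -/
theorem sum_pairing_val {γ : Blk M (centralizer ({z} : Set G)) → ℤ}
    (hγ : ∀ y, IsPRegular 3 y → comb γ y = 0) (i : Fin c) :
    ∑ χ : Blk M G, pairing γ χ * L.val i χ.1 = combVal hX LH γ i := by
  haveI : Fact (Nat.Prime 3) := ⟨Nat.prime_three⟩
  have hx : Cfsg.Lib.Block.pPt 3 (X i) = X i := by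
    obtain ⟨k, hk⟩ := L.exists_pow_x i
    exact (eq_pPt (mul_one _) (Commute.one_right _) hk (by rw [orderOf_one]; norm_num)).symm
  have h1 := sum_part_mul_conj (γ := γ) L hM (Or.inl rfl : IsCen z (zH z)) (t := X i)
    (by rw [hx]; exact (L.zx i).1)
  have h2 := sum_part_mul_conj (γ := γ) L hM (Or.inr rfl : IsCen z (zH z)⁻¹) (t := X i)
    (by rw [hx]; exact (L.zx i).2)
  have key : (∑ χ : Blk M G, (pairing γ χ : ℂ) * (L.val i χ.1 : ℂ)) = combVal hX LH γ i := by
    have e : ∀ χ : Blk M G, (pairing γ χ : ℂ) * (L.val i χ.1 : ℂ) =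
        part γ (zH z) χ * conj ((χ.1 : G → ℂ) (X i)) +
          part γ (zH z)⁻¹ χ * conj ((χ.1 : G → ℂ) (X i)) +
          ∑ j, (combVal hX LH γ j : ℂ) / 9 * ((L.val j χ.1 : ℂ) * L.val i χ.1) := by
      intro χ
      rw [pairing_eq L hX LH hM hγ, (L.val_spec i χ.1).1, map_intCast, add_mul, add_mul,
        Finset.sum_div, Finset.sum_mul]
      exact congrArg₂ (· + ·) rfl (Finset.sum_congr rfl fun j _ => by ring)
    rw [Finset.sum_congr rfl fun χ _ => e χ, Finset.sum_add_distrib, Finset.sum_add_distrib, h1, h2,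
      Finset.sum_comm, Finset.sum_eq_single i, ← Finset.mul_sum, L.column hM i i, if_pos rfl]
    · ring
    · intro j _ hj
      rw [← Finset.mul_sum, L.column hM j i, if_neg hj, mul_zero]
    · exact fun h => absurd (Finset.mem_univ i) h
  exact_mod_cast key

include L LH hM in
/-- Pairings against the degrees. -/
theorem sum_pairing_deg {γ : Blk M (centralizer ({z} : Set G)) → ℤ}
    (hγ : ∀ y, IsPRegular 3 y → comb γ y = 0) :
    ∑ χ : Blk M G, pairing γ χ * degBlk χ = 0 := by
  haveI : Fact (Nat.Prime 3) := ⟨Nat.prime_three⟩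
  have h1' : Cfsg.Lib.Block.pPt 3 (1 : G) = 1 := (eq_pPt (p := 3) (one_mul 1) (Commute.one_left 1)
    (k := 0) (by rw [orderOf_one, pow_zero]) (by rw [orderOf_one]; norm_num)).symm
  have h1 := sum_part_mul_conj (γ := γ) L hM (Or.inl rfl : IsCen z (zH z)) (t := 1)
    (by rw [h1']; exact fun h => L.ne_one_z (isConj_one_left.1 h))
  have h2 := sum_part_mul_conj (γ := γ) L hM (Or.inr rfl : IsCen z (zH z)⁻¹) (t := 1)
    (by rw [h1']; exact fun h => L.ne_one_z (inv_eq_one.1 (isConj_one_left.1 h)))
  have key : (∑ χ : Blk M G, (pairing γ χ : ℂ) * (degBlk χ : ℂ)) = 0 := by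
    have e : ∀ χ : Blk M G, (pairing γ χ : ℂ) * (degBlk χ : ℂ) =
        part γ (zH z) χ * conj ((χ.1 : G → ℂ) 1) + part γ (zH z)⁻¹ χ * conj ((χ.1 : G → ℂ) 1) +
          ∑ j, (combVal hX LH γ j : ℂ) / 9 * ((L.val j χ.1 : ℂ) * (degBlk χ : ℂ)) := by
      intro χ
      rw [pairing_eq L hX LH hM hγ, apply_one_eq_charDegree, Complex.conj_natCast, add_mul, add_mul,
        Finset.sum_div, Finset.sum_mul]
      refine congrArg₂ (· + ·) (by simp [degBlk]) (Finset.sum_congr rfl fun j _ => by ring)
    rw [Finset.sum_congr rfl fun χ _ => e χ, Finset.sum_add_distrib, Finset.sum_add_distrib, h1, h2,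
      Finset.sum_comm, Finset.sum_eq_zero fun j _ => by
        rw [← Finset.mul_sum, L.column_deg hM j, mul_zero]]
    ring
  exact_mod_cast key

include L LH hM in
/-- The pairings form an isometry. -/
theorem sum_pairing_mul {γ γ' : Blk M (centralizer ({z} : Set G)) → ℤ}
    (hγ : ∀ y, IsPRegular 3 y → comb γ y = 0) (hγ' : ∀ y, IsPRegular 3 y → comb γ' y = 0) :
    ∑ χ : Blk M G, pairing γ χ * pairing γ' χ = ∑ η, γ η * γ' η := by
  haveI : Fact (Nat.Prime 3) := ⟨Nat.prime_three⟩
  have hz : IsCen z (zH z) := Or.inl rfl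
  have hzi : IsCen z (zH z)⁻¹ := Or.inr rfl
  have hx : ∀ j, Cfsg.Lib.Block.pPt 3 (X j) = X j := fun j => by
    obtain ⟨k, hk⟩ := L.exists_pow_x j
    exact (eq_pPt (mul_one _) (Commute.one_right _) hk (by rw [orderOf_one]; norm_num)).symm
  let D : Blk M G → ℂ := fun χ => (∑ j, (L.val j χ.1 : ℂ) * combVal hX LH γ' j) / 9
  have hD : ∀ {v : centralizer ({z} : Set G)}, IsCen z v → (∀ j, ¬ IsConj (v : G) (X j)) →
      ∑ χ : Blk M G, part γ v χ * D χ = 0 := by
    intro v hv hne
    simp only [D, Finset.sum_div, Finset.mul_sum]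
    rw [Finset.sum_comm]
    refine Finset.sum_eq_zero fun j _ => ?_
    rw [Finset.sum_congr rfl fun χ _ => show part γ v χ * ((L.val j χ.1 : ℂ) *
      combVal hX LH γ' j / 9) = (combVal hX LH γ' j : ℂ) / 9 *
        (part γ v χ * conj ((χ.1 : G → ℂ) (X j))) by
          rw [(L.val_spec j χ.1).1, map_intCast]; ring, ← Finset.mul_sum,
      sum_part_mul_conj L hM hv (by rw [hx]; exact hne j), mul_zero]
  have key : (∑ χ : Blk M G, (pairing γ χ : ℂ) * (pairing γ' χ : ℂ)) =
      classInner (comb γ') (comb γ) := by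
    have e : ∀ χ : Blk M G, (pairing γ χ : ℂ) * (pairing γ' χ : ℂ) =
        part γ (zH z) χ * conj (part γ' (zH z) χ) + part γ (zH z) χ * conj (part γ' (zH z)⁻¹ χ) +
        part γ (zH z)⁻¹ χ * conj (part γ' (zH z) χ) +
          part γ (zH z)⁻¹ χ * conj (part γ' (zH z)⁻¹ χ) +
        part γ (zH z) χ * D χ + part γ (zH z)⁻¹ χ * D χ +
        ∑ j, (combVal hX LH γ j : ℂ) / 9 * ((L.val j χ.1 : ℂ) * (pairing γ' χ : ℂ)) := by
      intro χ
      have hc : (pairing γ' χ : ℂ) = conj (part γ' (zH z) χ) + conj (part γ' (zH z)⁻¹ χ) + D χ := by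
        rw [← map_intCast (starRingEnd ℂ), pairing_eq L hX LH hM hγ', map_add, map_add]
        congr 1
        simp [D, map_ofNat]
      conv_lhs => rw [pairing_eq L hX LH hM hγ, add_mul, add_mul, Finset.sum_div, Finset.sum_mul]
      conv_lhs => arg 1; rw [hc]
      rw [Finset.sum_congr rfl fun j _ => show (L.val j χ.1 : ℂ) * combVal hX LH γ j / 9 *
        (pairing γ' χ : ℂ) = (combVal hX LH γ j : ℂ) / 9 *
          ((L.val j χ.1 : ℂ) * (pairing γ' χ : ℂ)) by ring]
      ring
    rw [Finset.sum_congr rfl fun χ _ => e χ]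
    simp only [Finset.sum_add_distrib]
    rw [sum_part_mul_part_self L hM γ γ' hz, sum_part_mul_part_self L hM γ γ' hzi,
      sum_part_mul_part_ne L hM γ γ' hz hzi (not_isConj_inv L),
      sum_part_mul_part_ne L hM γ γ' hzi hz (fun h => not_isConj_inv L h.symm),
      hD hz (fun j => (L.zx j).1), hD hzi (fun j => (L.zx j).2), Finset.sum_comm,
      LH.classInner_eq (isClassFunction_comb γ') (isClassFunction_comb γ) (LH.xconst_comb hM γ')
        (LH.xconst_comb hM γ)]
    have h0 : regInner 3 (comb γ') (comb γ) = 0 := by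
      rw [← rIn_eq_regInner, rIn, Finset.sum_eq_zero, mul_zero]
      intro y _
      split_ifs with hy
      · rw [hγ y hy, map_zero, mul_zero]
      · rfl
    rw [h0]
    have hsum : ∀ j, ∑ χ : Blk M G, (combVal hX LH γ j : ℂ) / 9 *
        ((L.val j χ.1 : ℂ) * (pairing γ' χ : ℂ)) =
        comb γ' (xH hX j) * conj (comb γ (xH hX j)) / 9 := by
      intro j
      have hv := congrArg (fun n : ℤ => (n : ℂ)) (sum_pairing_val L hX LH hM hγ' j)
      push_cast at hv
      rw [← Finset.mul_sum, Finset.sum_congr rfl fun χ _ => mul_comm (L.val j χ.1 : ℂ) _, hv,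
        comb_x hX LH, comb_x hX LH, map_intCast]
      ring
    rw [Finset.sum_congr rfl fun j _ => hsum j]
    ring
  rw [classInner_comb] at key
  have : ∑ χ : Blk M G, pairing γ χ * pairing γ' χ = ∑ η, γ' η * γ η := by exact_mod_cast key
  rw [this]
  exact Finset.sum_congr rfl fun η _ => mul_comm _ _

include LH hM in
theorem pairing_tau (γ : Blk M (centralizer ({z} : Set G)) → ℤ) :
    pairing γ (tauBlk (A := G) hM) = γ (tauBlk hM) := by
  have h := pairing_spec γ (tauBlk (A := G) hM)
  have e : (fun y : centralizer ({z} : Set G) =>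
      ((tauBlk (A := G) hM).1 : G → ℂ) (y : G)) =
      comb (fun η : Blk M (centralizer ({z} : Set G)) => if η = tauBlk hM then (1 : ℤ) else 0) := by
    funext y
    rw [comb, Finset.sum_eq_single (tauBlk hM)]
    · simp [tauBlk, trivChar_coe]
    · intro b _ hb
      simp [hb]
    · exact fun h => absurd (Finset.mem_univ _) h
  rw [e, classInner_comb] at h
  simp at h
  exact h.symm

end Cfsg.Lib.Block.ExtraThree
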