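import Cfsg.Agent.Lib.Block.ExtraThree.OutsideMain
import Cfsg.Agent.Lib.Block.ExtraThree.Transfer

/-!
# The invariants of the principal block

The pairings with the generators of the centralizer of the centre account for every member, and
the sections then give the rank.
-/

set_option autoImplicit false
set_option linter.unusedSectionVars false
set_option linter.style.haveILetI false
set_option maxHeartbeats 800000

namespace Cfsg.Lib.Block.ExtraThree

open Cfsg Cfsg.Lib Cfsg.Lib.Block Subgroup
open scoped ComplexConjugate Classical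

universe u

noncomputable local instance (priority := high) fintypeSubgroupMain {A : Type u} [Group A]
    [Fintype A] (B : Subgroup A) : Fintype B := Fintype.ofFinite B

variable {G : Type u} [Group G] [Fintype G] {z : G} {c : ℕ} {X : Fin c → G} {M : Ideal AlgInt}
  (L : Local z X) (hX : ∀ j, X j ∈ centralizer ({z} : Set G))
  (LH : Local (zH z) (xH hX)) (hM : IsPModular 3 M)

include L LH hM in
/-- Every member lies in the rows of units or in the supports of the pairings. -/
theorem Local.exists_cover (hc : c = 1 ∨ c = 2 ∨ c = 4) :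
    (unitRows M G).card = 6 ∧ ∃ q : ℕ, q + c = 6 ∧
      blockRank 3 (principalBlock M (centralizer ({z} : Set G))) = q ∧
      Fintype.card (Blk M G) = 6 + 2 * q := by
  haveI : Fact (Nat.Prime 3) := ⟨Nat.prime_three⟩
  obtain ⟨U, α, β, Gn⟩ := LH.exists_gens zH_mem_center hM hc
  let u₀ : U := ⟨tauBlk hM, Gn.tau_mem⟩
  let P : U → Blk M G → ℤ := fun u χ => pairing (α u.1) χ
  let Q : U → Blk M G → ℤ := fun u χ => pairing (β u.1) χ
  have hαr := fun u : U => Gn.αreg u.1 u.2
  have hβr := fun u : U => Gn.βreg u.1 u.2
  have V : Vecs (unitRows M G) c (fun j χ => L.val j χ.1) (tauBlk hM) degBlk P Q u₀ :=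
    { cols := L.cols hM
      out := fun j χ hχ => L.val_eq_zero hM hχ j
      pos := fun χ => by
        have := charDegree_pos χ.1
        simp only [degBlk]
        omega
      card_add := by rw [Fintype.card_coe]; exact Gn.card
      hc := hc
      AA := fun u v => by
        simp only [P]
        rw [sum_pairing_mul L hX LH hM (hαr u) (hαr v), Gn.αα u.1 u.2 v.1 v.2]
        exact if_congr Subtype.ext_iff.symm rfl rfl
      AC := fun u v => by
        simp only [P, Q]
        rw [sum_pairing_mul L hX LH hM (hαr u) (hβr v), Gn.αβ u.1 u.2 v.1 v.2]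
        exact if_congr Subtype.ext_iff.symm rfl rfl
      CC := fun u v => by
        simp only [Q]
        rw [sum_pairing_mul L hX LH hM (hβr u) (hβr v), Gn.ββ u.1 u.2 v.1 v.2]
        exact if_congr Subtype.ext_iff.symm rfl rfl
      Ad := fun u j => by
        simp only [P]
        rw [sum_pairing_val L hX LH hM (hαr u) j, combVal]
        exact Gn.αx u.1 u.2 j
      Cd := fun u j => by
        simp only [Q]
        rw [sum_pairing_val L hX LH hM (hβr u) j, combVal]
        exact Gn.βx u.1 u.2 j
      Cdeg := fun u => sum_pairing_deg L hX LH hM (hβr u)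
      Atau := fun u => by
        simp only [P]
        rw [pairing_tau hX LH hM, Gn.αtau u.1 u.2]
        exact if_congr ⟨fun h => Subtype.ext h, congrArg Subtype.val⟩ rfl rfl
      Ctau := fun u => by
        simp only [Q]
        rw [pairing_tau hX LH hM, Gn.βtau u.1 u.2] }
  obtain ⟨h6, T, hd, hT, hout⟩ := outside V
  refine ⟨h6, U.card, Gn.card, Gn.rank, ?_⟩
  have huniv : (unitRows M G) ∪ T = Finset.univ := by
    refine Finset.eq_univ_iff_forall.2 fun χ => ?_
    rw [Finset.mem_union]
    by_contra h
    obtain ⟨hS, hT'⟩ := not_or.1 h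
    have hv := fun j => L.val_eq_zero hM hS j
    have h2 := Gn.complete (fun y : centralizer ({z} : Set G) => (χ.1 : G → ℂ) (y : G))
      (isClassFunction_res χ.1) (L.xconst_res hX LH hM χ)
      (fun j => by
        show (χ.1 : G → ℂ) (X j) = 0
        rw [(L.val_spec j χ.1).1, hv j, Int.cast_zero])
      (fun u hu => by
        obtain ⟨a, b⟩ := hout χ hS hT' ⟨u, hu⟩
        refine ⟨?_, ?_⟩ <;> rw [pairing_spec]
        · exact_mod_cast a
        · exact_mod_cast b)
    rw [← secAvg_restrict (Or.inl rfl), ← secAvg_restrict (Or.inr rfl)] at h2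
    have hd := L.decomp χ.1.2.isClassFunction
    rw [Finset.sum_eq_zero fun j _ => show secAvg (X j) (χ.1 : G → ℂ) = 0 by
      rw [L.secAvg_x j (L.xconst hM χ j), (L.val_spec j χ.1).1, hv j, Int.cast_zero, zero_div]]
      at hd
    have hne : (χ.1 : IrrCharacter G) ≠ trivChar G := fun e =>
      hS ((show χ = tauBlk hM from Subtype.ext e) ▸ (L.cols hM).tau_mem)
    have h0 : (Nat.card G : ℂ)⁻¹ * ∑ g, (χ.1 : G → ℂ) g = 0 := by
      have e := Char.classInner_irr_ne χ.1.2 (trivChar G).2 (fun e => hne (Subtype.ext e))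
      simpa [classInner, trivChar_coe] using e
    have hreg : (Nat.card G : ℂ)⁻¹ * ∑ g, pRegularPart 3 (χ.1 : G → ℂ) g = 0 := by
      simp only [zH] at h2
      linear_combination h0 - hd - h2
    exact (mem_principal_iff_regSum hM χ.1).1 χ.2
      ((mul_eq_zero.1 hreg).resolve_left (inv_ne_zero Char.card_cast_ne_zero))
  rw [← Finset.card_univ, ← huniv, Finset.card_union_of_disjoint hd, h6, hT, Fintype.card_coe]

include L LH hM in
/-- The section at either central element has the rank of the principal block of the centralizer. -/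
theorem Local.secAvg_kernel {v : centralizer ({z} : Set G)} (hv : IsCen z v) :
    secAvg (v : G) (fun a => ∑ χ : Blk M G, (χ.1 : G → ℂ) a * conj ((χ.1 : G → ℂ) a)) =
      (blockRank 3 (principalBlock M (centralizer ({z} : Set G))) : ℂ) := by
  haveI : Fact (Nat.Prime 3) := ⟨Nat.prime_three⟩
  have hu : ∃ k : ℕ, orderOf (v : G) = 3 ^ k := by
    rcases hv with rfl | rfl
    exacts [L.exists_pow_z, L.exists_pow_zinv]
  rw [secAvg_sub hv.cent]
  have e : ∀ y : centralizer ({z} : Set G),
      (if IsPRegular 3 y then ∑ χ : Blk M G, (χ.1 : G → ℂ) ((v : G) * (y : G)) *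
        conj ((χ.1 : G → ℂ) ((v : G) * (y : G))) else 0) =
      pRegularPart 3 (fun y => regKer (principalBlock M (centralizer ({z} : Set G))) y y) y := by
    intro y
    by_cases hy : IsPRegular 3 y
    · rw [if_pos hy, pRegularPart_of_reg hy, ← indSet_principal hM hu hv.comm hv.cent.le,
        ← sum_block_mul_conj hM hu hv.comm hv.cent.le isPBlock_principal hy hy,
        sum_blk (fun χ : IrrCharacter G =>
          (χ : G → ℂ) ((v : G) * (y : G)) * conj ((χ : G → ℂ) ((v : G) * (y : G)))),
        finsum_mem_eq_toFinset_sum]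
    · rw [if_neg hy, pRegularPart_of_sing hy]
  rw [Finset.sum_congr rfl fun y _ => e y, ← finsum_eq_sum_of_fintype,
    sum_reg_regKer hM (vInt_indVec hM isPBlock_principal),
    inv_mul_cancel_left₀ Char.card_cast_ne_zero]

include L LH hM in
/-- The counts. -/
theorem Local.counts (hc : c = 1 ∨ c = 2 ∨ c = 4) :
    Nat.card (principalBlock M G) + 2 * c = 18 ∧
      Nat.card {χ : IrrCharacter G // χ ∈ principalBlock M G ∧
        blockHeight 3 (principalBlock M G) (χ : G → ℂ) = 0} = 6 ∧
      blockRank 3 (principalBlock M G) + c = 6 := by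
  haveI : Fact (Nat.Prime 3) := ⟨Nat.prime_three⟩
  obtain ⟨h6, q, hq, hrk, hcard⟩ := L.exists_cover hX LH hM hc
  have hk : Nat.card (principalBlock M G) = 6 + 2 * q := by
    rw [← hcard]; exact Nat.card_eq_fintype_card
  refine ⟨by omega, ?_, ?_⟩
  · rw [← h6, ← Fintype.card_coe, ← Nat.card_eq_fintype_card]
    refine Nat.card_congr ((Equiv.subtypeSubtypeEquivSubtypeInter _ _).symm.trans
      (Equiv.subtypeEquivRight fun χ => blockHeight_eq_zero_iff hM χ))
  · set F : G → ℂ := fun a => ∑ χ : Blk M G, (χ.1 : G → ℂ) a * conj ((χ.1 : G → ℂ) a) with hF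
    have hcl : IsClassFunction G F := fun g x => by
      simp only [hF]
      exact Finset.sum_congr rfl fun χ _ => by rw [χ.1.2.isClassFunction]
    have hd := L.decomp hcl
    have hlhs : (Nat.card G : ℂ)⁻¹ * ∑ g, F g = (Fintype.card (Blk M G) : ℂ) := by
      simp only [hF]
      rw [Finset.sum_comm, Finset.mul_sum, Finset.sum_congr rfl fun χ _ => show
        (Nat.card G : ℂ)⁻¹ * ∑ g, (χ.1 : G → ℂ) g * conj ((χ.1 : G → ℂ) g) = 1 by
          simpa [classInner] using Char.classInner_irr_self χ.1.2]
      simp
    have hreg : (Nat.card G : ℂ)⁻¹ * ∑ g, pRegularPart 3 F g =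
        (blockRank 3 (principalBlock M G) : ℂ) := by
      rw [inv_mul_eq_iff_eq_mul₀ Char.card_cast_ne_zero,
        card_mul_blockRank hM (vInt_indVec hM isPBlock_principal)]
      refine Finset.sum_congr rfl fun g _ => ?_
      rw [← sum_blk (fun χ : IrrCharacter G =>
        pRegularPart 3 (χ : G → ℂ) g * conj ((χ : G → ℂ) g))]
      by_cases hg : IsPRegular 3 g
      · rw [pRegularPart_of_reg hg]
        simp only [hF, pRegularPart_of_reg hg]
      · rw [pRegularPart_of_sing hg]
        simp [pRegularPart_of_sing hg]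
    have hx : ∀ j, secAvg (X j) F = 1 := fun j => by
      rw [L.secAvg_x j fun y h h' => by
        simp only [hF]
        exact Finset.sum_congr rfl fun χ _ => by rw [L.xconst hM χ j y h h']]
      simp only [hF]
      rw [Finset.sum_congr rfl fun χ _ => show (χ.1 : G → ℂ) (X j) * conj ((χ.1 : G → ℂ) (X j)) =
        (L.val j χ.1 : ℂ) * L.val j χ.1 by rw [(L.val_spec j χ.1).1, map_intCast],
        L.column hM j j, if_pos rfl]
      norm_num
    have hz : secAvg z F = (q : ℂ) := by
      have := L.secAvg_kernel hX LH hM (v := zH z) (Or.inl rfl)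
      rwa [hrk] at this
    have hzi : secAvg z⁻¹ F = (q : ℂ) := by
      have := L.secAvg_kernel hX LH hM (v := (zH z)⁻¹) (Or.inr rfl)
      rwa [hrk] at this
    rw [hlhs, hreg, hz, hzi, Finset.sum_congr rfl fun j _ => hx j] at hd
    simp only [Finset.sum_const, Finset.card_univ, Fintype.card_fin, nsmul_eq_mul, mul_one] at hd
    have hd' : Fintype.card (Blk M G) = blockRank 3 (principalBlock M G) + q + q + c := by
      exact_mod_cast hd
    omega

end Cfsg.Lib.Block.ExtraThree
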