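import Cfsg.Agent.Lib.Block.ExtraThree.Fusion
import Mathlib.GroupTheory.GroupAction.Quotient
import Mathlib.Data.Fintype.Card

/-!
# The orbits of the normalizer on the noncentral elements

The inertial quotient acts freely on the nontrivial cosets of the centre, so every orbit of the
normalizer has three times its order as length.
-/

set_option autoImplicit false
set_option linter.unusedSectionVars false
set_option linter.style.haveILetI false

namespace Cfsg.Lib.Block.ExtraThree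

open Subgroup

universe u

variable {G : Type u} [Group G] {P : Subgroup G}

/-- `P` times its centralizer. -/
def innerGroup (P : Subgroup G) : Subgroup G := P ⊔ centralizer (P : Set G)

theorem conj_mem_of_mem_normalizer {n a : G} (hn : n ∈ normalizer (P : Set G)) (ha : a ∈ P) :
    n * a * n⁻¹ ∈ P := (mem_normalizer_iff.1 hn a).1 ha

theorem conj_mem_centralizer {n a : G} (hn : n ∈ normalizer (P : Set G))
    (ha : a ∈ centralizer (P : Set G)) : n * a * n⁻¹ ∈ centralizer (P : Set G) := by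
  rw [mem_centralizer_iff] at ha ⊢
  intro b hb
  have hb' : n⁻¹ * b * n ∈ P := by
    have := conj_mem_of_mem_normalizer (inv_mem hn) (show b ∈ P from hb)
    rwa [inv_inv] at this
  calc b * (n * a * n⁻¹) = n * ((n⁻¹ * b * n) * a) * n⁻¹ := by group
    _ = n * (a * (n⁻¹ * b * n)) * n⁻¹ := by rw [ha _ hb']
    _ = n * a * n⁻¹ * b := by group

theorem innerGroup_le : innerGroup P ≤ normalizer (P : Set G) :=
  sup_le le_normalizer fun c hc => by
    rw [mem_normalizer_iff]
    intro a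
    constructor
    · intro ha
      rw [← mem_centralizer_iff.1 hc a ha, mul_inv_cancel_right]
      exact ha
    · intro ha
      have e := mem_centralizer_iff.1 (inv_mem hc) _ ha
      have e' : a = c * a * c⁻¹ := by
        calc a = c⁻¹ * (c * a * c⁻¹) * c := by group
          _ = c * a * c⁻¹ := by rw [← e, inv_mul_cancel_right]
      rwa [e']

theorem conj_mem_innerGroup {n a : G} (hn : n ∈ normalizer (P : Set G)) (ha : a ∈ innerGroup P) :
    n * a * n⁻¹ ∈ innerGroup P := by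
  have h : innerGroup P ≤ (innerGroup P).comap (MulAut.conj n).toMonoidHom :=
    sup_le (fun b hb => mem_comap.2 (mem_sup_left (conj_mem_of_mem_normalizer hn hb)))
      (fun b hb => mem_comap.2 (mem_sup_right (conj_mem_centralizer hn hb)))
  exact h ha

theorem normal_innerGroup :
    ((innerGroup P).subgroupOf (normalizer (P : Set G))).Normal :=
  ⟨fun _ ha n => mem_subgroupOf.2 (conj_mem_innerGroup n.2 (mem_subgroupOf.1 ha))⟩

theorem pow_index_mem_innerGroup {n : G} (hn : n ∈ normalizer (P : Set G)) :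
    n ^ (innerGroup P).relIndex (normalizer (P : Set G)) ∈ innerGroup P := by
  haveI := normal_innerGroup (P := P)
  exact mem_subgroupOf.1
    (Subgroup.pow_index_mem ((innerGroup P).subgroupOf (normalizer (P : Set G))) ⟨n, hn⟩)

variable {z : G} (h : Ext P z)

include h in
theorem Ext.innerGroup_le_movers {x : G} (hx : x ∈ P) : innerGroup P ≤ movers z x :=
  sup_le (h.le_movers hx) fun c hc => ⟨(mem_centralizer_iff.1 hc z h.mem).symm, by
    rw [← mem_centralizer_iff.1 hc x hx, mul_inv_cancel_right, mul_inv_cancel]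
    exact one_mem _⟩

variable [Finite G] (hN : ∀ n ∈ normalizer (P : Set G), n * z = z * n)

include h hN in
/-- An element of the normalizer fixing a nontrivial coset of the centre induces an inner
automorphism. -/
theorem Ext.mem_innerGroup {n x : G} (hn : n ∈ normalizer (P : Set G))
    (he : ¬ 3 ∣ (innerGroup P).relIndex (normalizer (P : Set G))) (hx : x ∈ P)
    (hxz : x ∉ zpowers z) (hnx : n * x * n⁻¹ * x⁻¹ ∈ zpowers z) : n ∈ innerGroup P := by
  obtain ⟨t, ht, htx⟩ := h.exists_twist hx hxz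
  have hnz := hN n hn
  set E := P ⊓ centralizer ({x} : Set G) with hE
  have hxE : x ∈ E := ⟨hx, mem_centralizer_singleton_iff.2 rfl⟩
  have hzE : z ∈ E := ⟨h.mem, mem_centralizer_singleton_iff.2 (h.central x hx)⟩
  -- step one: `n` moves `t` inside `E`
  have hmem := conj_mem_of_mem_normalizer hn ht
  have hn' : n ∈ movers z x := ⟨hnz, hnx⟩
  have hnt : n * t * n⁻¹ * t⁻¹ ∈ E := by
    refine mem_inf.2 ⟨mul_mem hmem (inv_mem ht), ?_⟩
    have hb : n * t * n⁻¹ * t⁻¹ ∈ movers z x :=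
      mul_mem (mul_mem (mul_mem hn' (h.le_movers hx ht)) (inv_mem hn')) (inv_mem (h.le_movers hx ht))
    have hk : moverHom z x ⟨_, hb⟩ = 1 := by
      have e : (⟨_, hb⟩ : movers z x) = ⟨n, hn'⟩ * ⟨t, h.le_movers hx ht⟩ * ⟨n, hn'⟩⁻¹ *
          ⟨t, h.le_movers hx ht⟩⁻¹ := rfl
      rw [e]
      simp only [map_mul, map_inv]
      obtain ⟨i, hi⟩ := mem_zpowers_iff.1 (moverHom z x ⟨n, hn'⟩).2
      obtain ⟨j, hj⟩ := mem_zpowers_iff.1 (moverHom z x ⟨t, h.le_movers hx ht⟩).2
      apply Subtype.ext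
      simp only [coe_mul, coe_inv, ← hi, ← hj, coe_one, ← zpow_neg, ← zpow_add]
      rw [show i + j + -i + -j = 0 by ring, zpow_zero]
    have hk' : (n * t * n⁻¹ * t⁻¹) * x * (n * t * n⁻¹ * t⁻¹)⁻¹ * x⁻¹ = 1 :=
      congrArg Subtype.val hk
    exact mem_centralizer_singleton_iff.2 (mul_inv_eq_iff_eq_mul.1 (mul_inv_eq_one.1 hk'))
  -- every element of `E` is moved inside its coset, with `n`-invariant commutators
  let D : Subgroup G :=
    { carrier := {a | a ∈ P ∧ n * a * n⁻¹ * a⁻¹ ∈ zpowers z}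
      one_mem' := ⟨one_mem P, by simp⟩
      mul_mem' := fun {a b} ha hb => ⟨mul_mem ha.1 hb.1, by
        rw [show n * (a * b) * n⁻¹ * (a * b)⁻¹ =
          (n * a * n⁻¹ * a⁻¹) * (a * (n * b * n⁻¹ * b⁻¹) * a⁻¹) by group,
          commute_of_mem_zpowers (h.central a ha.1).symm hb.2]
        exact mul_mem ha.2 hb.2⟩
      inv_mem' := fun {a} ha => ⟨inv_mem ha.1, by
        rw [show n * a⁻¹ * n⁻¹ * a⁻¹⁻¹ = a⁻¹ * (a * (n * a * n⁻¹)⁻¹) * a⁻¹⁻¹ by group,
          show a * (n * a * n⁻¹)⁻¹ = (n * a * n⁻¹ * a⁻¹)⁻¹ by group,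
          commute_of_mem_zpowers ((show Commute a z from (h.central a ha.1).symm).inv_left).eq
            (inv_mem ha.2)]
        exact inv_mem ha.2⟩ }
  have hzD : z ∈ D := ⟨h.mem, by rw [hnz, mul_inv_cancel_right, mul_inv_cancel]; exact one_mem _⟩
  have hED : E ≤ D := h.inf_le hx hxz ⟨hx, hnx⟩ hzD
  set w := n * t * n⁻¹ * t⁻¹ with hw
  -- step two: powers of `n` shift `t` by powers of `w`
  have hpow : ∀ k : ℕ, (n ^ k * t * (n ^ k)⁻¹) * t⁻¹ * (w ^ k)⁻¹ ∈ zpowers z := by
    intro k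
    induction k with
    | zero => simp
    | succ k ih =>
      obtain ⟨hwP, hwn⟩ : w ∈ D := hED hnt
      have hwk : w ^ k ∈ D := pow_mem (hED hnt) k
      set v := (n ^ k * t * (n ^ k)⁻¹) * t⁻¹ * (w ^ k)⁻¹ with hv
      have hnv : n * v * n⁻¹ = v := commute_of_mem_zpowers hnz ih
      have e : n ^ (k + 1) * t * (n ^ (k + 1))⁻¹ * t⁻¹ * (w ^ (k + 1))⁻¹ =
          (n * v * n⁻¹) * (n * w ^ k * n⁻¹ * (w ^ k)⁻¹) * ((w ^ k) * w) * (w ^ (k + 1))⁻¹ := by
        rw [hv, hw, pow_succ' n k]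
        group
      rw [e, hnv, ← pow_succ, mul_inv_cancel_right]
      exact mul_mem ih hwk.2
  have hw0 : w ∈ zpowers z := by
    obtain ⟨k, hk⟩ : ∃ k, (innerGroup P).relIndex (normalizer (P : Set G)) = k := ⟨_, rfl⟩
    have h1 := hpow k
    have h2 := (h.innerGroup_le_movers ht (hk ▸ pow_index_mem_innerGroup hn)).2
    have hwk : w ^ k ∈ zpowers z := by
      have h3 := mul_mem (inv_mem h1) h2
      rwa [mul_inv_rev, inv_inv, inv_mul_cancel_right] at h3
    have h3 := h.exp w hnt.1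
    rw [hk] at he
    have hcop : Nat.Coprime 3 k := (Nat.prime_three.coprime_iff_not_dvd).2 he
    obtain ⟨m, hm⟩ : ∃ m : ℕ, k * m % 3 = 1 := ⟨k, by
      have : k % 3 = 1 ∨ k % 3 = 2 := by
        have := Nat.mod_lt k (show 3 > 0 by norm_num)
        omega
      rcases this with e | e <;> rw [Nat.mul_mod, e]⟩
    have e : w = (w ^ k) ^ m := by
      rw [← pow_mul, ← Nat.div_add_mod (k * m) 3, hm, pow_add, pow_mul, h3, one_pow, one_mul,
        pow_one]
    rw [e]
    exact pow_mem hwk m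
  -- step three: adjust by an inner automorphism
  have htz : t ∉ zpowers z := fun hm => by
    have e := commute_of_mem_zpowers (d := x) (h.central x hx).symm hm
    have e' : t * x * t⁻¹ = x := by rw [← mul_inv_eq_iff_eq_mul.1 e, mul_inv_cancel_right]
    exact h.ne_one (mul_eq_left.1 (htx.symm.trans e'))
  obtain ⟨q, hq, hqx⟩ := h.exists_conj hx hxz hnx
  have hr' : ∀ v ∈ zpowers z, ∃ r ∈ E, r * t * r⁻¹ = t * v := by
    intro v hv
    have hrx : x * t * x⁻¹ = t * z⁻¹ := by
      calc x * t * x⁻¹ = (t * x * t⁻¹ * z⁻¹) * t * x⁻¹ := by rw [htx]; group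
        _ = t * (x * (t⁻¹ * z⁻¹)) * t * x⁻¹ := by group
        _ = t * (x * (z⁻¹ * t⁻¹)) * t * x⁻¹ := by
          rw [((show Commute z t from h.central t ht).inv_inv).symm.eq]
        _ = t * ((x * z⁻¹) * x⁻¹) := by group
        _ = t * z⁻¹ := by
          rw [((show Commute z x from h.central x hx).inv_left).symm.eq, mul_inv_cancel_right]
    rcases mem_zpowers_three h.order hv with e | e | e <;> rw [e]
    · exact ⟨1, one_mem E, by simp⟩
    · refine ⟨x⁻¹, inv_mem hxE, ?_⟩
      calc x⁻¹ * t * x⁻¹⁻¹ = x⁻¹ * ((t * z⁻¹) * z) * x := by group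
        _ = x⁻¹ * ((x * t * x⁻¹) * z) * x := by rw [hrx]
        _ = t * (x⁻¹ * (z * x)) := by group
        _ = t * z := by rw [h.central x hx, inv_mul_cancel_left]
    · exact ⟨x, hxE, hrx⟩
  obtain ⟨s, hs, hfix⟩ : ∃ s ∈ innerGroup P,
      ∀ a ∈ ({x, t, z} : Set G), (s⁻¹ * n) * a * (s⁻¹ * n)⁻¹ = a := by
    have hvx : Commute x (n * x * n⁻¹ * x⁻¹) := by
      obtain ⟨i, hi⟩ := mem_zpowers_iff.1 hnx
      rw [← hi]
      exact ((show Commute z x from h.central x hx).zpow_left i).symm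
    have hn'x : (q⁻¹ * n) * x * (q⁻¹ * n)⁻¹ = x := by
      calc (q⁻¹ * n) * x * (q⁻¹ * n)⁻¹ = q⁻¹ * ((n * x * n⁻¹ * x⁻¹) * x) * q := by group
        _ = q⁻¹ * (q * x * q⁻¹) * q := by rw [hqx, hvx.eq]
        _ = x := by group
    obtain ⟨hn'z, hv'⟩ : q⁻¹ * n ∈ movers z t :=
      mul_mem (inv_mem (h.le_movers ht hq)) ⟨hnz, hw0⟩
    have hv't : Commute t ((q⁻¹ * n) * t * (q⁻¹ * n)⁻¹ * t⁻¹) := by
      obtain ⟨i, hi⟩ := mem_zpowers_iff.1 hv'
      rw [← hi]
      exact ((show Commute z t from h.central t ht).zpow_left i).symm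
    obtain ⟨r, hr, hrt⟩ := hr' _ hv'
    have hrx := mem_centralizer_singleton_iff.1 hr.2
    refine ⟨q * r, mem_sup_left (mul_mem hq hr.1), fun a ha => ?_⟩
    rw [show (q * r)⁻¹ * n * a * ((q * r)⁻¹ * n)⁻¹ =
      r⁻¹ * ((q⁻¹ * n) * a * (q⁻¹ * n)⁻¹) * r by group]
    simp only [Set.mem_insert_iff, Set.mem_singleton_iff] at ha
    rcases ha with rfl | rfl | rfl
    · rw [hn'x, mul_assoc, ← hrx, inv_mul_cancel_left]
    · calc r⁻¹ * ((q⁻¹ * n) * a * (q⁻¹ * n)⁻¹) * r =
          r⁻¹ * (((q⁻¹ * n) * a * (q⁻¹ * n)⁻¹ * a⁻¹) * a) * r := by group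
        _ = r⁻¹ * (r * a * r⁻¹) * r := by rw [hrt, hv't.eq]
        _ = a := by group
    · rw [hn'z, mul_inv_cancel_right, mul_assoc, h.central r hr.1, inv_mul_cancel_left]
  have hP : P ≤ centralizer ({s⁻¹ * n} : Set G) := by
    have hE' : E ≤ P ⊓ centralizer ({s⁻¹ * n} : Set G) := h.inf_le hx hxz
      ⟨hx, mem_centralizer_singleton_iff.2
        (mul_inv_eq_iff_eq_mul.1 (hfix x (by simp))).symm⟩
      ⟨h.mem, mem_centralizer_singleton_iff.2
        (mul_inv_eq_iff_eq_mul.1 (hfix z (by simp))).symm⟩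
    set J := P ⊓ centralizer ({s⁻¹ * n} : Set G) with hJ
    have htJ : t ∈ J := ⟨ht, mem_centralizer_singleton_iff.2
      (mul_inv_eq_iff_eq_mul.1 (hfix t (by simp))).symm⟩
    have hd : Nat.card J ∣ 3 ^ 3 := by
      have := card_dvd_of_le (inf_le_left : J ≤ P)
      rwa [h.card] at this
    obtain ⟨i, hi, hc⟩ := (Nat.dvd_prime_pow Nat.prime_three).1 hd
    have h9 : 9 ≤ Nat.card J := h.card_inf hx hxz ▸ Subgroup.card_le_of_le hE'
    rcases (show i = 0 ∨ i = 1 ∨ i = 2 ∨ i = 3 by omega) with rfl | rfl | rfl | rfl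
    · norm_num [hc] at h9
    · norm_num [hc] at h9
    · have : E = J := Subgroup.eq_of_le_of_card_ge hE' (by rw [hc, h.card_inf hx hxz]; norm_num)
      have htE : t ∈ E := this ▸ htJ
      exact absurd (mem_centralizer_singleton_iff.1 htE.2) fun e => by
        rw [e, mul_inv_cancel_right] at htx
        exact h.ne_one (mul_eq_left.1 htx.symm)
    · have : J = P := Subgroup.eq_of_le_of_card_ge inf_le_left (by rw [hc, h.card]; norm_num)
      exact inf_eq_left.1 this
  have hc : s⁻¹ * n ∈ centralizer (P : Set G) :=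
    mem_centralizer_iff.2 fun a ha => (mem_centralizer_singleton_iff.1 (hP ha))
  have := mul_mem hs (mem_sup_right hc : s⁻¹ * n ∈ innerGroup P)
  rwa [mul_inv_cancel_left] at this

include h hN in
/-- An inertial quotient of even order inverts every coset. -/
theorem Ext.exists_inverting (he : ¬ 3 ∣ (innerGroup P).relIndex (normalizer (P : Set G)))
    (h2 : 2 ∣ (innerGroup P).relIndex (normalizer (P : Set G))) {x : G} (hx : x ∈ P)
    (hxz : x ∉ zpowers z) : ∃ n ∈ normalizer (P : Set G), n * x * n⁻¹ = x⁻¹ := by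
  haveI : Fact (Nat.Prime 2) := ⟨Nat.prime_two⟩
  haveI := normal_innerGroup (P := P)
  set K := (innerGroup P).subgroupOf (normalizer (P : Set G)) with hK
  obtain ⟨a, ha⟩ := exists_prime_orderOf_dvd_card' (G := normalizer (P : Set G) ⧸ K) 2
    (by rwa [← Subgroup.index_eq_card])
  obtain ⟨n, rfl⟩ := QuotientGroup.mk_surjective a
  have hnK : (n : G) ∉ innerGroup P := fun hm => by
    rw [(QuotientGroup.eq_one_iff n).2 (mem_subgroupOf.2 hm), orderOf_one] at ha
    omega
  have hn2 : (n : G) ^ 2 ∈ innerGroup P := by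
    have e : (QuotientGroup.mk n : normalizer (P : Set G) ⧸ K) ^ 2 = 1 := by
      rw [← ha]; exact pow_orderOf_eq_one _
    rw [← QuotientGroup.mk_pow, QuotientGroup.eq_one_iff] at e
    exact mem_subgroupOf.1 e
  set y := (n : G) * x * (n : G)⁻¹ with hy
  have hyP : y ∈ P := conj_mem_of_mem_normalizer n.2 hx
  obtain ⟨-, hv⟩ := h.innerGroup_le_movers hx hn2
  have hxy : x * y ∈ zpowers z := by
    by_contra hne
    refine hnK (h.mem_innerGroup hN n.2 he (mul_mem hx hyP) hne ?_)
    rw [show (n : G) * (x * y) * (n : G)⁻¹ * (x * y)⁻¹ =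
      y * ((n : G) ^ 2 * x * ((n : G) ^ 2)⁻¹ * x⁻¹) * y⁻¹ * (y * x * y⁻¹ * x⁻¹) by
        rw [hy, pow_two]; group,
      commute_of_mem_zpowers (h.central y hyP).symm hv]
    exact mul_mem hv (h.comm y hyP x hx)
  have hxz' : x⁻¹ ∉ zpowers z := fun hm => hxz (inv_mem_iff.1 hm)
  obtain ⟨q, hq, hqx⟩ := h.exists_conj (inv_mem hx) hxz' hxy
  rw [inv_mul_cancel_left] at hqx
  refine ⟨q⁻¹ * n, mul_mem (inv_mem (le_normalizer hq)) n.2, ?_⟩
  calc q⁻¹ * (n : G) * x * (q⁻¹ * (n : G))⁻¹ = q⁻¹ * y * q := by rw [hy]; group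
    _ = x⁻¹ := by rw [← hqx]; group

include h hN in
/-- The length of an orbit of the normalizer. -/
theorem Ext.card_orbit (he : ¬ 3 ∣ (innerGroup P).relIndex (normalizer (P : Set G))) {x : G}
    (hx : x ∈ P) (hxz : x ∉ zpowers z) :
    Nat.card {y : G | ∃ n ∈ normalizer (P : Set G), n * x * n⁻¹ = y} =
      3 * (innerGroup P).relIndex (normalizer (P : Set G)) := by
  set N := normalizer (P : Set G)
  set C := centralizer ({x} : Set G)
  obtain ⟨t, ht, htx⟩ := h.exists_twist hx hxz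
  have hr : C.relIndex (innerGroup P) = 3 :=
    relIndex_centralizer h.order (h.innerGroup_le_movers hx) (mem_sup_left ht)
      (by rw [htx]; exact fun e => h.ne_one (mul_eq_left.1 e))
  have hle : C.subgroupOf N ≤ (innerGroup P).subgroupOf N := fun n hn => by
    rw [mem_subgroupOf] at hn ⊢
    refine h.mem_innerGroup hN n.2 he hx hxz ?_
    rw [mem_centralizer_singleton_iff.1 hn, mul_inv_cancel_right, mul_inv_cancel]
    exact one_mem _
  have hidx : (C.subgroupOf N).index = 3 * (innerGroup P).relIndex N := by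
    rw [← relIndex_mul_index hle, relIndex_subgroupOf innerGroup_le, hr]
    rfl
  rw [← hidx, Subgroup.index]
  symm
  refine Nat.card_congr (Equiv.ofBijective
    (fun a : N ⧸ C.subgroupOf N => Quotient.liftOn' a
      (fun n : N => (⟨(n : G) * x * (n : G)⁻¹, n.1, n.2, rfl⟩ :
        {y : G | ∃ n ∈ N, n * x * n⁻¹ = y}))
      fun n m hnm => ?_) ⟨?_, ?_⟩)
  · rw [QuotientGroup.leftRel_apply, mem_subgroupOf, mem_centralizer_singleton_iff] at hnm
    simp only [Subgroup.coe_mul, Subgroup.coe_inv] at hnm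
    apply Subtype.ext
    calc (n : G) * x * (n : G)⁻¹ = (n : G) * (x * ((n : G)⁻¹ * (m : G))) * (m : G)⁻¹ := by group
      _ = (n : G) * (((n : G)⁻¹ * (m : G)) * x) * (m : G)⁻¹ := by rw [hnm]
      _ = (m : G) * x * (m : G)⁻¹ := by group
  · rintro ⟨n⟩ ⟨m⟩ e
    have e' : (n : G) * x * (n : G)⁻¹ = (m : G) * x * (m : G)⁻¹ := congrArg Subtype.val e
    refine Quotient.sound' ?_
    rw [QuotientGroup.leftRel_apply, mem_subgroupOf, mem_centralizer_singleton_iff]
    simp only [Subgroup.coe_mul, Subgroup.coe_inv]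
    calc (n : G)⁻¹ * (m : G) * x = (n : G)⁻¹ * ((m : G) * x * (m : G)⁻¹) * (m : G) := by group
      _ = x * ((n : G)⁻¹ * (m : G)) := by rw [← e']; group
  · rintro ⟨y, n, hn, hy⟩
    exact ⟨Quotient.mk'' ⟨n, hn⟩, Subtype.ext hy⟩

include h hN in
/-- Representatives of the orbits on the noncentral elements. -/
theorem Ext.exists_reps (he : ¬ 3 ∣ (innerGroup P).relIndex (normalizer (P : Set G))) :
    ∃ (c : ℕ) (X : Fin c → G),
      c * (innerGroup P).relIndex (normalizer (P : Set G)) = 8 ∧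
      (∀ j, X j ∈ P ∧ X j ∉ zpowers z) ∧
      (∀ i j, ∀ n ∈ normalizer (P : Set G), n * X i * n⁻¹ = X j → i = j) ∧
      ∀ x ∈ P, x ∉ zpowers z → ∃ j, ∃ n ∈ normalizer (P : Set G), n * X j * n⁻¹ = x := by
  classical
  haveI := Fintype.ofFinite G
  set N := normalizer (P : Set G) with hNdef
  set e := (innerGroup P).relIndex N with hedef
  let S : Finset G := Finset.univ.filter fun x => x ∈ P ∧ x ∉ zpowers z
  let orb : G → Finset G := fun x => Finset.univ.filter fun y => ∃ n ∈ N, n * x * n⁻¹ = y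
  have horb : ∀ {x y}, y ∈ orb x ↔ ∃ n ∈ N, n * x * n⁻¹ = y := fun {x y} => by simp [orb]
  have hself : ∀ x, x ∈ orb x := fun x => horb.2 ⟨1, one_mem N, by simp⟩
  have heq : ∀ {x y}, y ∈ orb x → orb y = orb x := by
    intro x y hy
    obtain ⟨n, hn, rfl⟩ := horb.1 hy
    ext w
    constructor
    · intro hw
      obtain ⟨m, hm, rfl⟩ := horb.1 hw
      exact horb.2 ⟨m * n, mul_mem hm hn, by group⟩
    · intro hw
      obtain ⟨m, hm, rfl⟩ := horb.1 hw
      exact horb.2 ⟨m * n⁻¹, mul_mem hm (inv_mem hn), by group⟩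
  have hsub : ∀ {x}, x ∈ S → orb x ⊆ S := by
    intro x hx y hy
    obtain ⟨hxP, hxz⟩ := (Finset.mem_filter.1 hx).2
    obtain ⟨n, hn, rfl⟩ := horb.1 hy
    refine Finset.mem_filter.2 ⟨Finset.mem_univ _, conj_mem_of_mem_normalizer hn hxP, fun hm => ?_⟩
    have e := commute_of_mem_zpowers (hN n⁻¹ (inv_mem hn)) hm
    rw [show n⁻¹ * (n * x * n⁻¹) * n⁻¹⁻¹ = x by group] at e
    exact hxz (e ▸ hm)
  set T := S.image orb with hT
  have hS24 : S.card = 24 := by
    have e1 : (Finset.univ.filter fun x : G => x ∈ P).card = 27 := by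
      rw [← h.card, Nat.card_eq_fintype_card, Fintype.card_subtype]
    have e2 : (Finset.univ.filter fun x : G => x ∈ zpowers z).card = 3 := by
      rw [← h.order, ← Nat.card_zpowers, Nat.card_eq_fintype_card, Fintype.card_subtype]
    have e3 : S = (Finset.univ.filter fun x : G => x ∈ P) \
        (Finset.univ.filter fun x : G => x ∈ zpowers z) := by
      ext x; simp [S]
    have e4 : (Finset.univ.filter fun x : G => x ∈ zpowers z) ⊆
        (Finset.univ.filter fun x : G => x ∈ P) :=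
      fun x hx => Finset.mem_filter.2 ⟨Finset.mem_univ _, h.zpowers_le (Finset.mem_filter.1 hx).2⟩
    rw [e3, Finset.card_sdiff_of_subset e4, e1, e2]
  have hcount : T.card * e = 8 := by
    have hfib : ∀ b ∈ T, (S.filter fun a => orb a = b).card = 3 * e := by
      intro b hb
      obtain ⟨x, hx, rfl⟩ := Finset.mem_image.1 hb
      obtain ⟨hxP, hxz⟩ := (Finset.mem_filter.1 hx).2
      have e1 : (S.filter fun a => orb a = orb x) = orb x := by
        ext a
        simp only [Finset.mem_filter]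
        exact ⟨fun ⟨_, ha⟩ => ha ▸ hself a, fun ha => ⟨hsub hx ha, heq ha⟩⟩
      rw [e1, hedef, ← h.card_orbit hN he hxP hxz, Nat.card_eq_fintype_card]
      exact (Fintype.card_subtype _).symm
    have hc := Finset.card_eq_sum_card_image orb S
    rw [Finset.sum_congr rfl hfib, Finset.sum_const, smul_eq_mul, hS24] at hc
    have : 3 * (T.card * e) = 24 := by rw [hc]; ring
    omega
  have hrep : ∀ b : T, ∃ x ∈ S, orb x = (b : Finset G) := fun b => Finset.mem_image.1 b.2
  choose r hrS hrb using hrep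
  refine ⟨T.card, fun j => r (T.equivFin.symm j), hcount,
    fun j => (Finset.mem_filter.1 (hrS _)).2, fun i j n hn hij => ?_, fun x hx hxz => ?_⟩
  · refine T.equivFin.symm.injective (Subtype.ext ?_)
    rw [← hrb, ← hrb]
    exact (heq (horb.2 ⟨n, hn, hij⟩)).symm
  · have hxS : x ∈ S := Finset.mem_filter.2 ⟨Finset.mem_univ x, hx, hxz⟩
    refine ⟨T.equivFin ⟨orb x, Finset.mem_image_of_mem orb hxS⟩, horb.1 ?_⟩
    simp only [Equiv.symm_apply_apply, hrb]
    exact hself x

end Cfsg.Lib.Block.ExtraThree
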