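import Cfsg.Agent.Lib.Block.ExtraThree.Rows

/-!
# The characters carried by the vectors of norm two and three

Vectors with the inner products of the generators coming from the centralizer of the centre have
their supports outside the rows of units, up to one forced pattern.
-/

set_option autoImplicit false
set_option linter.unusedSectionVars false

namespace Cfsg.Lib.Block.ExtraThree

open Finset

universe u v

variable {ι : Type u} [DecidableEq ι] [Fintype ι] {κ : Type v} [DecidableEq κ] [Fintype κ]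
  {S : Finset ι} {c : ℕ} {d : Fin c → ι → ℤ} {τ : ι} {deg : ι → ℤ} {A C : κ → ι → ℤ} {u₀ : κ}

/-- The data of the transported generators. -/
structure Vecs (S : Finset ι) (c : ℕ) (d : Fin c → ι → ℤ) (τ : ι) (deg : ι → ℤ)
    (A C : κ → ι → ℤ) (u₀ : κ) : Prop where
  cols : Cols S c d τ deg
  out : ∀ j χ, χ ∉ S → d j χ = 0
  pos : ∀ χ, 0 < deg χ
  card_add : Fintype.card κ + c = 6
  hc : c = 1 ∨ c = 2 ∨ c = 4
  AA : ∀ u v, ∑ χ, A u χ * A v χ = if u = v then 3 else 1
  AC : ∀ u v, ∑ χ, A u χ * C v χ = if u = v then 1 else 0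
  CC : ∀ u v, ∑ χ, C u χ * C v χ = if u = v then 2 else 0
  Ad : ∀ u j, ∑ χ, A u χ * d j χ = if (j : ℕ) = 0 then -3 else 0
  Cd : ∀ u j, ∑ χ, C u χ * d j χ = 0
  Cdeg : ∀ u, ∑ χ, C u χ * deg χ = 0
  Atau : ∀ u, A u τ = if u = u₀ then -1 else 0
  Ctau : ∀ u, C u τ = 0

/-- The chosen supports of the vectors of norm two. -/
structure Named (A C : κ → ι → ℤ) (τ : ι) (E F : κ → ι) : Prop where
  ne : ∀ u v, E u ≠ F v
  injE : Function.Injective E
  injF : Function.Injective F
  unit : ∀ u, A u (E u) = 1 ∨ A u (E u) = -1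
  Fzero : ∀ u, A u (F u) = 0
  other : ∀ u v, u ≠ v → A u (E v) = A u (F v)
  Czero : ∀ u χ, χ ≠ E u → χ ≠ F u → C u χ = 0
  ne_tau : ∀ u, E u ≠ τ ∧ F u ≠ τ

theorem sum_pair_support {f g : ι → ℤ} {a b : ι} (hab : a ≠ b) (ha : f a = 1) (hb : f b = -1)
    (h0 : ∀ i, i ≠ a → i ≠ b → f i = 0) : ∑ i, g i * f i = g a - g b := by
  rw [← Finset.sum_subset (Finset.subset_univ {a, b}) (fun i _ hi => by
    simp only [Finset.mem_insert, Finset.mem_singleton, not_or] at hi
    rw [h0 i hi.1 hi.2, mul_zero]), Finset.sum_pair hab, ha, hb]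
  ring

theorem Vecs.exists_named (V : Vecs S c d τ deg A C u₀) :
    ∃ E F, Named A C τ E F ∧ ∀ u j, d j (E u) = d j (F u) := by
  choose a b hab hdeg ha hb h0 using fun u =>
    norm_two (f := C u) (deg := deg) (by rw [V.CC u u, if_pos rfl]) (V.Cdeg u) V.pos
  have hs : ∀ u (g : ι → ℤ), ∑ i, g i * C u i = g (a u) - g (b u) := fun u g =>
    sum_pair_support (hab u) (ha u) (hb u) (h0 u)
  have hzero : ∀ u i, C u i ≠ 0 → i = a u ∨ i = b u := fun u i hi => by
    by_contra h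
    exact hi (h0 u i (fun e => h (Or.inl e)) fun e => h (Or.inr e))
  have hdis : ∀ u v, u ≠ v → a u ≠ a v ∧ a u ≠ b v ∧ b u ≠ a v ∧ b u ≠ b v := by
    intro u v huv
    have h := V.CC u v
    rw [if_neg huv, hs v (C u)] at h
    have key : C u (a v) = 0 ∧ C u (b v) = 0 := by
      by_cases hz : C u (a v) = 0
      · exact ⟨hz, by omega⟩
      · exfalso
        have hz' : C u (b v) ≠ 0 := by omega
        rcases hzero u _ hz with e | e <;> rcases hzero u _ hz' with e' | e' <;>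
          rw [e, e'] at h
        · exact hab v (e.trans e'.symm)
        · rw [ha, hb] at h; omega
        · rw [ha, hb] at h; omega
        · exact hab v (e.trans e'.symm)
    refine ⟨?_, ?_, ?_, ?_⟩ <;> intro e
    · have := key.1; rw [← e, ha] at this; omega
    · have := key.2; rw [← e, ha] at this; omega
    · have := key.1; rw [← e, hb] at this; omega
    · have := key.2; rw [← e, hb] at this; omega
  have hA : ∀ u, (A u (a u) = 1 ∧ A u (b u) = 0) ∨ (A u (a u) = 0 ∧ A u (b u) = -1) := by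
    intro u
    have h := V.AC u u
    rw [if_pos rfl, hs u (A u)] at h
    obtain ⟨hb', -⟩ := support_card (f := A u) (n := 3) le_rfl (by rw [V.AA u u, if_pos rfl]; rfl)
    rcases hb' (a u) with e | e | e <;> rcases hb' (b u) with e' | e' | e' <;> omega
  have hτ : ∀ u, a u ≠ τ ∧ b u ≠ τ := fun u =>
    ⟨fun e => by have := V.Ctau u; rw [← e, ha] at this; omega,
     fun e => by have := V.Ctau u; rw [← e, hb] at this; omega⟩
  let E : κ → ι := fun u => if A u (b u) = 0 then a u else b u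
  let F : κ → ι := fun u => if A u (b u) = 0 then b u else a u
  have hmem : ∀ u, (E u = a u ∧ F u = b u) ∨ (E u = b u ∧ F u = a u) := fun u => by
    by_cases h : A u (b u) = 0 <;> simp [E, F, h]
  refine ⟨E, F, ⟨fun u v => ?_, fun u v e => ?_, fun u v e => ?_, fun u => ?_, fun u => ?_,
    fun u v huv => ?_, fun u χ h1 h2 => ?_, fun u => ?_⟩, fun u j => ?_⟩
  · by_cases huv : u = v
    · subst huv
      rcases hmem u with ⟨e, e'⟩ | ⟨e, e'⟩ <;> rw [e, e']
      exacts [hab u, (hab u).symm]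
    · obtain ⟨h1, h2, h3, h4⟩ := hdis u v huv
      rcases hmem u with ⟨e, -⟩ | ⟨e, -⟩ <;> rcases hmem v with ⟨-, e'⟩ | ⟨-, e'⟩ <;>
        rw [e, e'] <;> assumption
  · by_contra huv
    obtain ⟨h1, h2, h3, h4⟩ := hdis u v huv
    rcases hmem u with ⟨f, -⟩ | ⟨f, -⟩ <;> rcases hmem v with ⟨f', -⟩ | ⟨f', -⟩ <;>
      rw [f, f'] at e <;> contradiction
  · by_contra huv
    obtain ⟨h1, h2, h3, h4⟩ := hdis u v huv
    rcases hmem u with ⟨-, f⟩ | ⟨-, f⟩ <;> rcases hmem v with ⟨-, f'⟩ | ⟨-, f'⟩ <;>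
      rw [f, f'] at e <;> contradiction
  · rcases hA u with ⟨e, e'⟩ | ⟨e, e'⟩ <;> simp [E, e, e']
  · rcases hA u with ⟨e, e'⟩ | ⟨e, e'⟩ <;> simp [F, e, e']
  · have h := V.AC u v
    rw [if_neg huv, hs v (A u)] at h
    rcases hmem v with ⟨f, f'⟩ | ⟨f, f'⟩ <;> rw [f, f'] <;> omega
  · rcases hmem u with ⟨f, f'⟩ | ⟨f, f'⟩ <;> rw [f] at h1 <;> rw [f'] at h2
    exacts [h0 u χ h1 h2, h0 u χ h2 h1]
  · rcases hmem u with ⟨f, f'⟩ | ⟨f, f'⟩ <;> rw [f, f']
    exacts [hτ u, (hτ u).symm]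
  · have h := V.Cd u j
    rw [Finset.sum_congr rfl fun χ _ => mul_comm (C u χ) (d j χ), hs u (d j)] at h
    rcases hmem u with ⟨f, f'⟩ | ⟨f, f'⟩ <;> rw [f, f'] <;> omega

/-- The third member of a support of norm three. -/
theorem exists_third {f : ι → ℤ} (h : ∑ i, f i * f i = 3) {x y : ι} (hxy : x ≠ y) (hx : f x ≠ 0)
    (hy : f y ≠ 0) :
    ∃ z, z ≠ x ∧ z ≠ y ∧ (f z = 1 ∨ f z = -1) ∧ (∀ i, i ≠ x → i ≠ y → i ≠ z → f i = 0) ∧
      ∀ g : ι → ℤ, ∑ i, f i * g i = f x * g x + f y * g y + f z * g z := by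
  obtain ⟨hb, hcard⟩ := support_card (f := f) (n := 3) le_rfl (by rw [h]; rfl)
  set T := Finset.univ.filter fun i => f i ≠ 0 with hT
  have hxT : x ∈ T := Finset.mem_filter.2 ⟨Finset.mem_univ _, hx⟩
  have hyT : y ∈ T.erase x := Finset.mem_erase.2 ⟨hxy.symm, Finset.mem_filter.2
    ⟨Finset.mem_univ _, hy⟩⟩
  have h2 : ((T.erase x).erase y).card = 1 := by
    rw [Finset.card_erase_of_mem hyT, Finset.card_erase_of_mem hxT, hcard]
  obtain ⟨z, hz⟩ := Finset.card_eq_one.1 h2
  have hzT : z ∈ (T.erase x).erase y := hz ▸ Finset.mem_singleton_self z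
  simp only [Finset.mem_erase, ne_eq] at hzT
  obtain ⟨hzy, hzx, hzm⟩ := hzT
  have hz0 : f z ≠ 0 := (Finset.mem_filter.1 hzm).2
  refine ⟨z, hzx, hzy, (hb z).resolve_left hz0, fun i h1 h2 h3 => ?_, fun g => ?_⟩
  · by_contra hne
    have : i ∈ (T.erase x).erase y := Finset.mem_erase.2 ⟨h2, Finset.mem_erase.2 ⟨h1,
      Finset.mem_filter.2 ⟨Finset.mem_univ _, hne⟩⟩⟩
    rw [hz, Finset.mem_singleton] at this
    exact h3 this
  · rw [sum_mul_support, ← hT, ← Finset.add_sum_erase _ _ hxT, ← Finset.add_sum_erase _ _ hyT, hz,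
      Finset.sum_singleton]
    ring

/-- The normalized entries of a row of the shape. -/
theorem Shape.abs_one {R : Fin c → ι} (H : Shape S c d τ deg R) {χ : ι} (hχ : χ ∈ S) {j : Fin c}
    (h : χ ≠ R j) : d j χ = 1 ∨ d j χ = -1 := by
  have e := H.val χ hχ j
  rw [if_neg h] at e
  rcases sgn_cases (deg χ) with s | s <;> rw [s] at e <;> omega

theorem Shape.eq_of_two (V : Vecs S c d τ deg A C u₀) {R : Fin c → ι} (H : Shape S c d τ deg R)
    {χ : ι} {j : Fin c} (h : d j χ = 2 ∨ d j χ = -2) : χ = R j := by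
  by_cases hχ : χ ∈ S
  · by_contra hne
    rcases H.abs_one hχ hne with e | e <;> omega
  · have := V.out j χ hχ; omega

theorem Shape.at_R {R : Fin c → ι} (H : Shape S c d τ deg R) (j : Fin c) :
    d j (R j) = 2 ∨ d j (R j) = -2 := by
  have e := H.val (R j) (H.mem j) j
  rw [if_pos rfl] at e
  rcases sgn_cases (deg (R j)) with s | s <;> rw [s] at e <;> omega

/-- The rows different from all special ones. -/
theorem Shape.card_plain {R : Fin c → ι} (H : Shape S c d τ deg R) {T : Finset ι}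
    (hT : T ⊆ S) (hR : ∀ j, R j ∉ T) : T.card + c ≤ 6 := by
  classical
  have h : Disjoint T (Finset.univ.image R) := by
    refine Finset.disjoint_left.2 fun x hx hx' => ?_
    obtain ⟨j, -, rfl⟩ := Finset.mem_image.1 hx'
    exact hR j hx
  have hle := Finset.card_le_card (Finset.union_subset hT (Finset.image_subset_iff.2
    fun j _ => H.mem j) : T ∪ Finset.univ.image R ⊆ S)
  rw [Finset.card_union_of_disjoint h, Finset.card_image_of_injective _ H.inj, Finset.card_univ,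
    Fintype.card_fin, H.card] at hle
  exact hle

section Argument

variable (V : Vecs S c d τ deg A C u₀) {E F : κ → ι} (N : Named A C τ E F)
  (hdEF : ∀ u j, d j (E u) = d j (F u))

include V in
theorem Vecs.small (j : Fin c) (χ : ι) : -2 ≤ d j χ ∧ d j χ ≤ 2 := by
  by_cases h : χ ∈ S
  · rcases V.cols.entry h j with e | e <;> rcases sgn_cases (deg χ) with s | s <;>
      rw [s] at e <;> omega
  · rw [V.out j χ h]; omega

include V in
theorem Vecs.mem_of_ne {j : Fin c} {χ : ι} (h : d j χ ≠ 0) : χ ∈ S := by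
  by_contra hχ; exact h (V.out j χ hχ)

include V in
theorem Vecs.ne_zero {χ : ι} (hχ : χ ∈ S) (j : Fin c) : d j χ ≠ 0 := by
  rcases V.cols.entry hχ j with e | e <;> intro h <;> rw [h, mul_zero] at e <;> omega

include V in
theorem Vecs.mem_F (u : κ) (hdEF : ∀ u j, d j (E u) = d j (F u)) (h : E u ∈ S) : F u ∈ S :=
  V.mem_of_ne (j := ⟨0, V.cols.pos⟩) (by rw [← hdEF]; exact V.ne_zero h _)

include V N hdEF in
theorem plain_pair {R : Fin c → ι} (H : Shape S c d τ deg R) {u : κ} (hu : E u ∈ S) (j : Fin c) :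
    E u ≠ R j ∧ F u ≠ R j := by
  have key : E u = R j ↔ F u = R j := by
    constructor <;> intro e
    · exact H.eq_of_two V (by rw [← hdEF, e]; exact H.at_R j)
    · exact H.eq_of_two V (by rw [hdEF, e]; exact H.at_R j)
  constructor <;> intro e
  · exact N.ne u u (e.trans (key.1 e).symm)
  · exact N.ne u u ((key.2 e).trans e.symm)

include V N hdEF in
theorem abs_one_pair {u : κ} (hu : E u ∈ S) (j : Fin c) : d j (E u) = 1 ∨ d j (E u) = -1 := by
  rcases V.cols.shape with ⟨R, H⟩ | ⟨-, -, h9⟩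
  · exact H.abs_one hu (plain_pair V N hdEF H hu j).1
  · have e := h9 (E u) hu j
    rcases sgn_cases (deg (E u)) with s | s <;> rw [s] at e <;> omega

include V N hdEF in
theorem const_pair {u : κ} (hu : E u ∈ S) (i j : Fin c) : d i (E u) = d j (E u) := by
  rcases V.cols.shape with ⟨R, H⟩ | ⟨h1, -, -⟩
  · have ei := H.val _ hu i
    have ej := H.val _ hu j
    rw [if_neg (plain_pair V N hdEF H hu i).1] at ei
    rw [if_neg (plain_pair V N hdEF H hu j).1] at ej
    rw [eq_sgn_mul ei, eq_sgn_mul ej]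
  · subst h1
    rw [Subsingleton.elim i j]

include V N in
theorem exists_base :
    ∃ g, g ≠ τ ∧ g ≠ E u₀ ∧ (∀ v, g ≠ F v) ∧ (∀ v, g ≠ E v) ∧
      (A u₀ g = 1 ∨ A u₀ g = -1) ∧ (∀ i, i ≠ τ → i ≠ E u₀ → i ≠ g → A u₀ i = 0) ∧
      ∀ f : ι → ℤ, ∑ i, A u₀ i * f i =
        A u₀ (E u₀) * f (E u₀) + -1 * f τ + A u₀ g * f g := by
  have hn : ∑ i, A u₀ i * A u₀ i = 3 := by rw [V.AA, if_pos rfl]
  have hτ : A u₀ τ = -1 := by rw [V.Atau, if_pos rfl]
  obtain ⟨g, hgE, hgτ, hg, h0, hsum⟩ := exists_third hn (N.ne_tau u₀).1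
    (by rcases N.unit u₀ with e | e <;> omega) (by omega)
  have hgF0 : g ≠ F u₀ := fun e => by have := N.Fzero u₀; rw [← e] at this; omega
  have hne : ∀ v, g ≠ F v ∧ g ≠ E v := by
    intro v
    by_cases hv : v = u₀
    · subst hv; exact ⟨hgF0, hgE⟩
    · have e := N.other u₀ v (Ne.symm hv)
      constructor <;> intro h <;> subst h
      · have : A u₀ (E v) = 0 := h0 _ (fun e' => hv (N.injE e')) (N.ne_tau v).1 (N.ne v v)
        omega
      · have : A u₀ (F v) = 0 := h0 _ (fun e' => N.ne u₀ v e'.symm) (N.ne_tau v).2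
          (N.ne v v).symm
        omega
  exact ⟨g, hgτ, hgE, fun v => (hne v).1, fun v => (hne v).2, hg,
    fun i h1 h2 h3 => h0 i h2 h1 h3, fun f => by rw [hsum f, hτ]⟩

end Argument

end Cfsg.Lib.Block.ExtraThree
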