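import Cfsg.Agent.Lib.Block.ExtraThree.Outside

/-!
# The supports lie outside the rows of units
-/

set_option autoImplicit false
set_option linter.unusedSectionVars false

namespace Cfsg.Lib.Block.ExtraThree

open Finset

universe u v

variable {ι : Type u} [DecidableEq ι] [Fintype ι] {κ : Type v} [DecidableEq κ] [Fintype κ]
  {S : Finset ι} {c : ℕ} {d : Fin c → ι → ℤ} {τ : ι} {deg : ι → ℤ} {A C : κ → ι → ℤ} {u₀ : κ}
  (V : Vecs S c d τ deg A C u₀) {E F : κ → ι} (N : Named A C τ E F)
  (hdEF : ∀ u j, d j (E u) = d j (F u)) {g : ι} (hgτ : g ≠ τ) (hgE : g ≠ E u₀)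
  (hgF : ∀ v, g ≠ F v) (hgEv : ∀ v, g ≠ E v) (hg : A u₀ g = 1 ∨ A u₀ g = -1)
  (hsum : ∀ f : ι → ℤ, ∑ i, A u₀ i * f i =
        A u₀ (E u₀) * f (E u₀) + -1 * f τ + A u₀ g * f g)

include V hsum in
theorem base_eq (j : Fin c) :
    A u₀ (E u₀) * d j (E u₀) + A u₀ g * d j g = if (j : ℕ) = 0 then -2 else 1 := by
  have h := V.Ad u₀ j
  rw [hsum, V.cols.tau] at h
  split_ifs with h0
  · rw [if_pos h0] at h; linarith
  · rw [if_neg h0] at h; linarith

include V N hsum in
theorem pair_inner {v : κ} (hv : v ≠ u₀) :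
    A u₀ (E u₀) * A v (E u₀) + A u₀ g * A v g = 1 := by
  have h := V.AA u₀ v
  rw [if_neg (Ne.symm hv), hsum, V.Atau, if_neg hv, mul_zero, add_zero] at h
  exact h

include V N hgE hgF hgEv in
/-- A vector of norm three meeting the first pair. -/
theorem pair_case {v : κ} (hv : v ≠ u₀) (hq : A v (E u₀) ≠ 0) :
    (∀ i, i ≠ E v → i ≠ E u₀ → i ≠ F u₀ → A v i = 0) ∧ A v g = 0 ∧
      ∀ f : ι → ℤ, ∑ i, A v i * f i =
        A v (E v) * f (E v) + A v (E u₀) * f (E u₀) + A v (F u₀) * f (F u₀) := by
  have hn : ∑ i, A v i * A v i = 3 := by rw [V.AA, if_pos rfl]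
  have hF : A v (F u₀) ≠ 0 := by rw [← N.other v u₀ hv]; exact hq
  have hEE : E v ≠ E u₀ := fun e => hv (N.injE e)
  obtain ⟨z, -, -, -, h0, hs⟩ := exists_third hn hEE
    (by rcases N.unit v with e | e <;> omega) hq
  have hz : z = F u₀ := by
    by_contra h
    exact hF (h0 _ (N.ne v u₀).symm (N.ne u₀ u₀).symm (Ne.symm h))
  subst hz
  exact ⟨h0, h0 g (hgEv v) hgE (hgF u₀), hs⟩

include V N hgF hgEv in
/-- A vector of norm three meeting `g`. -/
theorem hook_case {v : κ} (hv : v ≠ u₀) (hq : A v (E u₀) = 0) (hgv : A v g = A u₀ g)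
    (hg : A u₀ g = 1 ∨ A u₀ g = -1) :
    ∃ h, h ≠ g ∧ h ≠ τ ∧ (∀ w, h ≠ F w) ∧ (∀ w, h ≠ E w) ∧ (A v h = 1 ∨ A v h = -1) ∧
      (∀ i, i ≠ E v → i ≠ g → i ≠ h → A v i = 0) ∧
      (∀ f : ι → ℤ, ∑ i, A v i * f i = A v (E v) * f (E v) + A v g * f g + A v h * f h) := by
  have hn : ∑ i, A v i * A v i = 3 := by rw [V.AA, if_pos rfl]
  obtain ⟨h, hhE, hhg, hh, h0, hs⟩ := exists_third hn (hgEv v).symm
    (by rcases N.unit v with e | e <;> omega) (by omega)
  have hne : ∀ w, h ≠ F w ∧ h ≠ E w := by
    intro w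
    by_cases hw : w = v
    · subst hw
      exact ⟨fun e => by have := N.Fzero w; rw [← e] at this; omega, hhE⟩
    · have e := N.other v w (Ne.symm hw)
      constructor <;> intro e' <;> subst e'
      · by_cases hge : E w = g
        · exact hgEv w hge.symm
        · have : A v (E w) = 0 := h0 _ (fun e'' => hw (N.injE e'')) hge (N.ne w w)
          omega
      · by_cases hge : F w = g
        · exact hgF w hge.symm
        · have : A v (F w) = 0 := h0 _ (fun e'' => N.ne v w e''.symm) hge (N.ne w w).symm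
          omega
  refine ⟨h, hhg, fun e => ?_, fun w => (hne w).1, fun w => (hne w).2, hh, h0, hs⟩
  have := V.Atau v
  rw [if_neg hv, ← e] at this
  omega


theorem exists_ne_two (V : Vecs S c d τ deg A C u₀) (hc1 : c = 1) (v : κ) :
    ∃ w, w ≠ u₀ ∧ w ≠ v := by
  have h := V.card_add
  have hlt : ({u₀, v} : Finset κ).card < (Finset.univ : Finset κ).card :=
    lt_of_le_of_lt (Finset.card_le_two) (by rw [Finset.card_univ]; omega)
  obtain ⟨w, -, hw⟩ := Finset.exists_mem_notMem_of_card_lt_card hlt
  simp only [Finset.mem_insert, Finset.mem_singleton, not_or] at hw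
  exact ⟨w, hw.1, hw.2⟩

include V N hdEF hgτ hgE hgF hgEv hg hsum in
theorem base_notMem : E u₀ ∉ S := by
  intro hE
  have hFS := V.mem_F u₀ hdEF hE
  have habs := abs_one_pair V N hdEF hE
  have hconst := const_pair V N hdEF hE
  let j₀ : Fin c := ⟨0, V.cols.pos⟩
  have e0 := base_eq V hsum j₀
  rw [if_pos (show (j₀ : ℕ) = 0 from rfl)] at e0
  have hsm := V.small j₀ g
  have hv0 : A u₀ (E u₀) * d j₀ (E u₀) = -1 ∧ A u₀ g * d j₀ g = -1 := by
    rcases N.unit u₀ with e | e <;> rcases hg with e' | e' <;> rcases habs j₀ with f | f <;>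
      rw [e, e', f] at e0 ⊢ <;> omega
  have hgS : g ∈ S := V.mem_of_ne (j := j₀) fun h => by
    have := hv0.2; rw [h, mul_zero] at this; omega
  have hoth : ∀ j : Fin c, (j : ℕ) ≠ 0 → A u₀ g * d j g = 2 := by
    intro j hj
    have e := base_eq V hsum j
    rw [if_neg hj, hconst j j₀, hv0.1] at e
    linarith
  have hgall : ∀ j : Fin c, A u₀ g * d j g = if (j : ℕ) = 0 then -1 else 2 := by
    intro j
    split_ifs with h
    · rw [show j = j₀ from Fin.ext h]; exact hv0.2
    · exact hoth j h
  -- pairs are impossible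
  have hhook : ∀ v, v ≠ u₀ → A v (E u₀) = 0 := by
    intro v hv
    by_contra hq
    obtain ⟨h0, hvg, hs⟩ := pair_case V N hgE hgF hgEv hv hq
    have hi := pair_inner V N hsum hv
    rw [hvg, mul_zero, add_zero] at hi
    have hqd : ∀ j, A v (E v) * d j (E v) + 2 * (A u₀ (E u₀) * d j (E u₀)) =
        if (j : ℕ) = 0 then -3 else 0 := fun j => by
      have e := V.Ad v j
      rw [hs, ← N.other v u₀ hv, ← hdEF u₀ j] at e
      have hAv : A v (E u₀) = A u₀ (E u₀) := by
        rcases N.unit u₀ with f | f <;> rw [f] at hi ⊢ <;> omega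
      rw [hAv] at e
      rw [← e]; ring
    by_cases hc1 : c = 1
    · obtain ⟨w, hw, hwv⟩ := exists_ne_two V hc1 v
      by_cases hqw : A w (E u₀) = 0
      · have hiw := pair_inner V N hsum hw
        rw [hqw, mul_zero, zero_add] at hiw
        have hwg : A w g = A u₀ g := by
          rcases hg with f | f <;> rw [f] at hiw ⊢ <;> omega
        obtain ⟨h, -, -, hF', hE', -, h0', -⟩ := hook_case V N hgF hgEv hw hqw hwg hg
        have h1 : A w (E v) = 0 :=
          h0' _ (fun e => hwv (N.injE e).symm) (hgEv v).symm (hE' v).symm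
        have hF0 : A w (F u₀) = 0 := by rw [← N.other w u₀ hw]; exact hqw
        have hAA := V.AA v w
        rw [if_neg (Ne.symm hwv), hs, h1, hqw, hF0] at hAA
        simp at hAA
      · obtain ⟨h0', -, -⟩ := pair_case V N hgE hgF hgEv hw hqw
        have h1 : A w (E v) = 0 :=
          h0' _ (fun e => hwv (N.injE e).symm) (fun e => hv (N.injE e)) (N.ne v u₀)
        have hiw := pair_inner V N hsum hw
        rw [show A w g = 0 from (pair_case V N hgE hgF hgEv hw hqw).2.1, mul_zero, add_zero] at hiw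
        have hAA := V.AA v w
        rw [if_neg (Ne.symm hwv), hs, h1, ← N.other w u₀ hw, ← N.other v u₀ hv] at hAA
        rcases N.unit u₀ with f | f <;> rw [f] at hiw hi <;>
          simp only [one_mul, neg_mul, neg_eq_iff_eq_neg] at hiw hi <;>
          rw [hiw, hi] at hAA <;> norm_num at hAA
    · have hc2 : 2 ≤ c := by have := V.cols.pos; omega
      let j₁ : Fin c := ⟨1, hc2⟩
      have e1 := hqd j₁
      rw [if_neg (by simp [j₁]), hconst j₁ j₀, hv0.1] at e1
      have hne : d j₁ (E v) ≠ 0 := fun h => by rw [h, mul_zero] at e1; omega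
      rcases abs_one_pair V N hdEF (V.mem_of_ne hne) j₁ with f | f <;>
        rcases N.unit v with f' | f' <;> rw [f, f'] at e1 <;> omega
  -- every further vector is a hook
  have hdata : ∀ v, v ≠ u₀ → ∃ h, h ≠ g ∧ (∀ w, h ≠ E w) ∧ A v g = A u₀ g ∧
      (∀ i, i ≠ E v → i ≠ g → i ≠ h → A v i = 0) ∧
      (∀ f : ι → ℤ, ∑ i, A v i * f i = A v (E v) * f (E v) + A v g * f g + A v h * f h) ∧
      (A v h = 1 ∨ A v h = -1) ∧
      ∀ j : Fin c, A v (E v) * d j (E v) + A v h * d j h = -2 := by
    intro v hv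
    have hiv := pair_inner V N hsum hv
    rw [hhook v hv, mul_zero, zero_add] at hiv
    have hvg : A v g = A u₀ g := by rcases hg with f | f <;> rw [f] at hiv ⊢ <;> omega
    obtain ⟨h, hhg, -, -, hE', hh, h0, hs⟩ := hook_case V N hgF hgEv hv (hhook v hv) hvg hg
    refine ⟨h, hhg, hE', hvg, h0, hs, hh, fun j => ?_⟩
    have e := V.Ad v j
    rw [hs, hvg, hgall j] at e
    split_ifs at e <;> linarith
  choose h hhg hhE hvg h0 hs hh hrel using hdata
  rcases V.cols.shape with ⟨R, H⟩ | ⟨hc1, h9, -⟩
  · -- six rows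
    have hplain : ∀ v, E v ∈ S → ∀ j, E v ≠ R j ∧ F v ≠ R j := fun v hvS =>
      plain_pair V N hdEF H hvS
    have hτR : ∀ j, τ ≠ R j := fun j => (H.ne_tau j).symm
    have hEout : ∀ v, v ≠ u₀ → E v ∉ S := by
      intro v hv hvS
      have hFv := V.mem_F v hdEF hvS
      by_cases hc1 : c = 1
      · have hg1 : ∀ j, g ≠ R j := fun j e => by
          have hj : j = j₀ := Fin.ext (by have := j.2; show (j : ℕ) = 0; omega)
          subst hj
          rcases H.at_R j₀ with f | f <;> rcases hg with f' | f' <;>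
            rw [← e] at f <;> have := hv0.2 <;> rw [f, f'] at this <;> omega
        have hT : ({τ, E u₀, F u₀, g, E v, F v} : Finset ι) ⊆ S := by
          simp [Finset.insert_subset_iff, V.cols.tau_mem, hE, hFS, hgS, hvS, hFv]
        have hle := H.card_plain hT fun j => by
          simp [(hτR j).symm, ((hplain u₀ hE j).1).symm, ((hplain u₀ hE j).2).symm, (hg1 j).symm,
            ((hplain v hvS j).1).symm, ((hplain v hvS j).2).symm]
        have hcard : ({τ, E u₀, F u₀, g, E v, F v} : Finset ι).card = 6 := by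
          repeat' rw [Finset.card_insert_of_notMem]
          · simp
          all_goals simp only [Finset.mem_insert, Finset.mem_singleton, not_or]
          · exact N.ne v v
          · exact ⟨hgEv v, hgF v⟩
          · exact ⟨(hgF u₀).symm, (N.ne v u₀).symm, fun e => hv (N.injF e).symm⟩
          · exact ⟨N.ne u₀ u₀, hgE.symm, fun e => hv (N.injE e).symm, N.ne u₀ v⟩
          · exact ⟨(N.ne_tau u₀).1.symm, (N.ne_tau u₀).2.symm, hgτ.symm, (N.ne_tau v).1.symm,
              (N.ne_tau v).2.symm⟩
        omega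
      · have hT : ({τ, E u₀, F u₀, E v, F v} : Finset ι) ⊆ S := by
          simp [Finset.insert_subset_iff, V.cols.tau_mem, hE, hFS, hvS, hFv]
        have hle := H.card_plain hT fun j => by
          simp [(hτR j).symm, ((hplain u₀ hE j).1).symm, ((hplain u₀ hE j).2).symm,
            ((hplain v hvS j).1).symm, ((hplain v hvS j).2).symm]
        have hcard : ({τ, E u₀, F u₀, E v, F v} : Finset ι).card = 5 := by
          repeat' rw [Finset.card_insert_of_notMem]
          · simp
          all_goals simp only [Finset.mem_insert, Finset.mem_singleton, not_or]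
          · exact N.ne v v
          · exact ⟨(N.ne v u₀).symm, fun e => hv (N.injF e).symm⟩
          · exact ⟨N.ne u₀ u₀, fun e => hv (N.injE e).symm, N.ne u₀ v⟩
          · exact ⟨(N.ne_tau u₀).1.symm, (N.ne_tau u₀).2.symm, (N.ne_tau v).1.symm,
              (N.ne_tau v).2.symm⟩
        have := V.cols.pos
        omega
    have htwo : ∀ v (hv : v ≠ u₀) j, A v (h v hv) * d j (h v hv) = -2 := fun v hv j => by
      have e := hrel v hv j
      rw [V.out j _ (hEout v hv), mul_zero, zero_add] at e
      exact e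
    have hR : ∀ v (hv : v ≠ u₀) j, h v hv = R j := fun v hv j => H.eq_of_two V (by
      have e := htwo v hv j
      rcases hh v hv with f | f <;> rw [f] at e <;> omega)
    obtain ⟨v, hv⟩ : ∃ v, v ≠ u₀ := by
      have hlt : ({u₀} : Finset κ).card < (Finset.univ : Finset κ).card := by
        rw [Finset.card_univ, Finset.card_singleton]
        have := V.card_add
        rcases V.hc with e | e | e <;> omega
      obtain ⟨w, -, hw⟩ := Finset.exists_mem_notMem_of_card_lt_card hlt
      exact ⟨w, fun e => hw (Finset.mem_singleton.2 e)⟩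
    by_cases hc1 : c = 1
    · obtain ⟨w, hw, hwv⟩ := exists_ne_two V hc1 v
      have hsame : h v hv = h w hw := by rw [hR v hv j₀, hR w hw j₀]
      have hA : A v (h v hv) = A w (h v hv) := by
        have e := htwo v hv j₀
        have e' := htwo w hw j₀
        rw [← hsame] at e'
        rcases hh v hv with f | f <;> rcases hh w hw with f' | f' <;>
          rw [← hsame] at f' <;> rw [f] at e ⊢ <;> rw [f'] at e' ⊢ <;> omega
      have hEv0 : A w (E v) = 0 := h0 w hw _ (fun e => hwv (N.injE e).symm) (hgEv v).symm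
        (hhE w hw v).symm
      have hAA := V.AA v w
      rw [if_neg (Ne.symm hwv), hs v hv, hEv0, mul_zero, zero_add, hvg v hv, hvg w hw, ← hA] at hAA
      rcases hg with f | f <;> rcases hh v hv with f' | f' <;> rw [f, f'] at hAA <;> omega
    · have hc2 : 2 ≤ c := by have := V.cols.pos; omega
      have := H.inj ((hR v hv j₀).symm.trans (hR v hv ⟨1, hc2⟩))
      simp [j₀, Fin.ext_iff] at this
  · -- nine units
    have hall : ∀ v, E v ∈ S ∧ F v ∈ S := by
      intro v
      by_cases hv : v = u₀
      · subst hv; exact ⟨hE, hFS⟩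
      have hEv : E v ∈ S := by
        by_contra hn
        have e := hrel v hv j₀
        rw [V.out j₀ _ hn, mul_zero, zero_add] at e
        have hhS : h v hv ∈ S := V.mem_of_ne (j := j₀) fun e' => by
          rw [e', mul_zero] at e; omega
        rcases V.cols.shape with ⟨R, H⟩ | ⟨-, -, h9'⟩
        · have := H.card; omega
        · have e' := h9' _ hhS j₀
          rcases sgn_cases (deg (h v hv)) with f | f <;> rw [f] at e' <;>
            rcases hh v hv with f' | f' <;> rw [f'] at e <;> omega
      exact ⟨hEv, V.mem_F v hdEF hEv⟩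
    have hsub : insert τ (Finset.univ.image E ∪ Finset.univ.image F) ⊆ S := by
      refine Finset.insert_subset V.cols.tau_mem (Finset.union_subset ?_ ?_) <;>
        refine Finset.image_subset_iff.2 fun v _ => ?_
      exacts [(hall v).1, (hall v).2]
    have hcard := Finset.card_le_card hsub
    rw [Finset.card_insert_of_notMem (by
        simp only [Finset.mem_union, Finset.mem_image, Finset.mem_univ, true_and, not_or,
          not_exists]
        exact ⟨fun v => (N.ne_tau v).1, fun v => (N.ne_tau v).2⟩),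
      Finset.card_union_of_disjoint (Finset.disjoint_left.2 fun x hx hx' => by
        obtain ⟨a, -, rfl⟩ := Finset.mem_image.1 hx
        obtain ⟨b, -, e⟩ := Finset.mem_image.1 hx'
        exact N.ne a b e.symm),
      Finset.card_image_of_injective _ N.injE, Finset.card_image_of_injective _ N.injF,
      Finset.card_univ, h9] at hcard
    have := V.card_add
    omega

/-- The characters of the pairs lie outside the rows, and nothing else meets the vectors. -/
theorem outside (V : Vecs S c d τ deg A C u₀) :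
    S.card = 6 ∧ ∃ T : Finset ι, Disjoint S T ∧ T.card = 2 * Fintype.card κ ∧
      ∀ χ, χ ∉ S → χ ∉ T → ∀ u, A u χ = 0 ∧ C u χ = 0 := by
  obtain ⟨E, F, N, hdEF⟩ := V.exists_named
  obtain ⟨g, hgτ, hgE, hgF, hgEv, hg, h0g, hsum⟩ := exists_base V N
  have hE := base_notMem V N hdEF hgτ hgE hgF hgEv hg hsum
  let j₀ : Fin c := ⟨0, V.cols.pos⟩
  have hgval : ∀ j : Fin c, A u₀ g * d j g = if (j : ℕ) = 0 then -2 else 1 := fun j => by
    have e := base_eq V hsum j
    rwa [V.out j _ hE, mul_zero, zero_add] at e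
  have hg2 : d j₀ g = 2 ∨ d j₀ g = -2 := by
    have e := hgval j₀
    rw [if_pos (show (j₀ : ℕ) = 0 from rfl)] at e
    rcases hg with f | f <;> rw [f] at e <;> omega
  obtain ⟨R, H⟩ : ∃ R, Shape S c d τ deg R := by
    rcases V.cols.shape with h | ⟨-, -, h9⟩
    · exact h
    · have hgS : g ∈ S := V.mem_of_ne (j := j₀) (by omega)
      have e := h9 g hgS j₀
      rcases sgn_cases (deg g) with f | f <;> rw [f] at e <;> omega
  have hgR : g = R j₀ := H.eq_of_two V hg2
  have hgS : g ∈ S := hgR ▸ H.mem j₀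
  have hdata : ∀ v, v ≠ u₀ → ∃ h, h ≠ g ∧ h ≠ τ ∧ (∀ w, h ≠ F w) ∧ (∀ w, h ≠ E w) ∧
      A v g = A u₀ g ∧ (A v h = 1 ∨ A v h = -1) ∧
      (∀ i, i ≠ E v → i ≠ g → i ≠ h → A v i = 0) ∧
      (∀ f : ι → ℤ, ∑ i, A v i * f i = A v (E v) * f (E v) + A v g * f g + A v h * f h) ∧
      ∀ j : Fin c, A v (E v) * d j (E v) + A v h * d j h = -1 := by
    intro v hv
    have hq : A v (E u₀) = 0 := by
      by_contra hq
      obtain ⟨-, -, hs⟩ := pair_case V N hgE hgF hgEv hv hq
      have e := V.Ad v j₀
      rw [hs, if_pos (show (j₀ : ℕ) = 0 from rfl), ← hdEF u₀, V.out j₀ _ hE, mul_zero, add_zero,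
        mul_zero, add_zero] at e
      have := V.small j₀ (E v)
      rcases N.unit v with f | f <;> rw [f] at e <;> omega
    have hiv := pair_inner V N hsum hv
    rw [hq, mul_zero, zero_add] at hiv
    have hvg : A v g = A u₀ g := by rcases hg with f | f <;> rw [f] at hiv ⊢ <;> omega
    obtain ⟨h, hhg, hhτ, hF', hE', hh, h0, hs⟩ := hook_case V N hgF hgEv hv hq hvg hg
    refine ⟨h, hhg, hhτ, hF', hE', hvg, hh, h0, hs, fun j => ?_⟩
    have e := V.Ad v j
    rw [hs, hvg, hgval j] at e
    split_ifs at e <;> linarith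
  choose h hhg hhτ hhF hhE hvg hh h0 hs hrel using hdata
  -- each further vector takes one plain row
  have hcase : ∀ v (hv : v ≠ u₀),
      (E v ∈ S ∧ h v hv ∉ S) ∨ (E v ∉ S ∧ h v hv ∈ S ∧ ∀ j, h v hv ≠ R j ∧
        A v (h v hv) * d j (h v hv) = -1) := by
    intro v hv
    by_cases hvS : E v ∈ S
    · refine Or.inl ⟨hvS, fun hS => ?_⟩
      have e := hrel v hv j₀
      have habs := abs_one_pair V N hdEF hvS j₀
      have hne := V.ne_zero hS j₀
      have hsm := V.small j₀ (h v hv)
      have h2 : d j₀ (h v hv) = 2 ∨ d j₀ (h v hv) = -2 := by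
        rcases N.unit v with f | f <;> rcases hh v hv with f' | f' <;> rcases habs with f'' | f'' <;>
          rw [f, f', f''] at e <;> omega
      exact hhg v hv ((H.eq_of_two V h2).trans hgR.symm)
    · have e : ∀ j, A v (h v hv) * d j (h v hv) = -1 := fun j => by
        have e := hrel v hv j
        rwa [V.out j _ hvS, mul_zero, zero_add] at e
      refine Or.inr ⟨hvS, V.mem_of_ne (j := j₀) fun e' => ?_, fun j => ⟨fun e' => ?_, e j⟩⟩
      · have := e j₀; rw [e', mul_zero] at this; omega
      · have := e j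
        rw [e'] at this
        rcases H.at_R j with f | f <;> rw [f] at this <;>
          rcases hh v hv with f' | f' <;> rw [← e', f'] at this <;> omega
  have hnoS : ∀ v, E v ∉ S := by
    intro v₁ hv₁S
    have hv₁ : v₁ ≠ u₀ := fun e => hE (e ▸ hv₁S)
    let π : {v : κ // v ≠ u₀} → ι := fun v => if E v.1 ∈ S then E v.1 else h v.1 v.2
    have hπ : ∀ v, π v ∈ S ∧ π v ≠ τ ∧ ∀ j, π v ≠ R j := by
      intro ⟨v, hv⟩
      rcases hcase v hv with ⟨h1, -⟩ | ⟨h1, h2, h3⟩
      · simp only [π, if_pos h1]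
        exact ⟨h1, (N.ne_tau v).1, fun j => (plain_pair V N hdEF H h1 j).1⟩
      · simp only [π, if_neg h1]
        exact ⟨h2, hhτ v hv, fun j => (h3 j).1⟩
    have hinj : Function.Injective π := by
      intro ⟨v, hv⟩ ⟨w, hw⟩ e
      by_contra hne
      have hvw : v ≠ w := fun e' => hne (Subtype.ext e')
      rcases hcase v hv with ⟨h1, -⟩ | ⟨h1, -, h3⟩ <;> rcases hcase w hw with ⟨g1, -⟩ | ⟨g1, -, g3⟩
      · simp only [π, if_pos h1, if_pos g1] at e
        exact hvw (N.injE e)
      · simp only [π, if_pos h1, if_neg g1] at e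
        exact hhE w hw v e.symm
      · simp only [π, if_neg h1, if_pos g1] at e
        exact hhE v hv w e
      · simp only [π, if_neg h1, if_neg g1] at e
        have hEv0 : A w (E v) = 0 :=
          h0 w hw _ (fun e' => hvw (N.injE e')) (hgEv v).symm (hhE w hw v).symm
        have hAA := V.AA v w
        rw [if_neg hvw, hs v hv, hEv0, mul_zero, zero_add, hvg v hv, hvg w hw] at hAA
        have a1 := (h3 j₀).2
        have a2 := (g3 j₀).2
        rw [← e] at a2
        rcases hg with f | f <;> rcases hh v hv with f' | f' <;> rcases hh w hw with f'' | f'' <;>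
          rw [← e] at f'' <;> rw [f, f', f''] at hAA <;> rw [f'] at a1 <;> rw [f''] at a2 <;> omega
    have hFimg : F v₁ ∉ Finset.univ.image π := by
      intro hm
      obtain ⟨⟨v, hv⟩, -, e⟩ := Finset.mem_image.1 hm
      by_cases h1 : E v ∈ S
      · simp only [π, if_pos h1] at e
        exact N.ne v v₁ e
      · simp only [π, if_neg h1] at e
        exact hhF v hv v₁ e
    have hFp := plain_pair V N hdEF H hv₁S
    have hT : insert τ (insert (F v₁) (Finset.univ.image π)) ⊆ S :=
      Finset.insert_subset V.cols.tau_mem (Finset.insert_subset (V.mem_F v₁ hdEF hv₁S)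
        (Finset.image_subset_iff.2 fun v _ => (hπ v).1))
    have hle := H.card_plain hT fun j hm => by
      simp only [Finset.mem_insert, Finset.mem_image, Finset.mem_univ, true_and] at hm
      rcases hm with e | e | ⟨v, e⟩
      · exact H.ne_tau j e
      · exact (hFp j).2 e.symm
      · exact (hπ v).2.2 j e
    rw [Finset.card_insert_of_notMem (by
        simp only [Finset.mem_insert, Finset.mem_image, Finset.mem_univ, true_and, not_or,
          not_exists]
        exact ⟨(N.ne_tau v₁).2.symm, fun v => (hπ v).2.1⟩),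
      Finset.card_insert_of_notMem hFimg, Finset.card_image_of_injective _ hinj, Finset.card_univ,
      Fintype.card_subtype_compl, Fintype.card_subtype_eq] at hle
    have := V.card_add
    have := Fintype.card_pos_iff.2 ⟨u₀⟩
    omega
  have hnoF : ∀ v, F v ∉ S := fun v hS => hnoS v
    (V.mem_of_ne (j := j₀) (by rw [hdEF]; exact V.ne_zero hS _))
  refine ⟨H.card, Finset.univ.image E ∪ Finset.univ.image F, ?_, ?_, fun χ hχS hχT u => ?_⟩
  · refine Finset.disjoint_left.2 fun x hx hx' => ?_
    rcases Finset.mem_union.1 hx' with h' | h' <;> obtain ⟨v, -, rfl⟩ := Finset.mem_image.1 h'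
    exacts [hnoS v hx, hnoF v hx]
  · rw [Finset.card_union_of_disjoint (Finset.disjoint_left.2 fun x hx hx' => by
        obtain ⟨a, -, rfl⟩ := Finset.mem_image.1 hx
        obtain ⟨b, -, e⟩ := Finset.mem_image.1 hx'
        exact N.ne a b e.symm),
      Finset.card_image_of_injective _ N.injE, Finset.card_image_of_injective _ N.injF,
      Finset.card_univ, two_mul]
  · simp only [Finset.mem_union, Finset.mem_image, Finset.mem_univ, true_and, not_or,
      not_exists] at hχT
    refine ⟨?_, N.Czero u χ (fun e => hχT.1 u e.symm) fun e => hχT.2 u e.symm⟩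
    by_cases hu : u = u₀
    · subst hu
      exact h0g χ (fun e => hχS (e ▸ V.cols.tau_mem)) (fun e => hχT.1 u e.symm)
        fun e => hχS (e ▸ hgS)
    · rcases hcase u hu with ⟨h1, -⟩ | ⟨-, h2, -⟩
      · exact absurd h1 (hnoS u)
      · exact h0 u hu χ (fun e => hχT.1 u e.symm) (fun e => hχS (e ▸ hgS)) fun e => hχS (e ▸ h2)


end Cfsg.Lib.Block.ExtraThree
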