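import Cfsg.Agent.Lib.Block.ExtraThree.Main
import Cfsg.Agent.Lib.Block.ExtraThree.Orbits

/-!
# The local data of a group with an extraspecial Sylow subgroup of order 27
-/

set_option autoImplicit false
set_option linter.unusedSectionVars false
set_option linter.style.haveILetI false

namespace Cfsg.Lib.Block.ExtraThree

open Cfsg Cfsg.Lib Cfsg.Lib.Block Subgroup

universe u

/-- The orbit representatives, with their inverses in their orbits. -/
structure Reps {G : Type u} [Group G] (P : Subgroup G) (z : G) {c : ℕ} (X : Fin c → G) : Prop where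
  pos : 0 < c
  mem : ∀ j, X j ∈ P ∧ X j ∉ zpowers z
  sep : ∀ i j, ∀ n ∈ normalizer (P : Set G), n * X i * n⁻¹ = X j → i = j
  cover : ∀ x ∈ P, x ∉ zpowers z → ∃ j, ∃ n ∈ normalizer (P : Set G), n * X j * n⁻¹ = x
  inv : ∀ j, ∃ n ∈ normalizer (P : Set G), n * X j * n⁻¹ = (X j)⁻¹

theorem Ext.orderOf_eq {G : Type u} [Group G] {P : Subgroup G} {z x : G} (h : Ext P z)
    (hx : x ∈ P) (hxz : x ∉ zpowers z) : orderOf x = 3 := by
  haveI : Fact (Nat.Prime 3) := ⟨Nat.prime_three⟩
  exact orderOf_eq_prime (h.exp x hx) fun e => hxz (e ▸ one_mem _)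

noncomputable local instance (priority := high) fintypeSubgroupSetup {A : Type u} [Group A]
    [Fintype A] (B : Subgroup A) : Fintype B := Fintype.ofFinite B

variable {G : Type u} [Group G] [Fintype G] {P : Sylow 3 G} {z : G}
  (h : Ext (P : Subgroup G) z)
  (hN : ∀ n ∈ normalizer ((P : Subgroup G) : Set G), n * z = z * n)

include h hN in
theorem Ext.local_of_reps {c : ℕ} {X : Fin c → G} (R : Reps (P : Subgroup G) z X) : Local z X := by
  haveI : Fact (Nat.Prime 3) := ⟨Nat.prime_three⟩
  refine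
    { pos := R.pos
      z_order := h.order
      x_order := fun j => h.orderOf_eq (R.mem j).1 (R.mem j).2
      z_inv := fun hc => by
        obtain ⟨g, hg⟩ := isConj_iff.1 hc
        exact h.conj_ne_inv hN g hg
      sep := fun i j hc => ?_
      zx := fun j => ⟨fun hc => ?_, fun hc => ?_⟩
      inv := fun j => ?_
      twist := fun j => ?_
      cover := fun g hg => ?_
      compl := fun j => h.complement hN (R.mem j).1 (R.mem j).2
      card_cen := fun j => h.card_centralizer hN (R.mem j).1 (R.mem j).2 }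
  · obtain ⟨g, hg⟩ := isConj_iff.1 hc
    obtain ⟨n, hn, hne⟩ := h.fusion hN (R.mem i).1 (R.mem i).2 (g := g) (hg ▸ (R.mem j).1)
    exact R.sep i j n hn (hne.trans hg)
  · obtain ⟨g, hg⟩ := isConj_iff.1 hc
    have := h.weakly_closed hN (g := g) (hg ▸ (R.mem j).1)
    exact (R.mem j).2 (by rw [← hg, this]; exact mem_zpowers z)
  · obtain ⟨g, hg⟩ := isConj_iff.1 hc
    have e : g * z * g⁻¹ = (X j)⁻¹ := by rw [← hg]; group
    have := h.weakly_closed hN (g := g) (by rw [e]; exact inv_mem (R.mem j).1)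
    exact (R.mem j).2 (inv_mem_iff.1 (by rw [← e, this]; exact mem_zpowers z))
  · obtain ⟨n, -, hn⟩ := R.inv j
    exact isConj_iff.2 ⟨n, hn⟩
  · obtain ⟨t, ht, htx⟩ := h.exists_twist (R.mem j).1 (R.mem j).2
    exact ⟨t, (h.central t ht).symm, htx⟩
  · obtain ⟨k, hk⟩ := hg
    obtain ⟨T, hT⟩ := (IsPGroup.of_card (p := 3) (n := k)
      (by rw [Nat.card_zpowers, hk])).exists_le_sylow (G := G) (P := zpowers g)
    obtain ⟨a, ha⟩ := MulAction.exists_smul_eq G T P
    have hga : a * g * a⁻¹ ∈ (P : Subgroup G) := by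
      rw [← ha, Sylow.coe_subgroup_smul, Subgroup.mem_pointwise_smul_iff_inv_smul_mem]
      simp only [MulAut.smul_def, MulAut.inv_apply, MulAut.conj_symm_apply]
      rw [show a⁻¹ * (a * g * a⁻¹) * a = g by group]
      exact hT (mem_zpowers g)
    have hconj : IsConj (a * g * a⁻¹) g := (isConj_iff.2 ⟨a, rfl⟩).symm
    by_cases hm : a * g * a⁻¹ ∈ zpowers z
    · rcases mem_zpowers_three h.order hm with e | e | e <;> rw [e] at hconj
      · exact Or.inl (isConj_one_right.1 hconj)
      · exact Or.inr (Or.inl hconj)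
      · exact Or.inr (Or.inr (Or.inl hconj))
    · obtain ⟨j, n, -, hn⟩ := R.cover _ hga hm
      exact Or.inr (Or.inr (Or.inr ⟨j, (isConj_iff.2 ⟨n, hn⟩).trans hconj⟩))

include h hN in
theorem Ext.normalizer_le : normalizer ((P : Subgroup G) : Set G) ≤ centralizer ({z} : Set G) :=
  fun n hn => mem_centralizer_singleton_iff.2 (hN n hn)

include h hN in
/-- Both sets of local data. -/
theorem Ext.exists_locals {c : ℕ} {X : Fin c → G} (R : Reps (P : Subgroup G) z X) :
    ∃ hX : ∀ j, X j ∈ centralizer ({z} : Set G), Local z X ∧ Local (zH z) (xH hX) := by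
  have hPH : (P : Subgroup G) ≤ centralizer ({z} : Set G) := fun a ha =>
    mem_centralizer_singleton_iff.2 (h.central a ha).symm
  have hX : ∀ j, X j ∈ centralizer ({z} : Set G) := fun j => hPH (R.mem j).1
  refine ⟨hX, h.local_of_reps hN R, ?_⟩
  set H := centralizer ({z} : Set G) with hH
  set P' : Sylow 3 H := P.subtype hPH with hP'
  have hm : ∀ a : H, a ∈ (P' : Subgroup H) ↔ (a : G) ∈ (P : Subgroup G) := fun a => by
    rw [hP', Sylow.coe_subtype, mem_subgroupOf]
  have hpw : ∀ a : H, a ∈ zpowers (zH z) ↔ (a : G) ∈ zpowers z := fun a => by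
    constructor
    · rintro ⟨i, rfl⟩
      exact ⟨i, by simp [zH]⟩
    · rintro ⟨i, hi⟩
      exact ⟨i, Subtype.ext (by simpa [zH] using hi)⟩
  have h' : Ext (P' : Subgroup H) (zH z) :=
    { card := by
        rw [hP', Sylow.coe_subtype, Nat.card_congr (subgroupOfEquivOfLe hPH).toEquiv, h.card]
      exp := fun a ha => Subtype.ext (by simpa using h.exp _ ((hm a).1 ha))
      mem := (hm _).2 h.mem
      order := by rw [← h.order, zH, Subgroup.orderOf_mk]
      central := fun a ha => Subtype.ext (h.central _ ((hm a).1 ha))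
      center_le := fun w hw hcw => (hpw w).2 (h.center_le _ ((hm w).1 hw) fun y hy =>
        congrArg Subtype.val (hcw ⟨y, hPH hy⟩ ((hm _).2 hy)))
      comm := fun a ha b hb => (hpw _).2 (by
        simpa using h.comm _ ((hm a).1 ha) _ ((hm b).1 hb)) }
  have hnorm : ∀ n : H, n ∈ normalizer ((P' : Subgroup H) : Set H) ↔
      (n : G) ∈ normalizer ((P : Subgroup G) : Set G) := fun n => by
    constructor
    · intro hn
      refine mem_normalizer_of_conj_mem fun a ha => ?_
      have := (mem_normalizer_iff.1 hn ⟨a, hPH ha⟩).1 ((hm _).2 ha)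
      exact (hm _).1 this
    · intro hn
      refine mem_normalizer_of_conj_mem fun a ha => (hm _).2 ?_
      exact (mem_normalizer_iff.1 hn _).1 ((hm a).1 ha)
  have hN' : ∀ n ∈ normalizer ((P' : Subgroup H) : Set H), n * zH z = zH z * n :=
    fun n hn => Subtype.ext (hN _ ((hnorm n).1 hn))
  refine h'.local_of_reps hN'
    { pos := R.pos
      mem := fun j => ⟨(hm _).2 (R.mem j).1, fun hz => (R.mem j).2 ((hpw _).1 hz)⟩
      sep := fun i j n hn e => R.sep i j n ((hnorm n).1 hn) (congrArg Subtype.val e)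
      cover := fun x hx hxz => ?_
      inv := fun j => ?_ }
  · obtain ⟨j, n, hn, e⟩ := R.cover x ((hm x).1 hx) fun hz => hxz ((hpw x).2 hz)
    exact ⟨j, ⟨n, h.normalizer_le hN hn⟩, (hnorm _).2 hn, Subtype.ext e⟩
  · obtain ⟨n, hn, e⟩ := R.inv j
    exact ⟨⟨n, h.normalizer_le hN hn⟩, (hnorm _).2 hn, Subtype.ext e⟩

variable {M : Ideal AlgInt}

include h hN in
/-- The invariants for an inertial quotient of even order. -/
theorem Ext.invariants (hM : IsPModular 3 M) {e : ℕ}
    (he : (innerGroup (P : Subgroup G)).relIndex (normalizer ((P : Subgroup G) : Set G)) = e)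
    (h248 : e = 2 ∨ e = 4 ∨ e = 8) :
    ∃ c : ℕ, c * e = 8 ∧ Nat.card (principalBlock M G) + 2 * c = 18 ∧
      Nat.card {χ : IrrCharacter G // χ ∈ principalBlock M G ∧
        blockHeight 3 (principalBlock M G) (χ : G → ℂ) = 0} = 6 ∧
      blockRank 3 (principalBlock M G) + c = 6 := by
  have h3 : ¬ 3 ∣ (innerGroup (P : Subgroup G)).relIndex
      (normalizer ((P : Subgroup G) : Set G)) := by
    rw [he]; omega
  obtain ⟨c, X, hce, hmem, hsep, hcov⟩ := h.exists_reps hN h3
  rw [he] at hce
  have hc : c = 1 ∨ c = 2 ∨ c = 4 := by rcases h248 with rfl | rfl | rfl <;> omega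
  have R : Reps (P : Subgroup G) z X :=
    { pos := by omega
      mem := hmem
      sep := hsep
      cover := hcov
      inv := fun j => h.exists_inverting hN h3 (by rw [he]; omega) (hmem j).1 (hmem j).2 }
  obtain ⟨hX, L, LH⟩ := h.exists_locals hN R
  exact ⟨c, hce, L.counts hX LH hM hc⟩

end Cfsg.Lib.Block.ExtraThree
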