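import Cfsg.Agent.Lib.Block.ExtraThree.Setup
import Cfsg.Agent.Lib.Fusion.Alperin
import Cfsg.Agent.Lib.Char.ComplementDegree
import Cfsg.Agent.Lib.Char.Quotient
import Cfsg.Agent.Lib.Char.Formulas

/-!
# The case of a trivial inertial quotient

The group has a normal three-complement and the principal block is the set of irreducible
characters of the Sylow subgroup.
-/

set_option autoImplicit false
set_option linter.unusedSectionVars false
set_option linter.style.haveILetI false
set_option maxHeartbeats 400000

namespace Cfsg.Lib.Block.ExtraThree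

open Cfsg Cfsg.Lib Cfsg.Lib.Block Subgroup
open scoped ComplexConjugate Classical

universe u

noncomputable local instance (priority := high) fintypeSubgroupTrivial {A : Type u} [Group A]
    [Fintype A] (B : Subgroup A) : Fintype B := Fintype.ofFinite B

variable {G : Type u} [Group G] [Fintype G] {P : Sylow 3 G} {z : G}
  (h : Ext (P : Subgroup G) z)
  (hN : ∀ n ∈ normalizer ((P : Subgroup G) : Set G), n * z = z * n)

include h in
/-- The extraspecial group of order 27 has eleven classes. -/
theorem Ext.card_conjClasses : Nat.card (ConjClasses (P : Subgroup G)) = 11 := by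
  set Q := (P : Subgroup G)
  have hpair := card_comm_eq_card_conjClasses_mul_card Q
  let eqv : {p : Q × Q // Commute p.1 p.2} ≃ Σ a : Q, centralizer ({a} : Set Q) :=
    { toFun := fun p => ⟨p.1.1, p.1.2, mem_centralizer_singleton_iff.2 p.2.symm.eq⟩
      invFun := fun p => ⟨(p.1, p.2.1), (mem_centralizer_singleton_iff.1 p.2.2).symm⟩
      left_inv := fun _ => rfl
      right_inv := fun _ => rfl }
  rw [Nat.card_congr eqv, Nat.card_sigma, Finset.sum_congr rfl
    (g := fun a : Q => if (a : G) ∈ zpowers z then 27 else 9) fun a _ => ?_] at hpair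
  · have e3 : (Finset.univ.filter fun a : Q => (a : G) ∈ zpowers z).card = 3 := by
      rw [← Fintype.card_subtype, ← Nat.card_eq_fintype_card]
      exact ((Nat.card_congr (Equiv.subtypeSubtypeEquivSubtype
        (p := fun a => a ∈ Q) (q := fun a => a ∈ zpowers z) fun hz => h.zpowers_le hz)).trans
          (Nat.card_zpowers z)).trans h.order
    have e27 : Fintype.card Q = 27 := by rw [← Nat.card_eq_fintype_card]; exact h.card
    have e24 := Finset.card_filter_add_card_filter_not (s := (Finset.univ : Finset Q))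
      (fun a : Q => (a : G) ∈ zpowers z)
    rw [Finset.card_univ, e27, e3] at e24
    rw [Finset.sum_ite, Finset.sum_const, Finset.sum_const, e3, smul_eq_mul, smul_eq_mul,
      h.card] at hpair
    omega
  · split_ifs with ha
    · have e : centralizer ({a} : Set Q) = ⊤ := eq_top_iff.2 fun b _ => by
        rw [mem_centralizer_singleton_iff]
        refine Subtype.ext ?_
        obtain ⟨i, hi⟩ := mem_zpowers_iff.1 ha
        show (b : G) * (a : G) = (a : G) * (b : G)
        rw [← hi]
        exact ((show Commute z (b : G) from h.central _ b.2).zpow_left i).symm.eq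
      rw [e, Subgroup.card_top, h.card]
    · rw [← h.card_inf a.2 ha]
      refine Nat.card_congr ⟨fun b => ⟨b.1.1, b.1.2, mem_centralizer_singleton_iff.2
        (congrArg Subtype.val (mem_centralizer_singleton_iff.1 b.2))⟩,
        fun b => ⟨⟨b.1, b.2.1⟩, mem_centralizer_singleton_iff.2
          (Subtype.ext (mem_centralizer_singleton_iff.1 b.2.2))⟩, fun _ => rfl, fun _ => rfl⟩

include h hN in
theorem Ext.complement_of_trivial
    (he : (innerGroup (P : Subgroup G)).relIndex (normalizer ((P : Subgroup G) : Set G)) = 1) :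
    HasNormalPComplement 3 G := by
  haveI : Fact (Nat.Prime 3) := ⟨Nat.prime_three⟩
  refine Fusion.hasNormalPComplement_of_controls P fun x hx g hg => ?_
  by_cases hxz : x ∈ zpowers z
  · rcases mem_zpowers_three h.order hxz with rfl | rfl | rfl
    · exact ⟨1, one_mem _, by simp⟩
    · exact ⟨1, one_mem _, by rw [h.weakly_closed hN hg]; simp⟩
    · refine ⟨1, one_mem _, ?_⟩
      have e : g * z * g⁻¹ = z := h.weakly_closed hN (by
        have := inv_mem hg
        rwa [show (g * z⁻¹ * g⁻¹)⁻¹ = g * z * g⁻¹ by group] at this)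
      rw [show g * z⁻¹ * g⁻¹ = (g * z * g⁻¹)⁻¹ by group, e]
      simp
  · obtain ⟨n, hn, hne⟩ := h.fusion hN hx hxz hg
    have hm := (h.innerGroup_le_movers hx (relIndex_eq_one.1 he hn)).2
    obtain ⟨q, hq, hqx⟩ := h.exists_conj hx hxz hm
    refine ⟨q, hq, hqx.trans ?_⟩
    obtain ⟨i, hi⟩ := mem_zpowers_iff.1 hm
    rw [← hi, ((show Commute z x from h.central x hx).zpow_left i).symm.eq, hi,
      inv_mul_cancel_right, hne]

variable {M : Ideal AlgInt}

include h hN in
/-- The invariants for a trivial inertial quotient. -/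
theorem Ext.invariants_trivial (hM : IsPModular 3 M)
    (he : (innerGroup (P : Subgroup G)).relIndex (normalizer ((P : Subgroup G) : Set G)) = 1) :
    Nat.card (principalBlock M G) = 11 ∧
      Nat.card {χ : IrrCharacter G // χ ∈ principalBlock M G ∧
        blockHeight 3 (principalBlock M G) (χ : G → ℂ) = 0} = 9 ∧
      blockRank 3 (principalBlock M G) = 1 := by
  haveI : Fact (Nat.Prime 3) := ⟨Nat.prime_three⟩
  have hc := h.complement_of_trivial hN he
  obtain ⟨N, hNn, hNc⟩ := (Fusion.hasNormalPComplement_iff_exists P).1 hc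
  have hidx : N.index = 27 := by rw [hNc.symm.index_eq_card]; exact h.card
  have hN3 : ¬ 3 ∣ Nat.card N := by rw [← hNc.index_eq_card]; exact P.not_dvd_index
  have hB := principalBlock_eq_of_complement hM hN3 ⟨3, by rw [hidx]; norm_num⟩
  have hbij : Function.Bijective ((QuotientGroup.mk' N).comp (P : Subgroup G).subtype) := by
    rw [Nat.bijective_iff_injective_and_card]
    refine ⟨(injective_iff_map_eq_one _).2 fun a ha => ?_, ?_⟩
    · have ha' : (a : G) ∈ N := (QuotientGroup.eq_one_iff _).1 ha
      exact Subtype.ext (Subgroup.disjoint_def.1 hNc.disjoint ha' a.2)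
    · rw [← Subgroup.index_eq_card, hidx]; exact h.card
  set Q := G ⧸ N with hQ
  haveI : Fintype Q := Fintype.ofFinite Q
  have hQ11 : Fintype.card (IrrCharacter Q) = 11 := by
    rw [← Nat.card_eq_fintype_card,
      ← Char.card_irr_congr (MulEquiv.ofBijective _ hbij),
      Char.card_irr_eq_card_conjClasses, h.card_conjClasses]
  have hQ27 : Nat.card Q = 27 := by rw [← hidx, Subgroup.index_eq_card]
  let eB : IrrCharacter Q ≃ {χ : IrrCharacter G // χ ∈ principalBlock M G} :=
    (Char.irrQuotientEquiv N).trans (Equiv.subtypeEquivRight fun χ => by rw [hB]; rfl)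
  have hdeg : ∀ ψ : IrrCharacter Q, charDegree ((eB ψ).1 : G → ℂ) = charDegree (ψ : Q → ℂ) :=
    fun ψ => rfl
  have hsum : ∑ ψ : IrrCharacter Q, charDegree (ψ : Q → ℂ) ^ 2 = 27 := by
    have e := Char.sum_sq_degree (G := Q)
    simp only [apply_one_eq_charDegree, hQ27] at e
    exact_mod_cast e
  have hd : ∀ ψ : IrrCharacter Q,
      charDegree (ψ : Q → ℂ) = 1 ∨ charDegree (ψ : Q → ℂ) = 3 := by
    intro ψ
    have h1 : charDegree (ψ : Q → ℂ) ∣ 3 ^ 3 := by
      have := Char.charDegree_dvd_card ψ.2
      rwa [hQ27] at this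
    obtain ⟨i, hi, hd⟩ := (Nat.dvd_prime_pow Nat.prime_three).1 h1
    have h2 : charDegree (ψ : Q → ℂ) ^ 2 ≤ 27 := hsum ▸ Finset.single_le_sum
      (f := fun φ : IrrCharacter Q => charDegree (φ : Q → ℂ) ^ 2) (fun _ _ => Nat.zero_le _)
      (Finset.mem_univ ψ)
    rcases (show i = 0 ∨ i = 1 ∨ i = 2 ∨ i = 3 by omega) with rfl | rfl | rfl | rfl
    · exact Or.inl (by rw [hd, pow_zero])
    · exact Or.inr (by rw [hd, pow_one])
    · rw [hd] at h2; norm_num at h2
    · rw [hd] at h2; norm_num at h2
  refine ⟨?_, ?_, (hasNormalPComplement_iff_rank_one hM).1 hc⟩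
  · rw [← hQ11, ← Nat.card_eq_fintype_card]
    exact (Nat.card_congr eB).symm
  · have e : Nat.card {χ : IrrCharacter G // χ ∈ principalBlock M G ∧
        blockHeight 3 (principalBlock M G) (χ : G → ℂ) = 0} =
        (Finset.univ.filter fun ψ : IrrCharacter Q => charDegree (ψ : Q → ℂ) = 1).card := by
      rw [← Fintype.card_subtype, ← Nat.card_eq_fintype_card]
      refine Nat.card_congr ((Equiv.subtypeSubtypeEquivSubtypeInter _ _).symm.trans
        ((eB.subtypeEquiv fun ψ => ?_).symm))
      show charDegree (ψ : Q → ℂ) = 1 ↔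
        blockHeight 3 (principalBlock M G) ((eB ψ).1 : G → ℂ) = 0
      rw [blockHeight_eq_zero_iff hM (eB ψ), unitRows, Finset.mem_filter, degBlk, hdeg]
      rcases hd ψ with e | e <;> simp [e]
    rw [e]
    have hsplit := Finset.card_filter_add_card_filter_not (s := (Finset.univ : Finset
      (IrrCharacter Q))) (fun ψ : IrrCharacter Q => charDegree (ψ : Q → ℂ) = 1)
    rw [Finset.card_univ, hQ11] at hsplit
    have hs : ∑ ψ : IrrCharacter Q, charDegree (ψ : Q → ℂ) ^ 2 =
        ∑ ψ : IrrCharacter Q, if charDegree (ψ : Q → ℂ) = 1 then 1 else 9 :=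
      Finset.sum_congr rfl fun ψ _ => by rcases hd ψ with e | e <;> simp [e]
    rw [hsum, Finset.sum_ite, Finset.sum_const, Finset.sum_const, smul_eq_mul, smul_eq_mul] at hs
    omega

end Cfsg.Lib.Block.ExtraThree
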